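import Cfsg.Agent.H659.PU.Over_m3
import Cfsg.Agent.H650.Q5.HomU_m3
import Cfsg.Agent.H805.PU.Main_m3
import Mathlib
import Cfsg.Agent.H802.FusEss
import Cfsg.Agent.EvenType.StrongP
import Cfsg.Agent.Solvable.Glauberman
import Cfsg.Agent.Omega.Quasithin.Row.MTwelve
import Cfsg.Agent.Lib.FinFast
import Cfsg.Agent.LieClassical.SympCount
import Cfsg.Agent.Lib.FrattiniPGroup
import Cfsg.Agent.H205.TE.P2_m3
import Cfsg.Agent.H756.PU.AsmGen
import Cfsg.Agent.FastGrp
import Cfsg.Agent.Prune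
set_option linter.all false

section
prune_inst 0x7f00000000000000000000000000000000000000000000000000000000000000000000000000000000000000000000000000000000000000000000000000000000000000000000000000000000000000003fffffffffffffffffffffffffffbeffbdffffffff

-- part: H779/G2/Stmts3
section
set_option linter.all false

/-!
# S5211: statements, third part (`p = 2`, the short root parabolic, `q = 4`, `q = 3`)
-/

set_option autoImplicit false

namespace Cfsg.Agent.H779.G2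

open Cfsg Cfsg.FusionSystem Cfsg.Agent.H756.PU

universe u v

/-- (E2b) `p = 2`, `q ≥ 4`, `E ≤ Q_b` -/
def StE2b : Prop :=
  ∀ {K : Type u} [Field K] {n : ℕ}, HypG K 2 n → 2 ≤ n →
    ∀ {E : Subgroup (GU K)} {Γ : Subgroup (MulAut E)}, Ess (⊤ : Subgroup (GU K)) E 2 Γ → E ≤ Qb K →
    ¬ E ≤ Qa K → E = Qb K

/-- (E2c) `p = 2`, `q ≥ 4`, `E ≰ Q_a, Q_b` -/
def StE2c : Prop :=
  ∀ {K : Type u} [Field K] {n : ℕ}, HypG K 2 n → 2 ≤ n →
    ∀ {E : Subgroup (GU K)} {Γ : Subgroup (MulAut E)}, Ess (⊤ : Subgroup (GU K)) E 2 Γ → ¬ E ≤ Qb K →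
    ¬ E ≤ Qa K → Qb K ≤ E ∧ Inv Γ (Qb K)

/-- (SEM) automorphisms of `Q_a`, `p ≠ 3`, are semilinear on `Q_a / Z₁ = K⁴`, with the same field automorphism on `Z₁`
and multiply the form: `γ` acts on `Z₁` as `m·τ` -/
def StSem : Prop :=
  ∀ {K : Type u} [Field K] {p n : ℕ}, HypG K p n → p ≠ 3 → ∀ γ : MulAut (Qa K),
    ∃ (τ : K ≃+* K) (M : Matrix (Fin 4) (Fin 4) K) (m : K), m ≠ 0 ∧
      (∀ g : Qa K, ((γ g : Qa K) : GU K).b = M 0 0 * τ (g : GU K).b + M 0 1 * τ (g : GU K).c + M 0 2 * τ (g : GU K).d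
        + M 0 3 * τ (g : GU K).e) ∧
      (∀ g : Qa K, ((γ g : Qa K) : GU K).c = M 1 0 * τ (g : GU K).b + M 1 1 * τ (g : GU K).c + M 1 2 * τ (g : GU K).d
        + M 1 3 * τ (g : GU K).e) ∧
      (∀ g : Qa K, ((γ g : Qa K) : GU K).d = M 2 0 * τ (g : GU K).b + M 2 1 * τ (g : GU K).c + M 2 2 * τ (g : GU K).d
        + M 2 3 * τ (g : GU K).e) ∧
      (∀ g : Qa K, ((γ g : Qa K) : GU K).e = M 3 0 * τ (g : GU K).b + M 3 1 * τ (g : GU K).c + M 3 2 * τ (g : GU K).d
        + M 3 3 * τ (g : GU K).e) ∧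
      (∀ g : Qa K, (g : GU K) ∈ Z1 K → ((γ g : Qa K) : GU K) ∈ Z1 K ∧ ((γ g : Qa K) : GU K).f = m * τ (g : GU K).f)

/-- (U2) the abstract rank one identification, `p ≥ 5`, noncyclic case: a finite group with a non-normal elementary abelian TI Sylow
`p`-subgroup of order `q = pⁿ`, `n ≥ 2`, whose normalizer is transitive on `P ∖ 1`, of order dividing that of `ΓSp₄(q)` -/
def StU2 : Prop :=
  ∀ {G : Type u} [Group G] [Finite G] {p n : ℕ} [Fact p.Prime] (P : Sylow p G), 5 ≤ p → 2 ≤ n →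
    (∀ g : G, g ∉ Subgroup.normalizer ((P : Subgroup G) : Set G) → ∀ x ∈ (P : Subgroup G), g * x * g⁻¹ ∈ (P : Subgroup G) →
      x = 1) →
    ¬ (P : Subgroup G).Normal → Nat.card P = p ^ n → (∀ x ∈ (P : Subgroup G), x ^ p = 1) →
    (∀ x ∈ (P : Subgroup G), ∀ y ∈ (P : Subgroup G), x * y = y * x) →
    (∀ x ∈ (P : Subgroup G), ∀ y ∈ (P : Subgroup G), x ≠ 1 → y ≠ 1 →
      ∃ g ∈ Subgroup.normalizer ((P : Subgroup G) : Set G), g * x * g⁻¹ = y) →
    Nat.card (Subgroup.normalClosure ((P : Subgroup G) : Set G)) ∣ (p ^ n) ^ 4 * ((p ^ n) ^ 2 - 1) * ((p ^ n) ^ 4 - 1) →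
    (∀ P' P'' : Sylow p G, P' ≠ P → P'' ≠ P → ∃ x ∈ (P : Subgroup G),
      (P' : Subgroup G).map (MulAut.conj x).toMonoidHom = P'') ∧
    (∀ P' : Sylow p G, P' ≠ P → ∃ x y : G, x ∈ (P : Subgroup G) ∧ x ≠ 1 ∧ y ∈ (P' : Subgroup G) ∧
      (P : Subgroup G).map (MulAut.conj (x * y * x)).toMonoidHom = P' ∧
      (P' : Subgroup G).map (MulAut.conj (x * y * x)).toMonoidHom = P) ∧
    (∃ h ∈ Subgroup.normalizer ((P : Subgroup G) : Set G), h ∈ Subgroup.normalClosure ((P : Subgroup G) : Set G) ∧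
      ∀ k : ℕ, 0 < k → 2 * k < p ^ n - 1 → ∀ x ∈ (P : Subgroup G), x ≠ 1 → h ^ k * x * (h ^ k)⁻¹ ≠ x)

/-- the matrix of `x_α(u)` on `Q_a / Z₁` (conjugation), basis `b, c, d, e`, column vectors -/
def Xm {K : Type u} [Field K] (t : K) : Matrix (Fin 4) (Fin 4) K :=
  !![1, 0, 0, 0; -t, 1, 0, 0; t ^ 2, -2 * t, 1, 0; -t ^ 3, 3 * t ^ 2, -3 * t, 1]

/-- the matrix of the commutator form of `Q_a` on `Q_a / Z₁` -/
def Om {K : Type u} [Field K] : Matrix (Fin 4) (Fin 4) K :=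
  !![0, 0, 0, 1; 0, 0, -3, 0; 0, 3, 0, 0; -1, 0, 0, 0]

/-- (WALG) the algebra: a `K`-linear antidiagonal isometry `w` such that `x(1) w x(r) w⁻¹ x(1)` is antidiagonal; then this product is
the standard Weyl matrix -/
def StWAlg : Prop :=
  ∀ {K : Type u} [Field K], (3 : K) ≠ 0 → ∀ (x y z t r : K), x ≠ 0 → y ≠ 0 → z ≠ 0 → t ≠ 0 →
    (let w : Matrix (Fin 4) (Fin 4) K := !![0, 0, 0, x; 0, 0, y, 0; 0, z, 0, 0; t, 0, 0, 0]
     let w' : Matrix (Fin 4) (Fin 4) K := !![0, 0, 0, t⁻¹; 0, 0, z⁻¹, 0; 0, y⁻¹, 0, 0; x⁻¹, 0, 0, 0]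
     w.transpose * Om * w = Om →
     (∀ i j : Fin 4, (i : ℕ) + (j : ℕ) ≠ 3 → (Xm 1 * (w * Xm r * w') * Xm 1 : Matrix (Fin 4) (Fin 4) K) i j = 0) →
     Xm 1 * (w * Xm r * w') * Xm 1 = !![0, 0, 0, 1; 0, 0, -1, 0; 0, 1, 0, 0; -1, 0, 0, 0])

/-- (La5) `p ≥ 5`, `q ≥ 8`; (La2) `p = 2`, `q ≥ 8`; `Γ` does not leave `Z₂` or `Z₃` invariant (core-freeness) -/
def StLaP (P : ℕ → ℕ → Prop) : Prop :=
  ∀ {K : Type u} [Field K] {p n : ℕ}, HypG K p n → P p n → 8 ≤ p ^ n →
    ∀ (Γ : Subgroup (MulAut (Qa K))) (D : Subgroup (MulAut (GU K))), Par p (Qa K) Γ D →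
    HasTor D (fun t => t⁻¹) (fun t => t ^ 2) → ¬ Inv Γ (Z2 K) → ¬ Inv Γ (Z3 K) →
    HasTor D (fun t => t ^ 2) (fun t => (t ^ 3)⁻¹) ∧ (Full D → Γ = Gen IsWa D)

/-! ### `q = 4` -/

/-- the swap automorphism for `q = 4` -/
structure IsSw {K : Type u} [Field K] (α : MulAut (GU K)) : Prop where
  a : ∀ g : GU K, (α g).a = g.a ^ 2
  b : ∀ g : GU K, (α g).b = g.b
  c : ∀ g : GU K, (α g).c = g.d
  d : ∀ g : GU K, (α g).d = g.c
  e : ∀ g : GU K, (α g).e = g.e
  f : ∀ g : GU K, (α g).f = g.f + g.c * g.d + g.e ^ 2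

/-- the central automorphism for `q = 4`: `x_β(v) ↦ x_β(v) x_{3α+2β}(k v²)` -/
structure IsCe4 {K : Type u} [Field K] (k : K) (α : MulAut (GU K)) : Prop where
  a : ∀ g : GU K, (α g).a = g.a
  b : ∀ g : GU K, (α g).b = g.b
  c : ∀ g : GU K, (α g).c = g.c
  d : ∀ g : GU K, (α g).d = g.d
  e : ∀ g : GU K, (α g).e = g.e
  f : ∀ g : GU K, (α g).f = g.f + k * g.b ^ 2

/-- `q = 4`: the automorphisms -/
def StAut4 : Prop :=
  ∀ {K : Type u} [Field K], HypG K 2 2 → (∃ α : MulAut (GU K), IsSw α) ∧ (∀ k : K, ∃ α : MulAut (GU K), IsCe4 k α)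

/-- `q = 4`, `Q_b`: the `Γ`-invariant subgroup is `Z₃` or its image under the swap -/
def StLb4a : Prop :=
  ∀ {K : Type u} [Field K], HypG K 2 2 →
    ∀ (Γ : Subgroup (MulAut (Qb K))) (D : Subgroup (MulAut (GU K))), Par 2 (Qb K) Γ D →
    Inv Γ (Z3 K) ∨ (∀ γ ∈ Γ, ∀ g : Qb K, (g : GU K).a = 0 → (g : GU K).d = 0 →
      ((γ g : Qb K) : GU K).a = 0 ∧ ((γ g : Qb K) : GU K).d = 0)

/-- `q = 4`, `Q_b`, `Z₃` invariant -/
def StLb4b : Prop :=
  ∀ {K : Type u} [Field K], HypG K 2 2 →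
    ∀ (Γ : Subgroup (MulAut (Qb K))) (D : Subgroup (MulAut (GU K))), Par 2 (Qb K) Γ D → Inv Γ (Z3 K) →
    HasTor D (fun t => t⁻¹) (fun t => t ^ 2) ∧ (Full D → Γ = Gen IsWb D)

/-- `q = 4`, `Q_a` -/
def StLa4 : Prop :=
  ∀ {K : Type u} [Field K], HypG K 2 2 →
    ∀ (Γ : Subgroup (MulAut (Qa K))) (D : Subgroup (MulAut (GU K))), Par 2 (Qa K) Γ D →
    HasTor D (fun t => t ^ 2) (fun t => (t ^ 3)⁻¹) ∧
    (Full D → ∃ k : K, ∀ γ : MulAut (Qa K), γ ∈ Γ ↔ ∃ δ ∈ Gen IsWa D, ∀ α : MulAut (GU K), IsCe4 k α →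
      ∀ g g' : Qa K, (g' : GU K) = α g → α ((δ g : Qa K) : GU K) = (γ g' : Qa K))

/-! ### `q = 3` -/

/-- the central automorphisms for `q = 3`: `x_α(u) ↦ x_α(u) x_{3α+2β}(k u)`, `x_β(v) ↦ x_β(v) x_{2α+β}(k' v)` -/
structure IsCe3 {K : Type u} [Field K] (k k' : K) (α : MulAut (GU K)) : Prop where
  a : ∀ g : GU K, (α g).a = g.a
  b : ∀ g : GU K, (α g).b = g.b
  c : ∀ g : GU K, (α g).c = g.c
  d : ∀ g : GU K, (α g).d = g.d + k' * g.b
  e : ∀ g : GU K, (α g).e = g.e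
  f : ∀ g : GU K, (α g).f = g.f + k * g.a

def StAut3 : Prop :=
  ∀ {K : Type u} [Field K], HypG K 3 1 → ∀ k k' : K, ∃ α : MulAut (GU K), IsCe3 k k' α

/-- `q = 3`, `Q_b` -/
def StLb3 : Prop :=
  ∀ {K : Type u} [Field K], HypG K 3 1 →
    ∀ (Γ : Subgroup (MulAut (Qb K))) (D : Subgroup (MulAut (GU K))), Par 3 (Qb K) Γ D →
    HasTor D (fun t => t⁻¹) (fun t => t ^ 2) ∧
    (Full D → ∃ k : K, ∀ γ : MulAut (Qb K), γ ∈ Γ ↔ ∃ δ ∈ Gen IsWb D, ∀ α : MulAut (GU K), IsCe3 k 0 α →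
      ∀ g g' : Qb K, (g' : GU K) = α g → α ((δ g : Qb K) : GU K) = (γ g' : Qb K))

/-- `q = 3`, `Q_a` -/
def StLa3 : Prop :=
  ∀ {K : Type u} [Field K], HypG K 3 1 →
    ∀ (Γ : Subgroup (MulAut (Qa K))) (D : Subgroup (MulAut (GU K))), Par 3 (Qa K) Γ D →
    HasTor D (fun t => t ^ 2) (fun t => (t ^ 3)⁻¹) ∧
    (Full D → ∃ k : K, ∀ γ : MulAut (Qa K), γ ∈ Γ ↔ ∃ δ ∈ Gen IsWa D, ∀ α : MulAut (GU K), IsCe3 0 k α →
      ∀ g g' : Qa K, (g' : GU K) = α g → α ((δ g : Qa K) : GU K) = (γ g' : Qa K))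

end Cfsg.Agent.H779.G2
end

-- part: H103/GT/Main
section
set_option linter.all false
open scoped Cfsg.Agent.FastGrp

/-!
# S5211: the main case `q ≥ 8` with `StLaP` (helper103)

* `red_core` : the reduction of `Asm.lean`, keeping `O_p(F) = 1`;
* `not_inv_a` : for `O_p(F) = 1`, `p ≠ 3`, `Z₂` is not invariant under `Aut_F(Q_a)`, and `Z₃` neither for `p ≥ 5`;
* `stMainBig_of'` : `StMainBig` from `StLb`, `StLaP (5 ≤ p)`, `StLaTwo` (`p = 2`), `StReal`.
-/

set_option autoImplicit false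

namespace Cfsg.Agent.H103.GT

open Cfsg Cfsg.FusionSystem Cfsg.Agent.H779.G2 Cfsg.Agent.H756.PU Cfsg.Agent.H802

universe u v

/-- (La, `p = 2`, `q ≥ 8`), without the (unnecessary) non-invariance hypotheses -/
def StLaTwo : Prop :=
  ∀ {K : Type u} [Field K] {n : ℕ}, HypG K 2 n → 8 ≤ 2 ^ n →
    ∀ (Γ : Subgroup (MulAut (Qa K))) (D : Subgroup (MulAut (GU K))), Par 2 (Qa K) Γ D →
    HasTor D (fun t => t⁻¹) (fun t => t ^ 2) →
    HasTor D (fun t => t ^ 2) (fun t => (t ^ 3)⁻¹) ∧ (Full D → Γ = Gen IsWa D)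

/-- twisting, keeping `O_p(F) = 1` -/
theorem twist_core {G0 : Type u} [Group G0] [Finite G0] {p : ℕ} [Fact p.Prime] (F : FusionSystem (⊤ : Subgroup G0))
    (θ : MulAut G0) (hF : F.IsSaturated p) (hcore : F.core = ⊥) :
    ∃ F' : FusionSystem (⊤ : Subgroup G0), F'.IsSaturated p ∧ F'.core = ⊥ ∧ (F'.IsRealizable p → F.IsRealizable p) ∧
      AF F' = (AF F).map (MulAut.conj θ).toMonoidHom ∧
      ∀ E : Subgroup G0, F.IsEssential p E ↔ F'.IsEssential p (E.map θ.toMonoidHom) := by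
  have hinj : Function.Injective (θ⁻¹ : MulAut G0).toMonoidHom := (θ⁻¹ : MulAut G0).injective
  have htop : (⊤ : Subgroup G0) = (⊤ : Subgroup G0).map (θ⁻¹ : MulAut G0).toMonoidHom :=
    (Subgroup.map_top_of_surjective _ (θ⁻¹ : MulAut G0).surjective).symm
  obtain ⟨F', hF'⟩ := Cfsg.Agent.H759.exists_pull' (hf := hinj) htop F
  refine ⟨F', hF'.isSaturated_iff.1 hF, ?_, Cfsg.Agent.H776.Co.isRealizable_push hF', ?_, fun E => ?_⟩
  · have h1 := hF'.core_eq
    rw [hcore] at h1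
    exact (Subgroup.map_eq_bot_iff_of_injective _ hinj).1 h1.symm
  · rw [Cfsg.Agent.H805.PU.AF_push hF', Subgroup.map_map]
    have : (MulAut.conj θ).toMonoidHom.comp (MulAut.conj θ⁻¹).toMonoidHom = MonoidHom.id _ := by
      ext x
      simp only [MulAut.conj_apply, mul_assoc, _root_.MulEquiv.toMonoidHom_eq_coe, _root_.map_inv, _root_.MonoidHom.coe_comp, _root_.MonoidHom.coe_coe, _root_.MulAut.coe_inv, _root_.Function.comp_apply, _root_.MulAut.conj_symm_apply, _root_.mul_inv_cancel_left, _root_.mul_inv_cancel, _root_.mul_one, _root_.MonoidHom.id_apply]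
    rw [this, Subgroup.map_id]
  · rw [← Cfsg.Agent.H805.PU.isEssential_iff hF', Subgroup.map_map]
    have : (θ⁻¹ : MulAut G0).toMonoidHom.comp θ.toMonoidHom = MonoidHom.id _ := by
      ext x
      show θ⁻¹ (θ x) = x
      exact MulAut.inv_apply_self _ _ _
    rw [this, Subgroup.map_id]

/-- a nontrivial subgroup invariant under the automizers of `S`, `Q_a` and `Q_b` contradicts `O_p(F) = 1` -/
theorem core_contra {G0 : Type u} [Group G0] [Finite G0] {p : ℕ} [Fact p.Prime] {F : FusionSystem (⊤ : Subgroup G0)}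
    (hS : IsPGroup p (⊤ : Subgroup G0)) (hF : F.IsSaturated p) (hcore : F.core = ⊥) {Q1 Q2 Z : Subgroup G0}
    (hess : ∀ E, F.IsEssential p E → E = Q1 ∨ E = Q2) (hZ : Z ≠ ⊥) (h1 : _root_.Cfsg.Agent.H756.PU.Inv (F.autGroup Q1) Z)
    (h2 : _root_.Cfsg.Agent.H756.PU.Inv (F.autGroup Q2) Z) (ht : _root_.Cfsg.Agent.H756.PU.Inv (F.autGroup ⊤) Z) : False := by
  apply hZ
  have key : ∀ P : Subgroup G0, _root_.Cfsg.Agent.H756.PU.Inv (F.autGroup P) Z →
      (Z ≤ P ∧ ∀ α ∈ F.autGroup P, (Z.subgroupOf P).map α.toMonoidHom = Z.subgroupOf P) := by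
    intro P hP
    refine ⟨hP.1, fun α hα => ?_⟩
    refine Subgroup.eq_of_le_of_card_ge ?_ ?_
    · rintro _ ⟨x, hx, rfl⟩
      exact Subgroup.mem_subgroupOf.2 (hP.2 α hα x (Subgroup.mem_subgroupOf.1 hx))
    · exact (Subgroup.card_map_of_injective α.injective).ge
  have hN : F.IsNormal Z := by
    rw [Cfsg.Agent.H973.isNormal_iff_essential hS hF Z]
    rintro P (rfl | hP)
    · exact key _ ht
    · rcases hess P hP with rfl | rfl
      · exact key _ h1
      · exact key _ h2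
  exact le_bot_iff.1 (hcore ▸ (le_sSup hN : Z ≤ F.core))

section

variable {K : Type u} [Field K] {p n : ℕ}

/-- the reduction, keeping `O_p(F) = 1` -/
theorem red_core (H : Pieces.{u}) (hK : HypG K p n) (hq : 2 < p ^ n) (h7 : ¬ (p = 7 ∧ n = 1))
    (main : ∀ F : FusionSystem (⊤ : Subgroup (GU K)), F.IsSaturated p → F.core = ⊥ → F.IsEssential p (Qa K) →
      F.IsEssential p (Qb K) → (∀ E, F.IsEssential p E → E = Qa K ∨ E = Qb K) →
      ∀ D : Subgroup (MulAut (GU K)), D ≤ TT K → (Nat.card D).Coprime p →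
      AF F = (MulAut.conj : GU K →* MulAut (GU K)).range ⊔ D → F.IsRealizable p)
    (F : FusionSystem (⊤ : Subgroup (GU K))) (hF : F.IsSaturated p) (hcore : F.core = ⊥) : F.IsRealizable p := by
  have : Fact p.Prime := ⟨hK.pp⟩
  have hfin : Finite (GU K) := finite_GU hK
  have hS := isP hK
  have hess : ∀ E, F.IsEssential p E → E = Qa K ∨ E = Qb K := fun E hE => ess_cases H hK hq h7 hF hE
  by_cases hEab : F.IsEssential p (Qa K) ∧ F.IsEssential p (Qb K)
  · obtain ⟨hEa, hEb⟩ := hEab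
    obtain ⟨D0, hD0, hD0e⟩ := Cfsg.Agent.H805.PU.stCompl F hS hF
    obtain ⟨θ, hθ⟩ := H.pos hK hq D0 hD0
    obtain ⟨F', hF', hcore', hR, hAF', hess'⟩ := twist_core F θ hF hcore
    have hcase : ∀ Q : Subgroup (GU K), (Q = Qa K ∨ Q = Qb K) → F'.IsEssential p Q := by
      intro Q hQ
      have h1 : Q.map (θ⁻¹ : MulAut (GU K)).toMonoidHom = Qa K ∨ Q.map (θ⁻¹ : MulAut (GU K)).toMonoidHom = Qb K :=
        (H.ti hK hq Q hQ).2.2.2.2 θ⁻¹
      have h2 : (Q.map (θ⁻¹ : MulAut (GU K)).toMonoidHom).map θ.toMonoidHom = Q := by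
        rw [Subgroup.map_map]
        have : θ.toMonoidHom.comp (θ⁻¹ : MulAut (GU K)).toMonoidHom = MonoidHom.id _ := by
          ext x : 1
          exact MulAut.apply_inv_self _ _ _
        rw [this, Subgroup.map_id]
      rw [← h2]
      apply (hess' _).1
      rcases h1 with h1 | h1
      · rw [h1]; exact hEa
      · rw [h1]; exact hEb
    apply hR
    refine main F' hF' hcore' (hcase _ (Or.inl rfl)) (hcase _ (Or.inr rfl))
      (fun E hE => ess_cases H hK hq h7 hF' hE) (D0.map (MulAut.conj θ).toMonoidHom) ?_ ?_ ?_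
    · rintro _ ⟨d, hd, rfl⟩
      exact hθ d hd
    · have : Nat.card (D0.map (MulAut.conj θ).toMonoidHom) = Nat.card D0 :=
        (Nat.card_congr (D0.equivMapOfInjective _ (MulAut.conj θ).injective).toEquiv).symm
      rwa [this]
    · rw [hAF', ← hD0e, Subgroup.map_sup, map_conj_range]
  · -- at most one essential subgroup
    by_cases hEa : F.IsEssential p (Qa K)
    · have hEb : ¬ F.IsEssential p (Qb K) := fun h => hEab ⟨hEa, h⟩
      exact red_of.one_ess H.ti hK hq hF (Or.inl rfl) hEa fun E hE =>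
        (hess E hE).resolve_right (by rintro rfl; exact hEb hE)
    · by_cases hEb : F.IsEssential p (Qb K)
      · exact red_of.one_ess H.ti hK hq hF (Or.inr rfl) hEb fun E hE =>
          (hess E hE).resolve_left (by rintro rfl; exact hEa hE)
      · refine Cfsg.Agent.H546.PU.stCon F ⊤ hS hF le_rfl ?_ le_top ?_ ?_
        · exact (Subgroup.normalizer_eq_top_iff.2 inferInstance).ge
        · intro E hE
          rcases hess E hE with h | h
          · subst h; exact absurd hE hEa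
          · subst h; exact absurd hE hEb
        · exact ⟨le_rfl, fun γ _ e _ => Subgroup.mem_top _⟩

/-! ### characteristic subgroups of `Q_b` -/

theorem three_ne (hK : HypG K p n) (h3 : p ≠ 3) : (3 : K) ≠ 0 := by
  have := hK.char
  intro h
  have h1 : ((3 : ℕ) : K) = 0 := by exact_mod_cast h
  rw [CharP.cast_eq_zero_iff K p 3] at h1
  exact h3 ((Nat.prime_dvd_prime_iff_eq hK.pp Nat.prime_three).1 h1)

theorem two_ne (hK : HypG K p n) (h2 : p ≠ 2) : (2 : K) ≠ 0 := by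
  have := hK.char
  intro h
  have h1 : ((2 : ℕ) : K) = 0 := by exact_mod_cast h
  rw [CharP.cast_eq_zero_iff K p 2] at h1
  exact h2 ((Nat.prime_dvd_prime_iff_eq hK.pp Nat.prime_two).1 h1)

/-- `Z₂ = Z(Q_b)` is characteristic in `Q_b`, `p ≠ 3` -/
theorem Z2_char (h3 : (3 : K) ≠ 0) (γ : MulAut (Qb K)) (g : Qb K) (hg : (g : GU K) ∈ Z2 K) :
    ((γ g : Qb K) : GU K) ∈ Z2 K := by
  rw [← cent_Qb h3]
  intro z hz
  have h1 := (cent_Qb h3).2 hg
  have h2 := h1 (γ.symm ⟨z, hz⟩ : Qb K) (γ.symm ⟨z, hz⟩).2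
  have h4 : g * γ.symm ⟨z, hz⟩ = γ.symm ⟨z, hz⟩ * g := Subtype.ext h2
  have h5 := congrArg γ h4
  rw [map_mul, map_mul, MulEquiv.apply_symm_apply] at h5
  exact congrArg Subtype.val h5

theorem Z3_comm (h2 : (2 : K) ≠ 0) (h3 : (3 : K) ≠ 0) (g : GU K) (hg : g ∈ Z3 K) : ∃ s t u : K,
    g = (x1 1 * x3 s * (x1 1)⁻¹ * (x3 s)⁻¹) * (x1 1 * x4 t * (x1 1)⁻¹ * (x4 t)⁻¹) *
      (x3 1 * x4 u * (x3 1)⁻¹ * (x4 u)⁻¹) := by
  obtain ⟨ha, hb, hc⟩ := mem_Z3.1 hg
  refine ⟨-g.d / 2, -g.d / 2 - g.e / 3, (-g.d / 2) ^ 2 - g.f / 3, ?_⟩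
  have e1 : x1 (1 : K) * x3 (-g.d / 2) * (x1 1)⁻¹ * (x3 (-g.d / 2))⁻¹ = ⟨0, 0, 0, g.d, 3 * (-g.d / 2), 3 * (-g.d / 2) ^ 2⟩ := by
    ext
    · rw [cm_a]
    · rw [cm_b]
    · rw [cm_c]; simp [x1, x3]
    · rw [cm_d]; simp [x1, x3]; field_simp
    · rw [cm_e]; simp [x1, x3]
    · rw [cm_f]; simp [x1, x3]
  have e2 : x1 (1 : K) * x4 (-g.d / 2 - g.e / 3) * (x1 1)⁻¹ * (x4 (-g.d / 2 - g.e / 3))⁻¹ =
      ⟨0, 0, 0, 0, g.e - 3 * (-g.d / 2), 0⟩ := by
    ext
    · rw [cm_a]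
    · rw [cm_b]
    · rw [cm_c]; simp [x1, x4]
    · rw [cm_d]; simp [x1, x4]
    · rw [cm_e]; simp [x1, x4]; field_simp; ring
    · rw [cm_f]; simp [x1, x4]
  have e3 : x3 (1 : K) * x4 ((-g.d / 2) ^ 2 - g.f / 3) * (x3 1)⁻¹ * (x4 ((-g.d / 2) ^ 2 - g.f / 3))⁻¹ =
      ⟨0, 0, 0, 0, 0, g.f - 3 * (-g.d / 2) ^ 2⟩ := by
    ext
    · rw [cm_a]
    · rw [cm_b]
    · rw [cm_c]; simp [x3, x4]
    · rw [cm_d]; simp [x3, x4]
    · rw [cm_e]; simp [x3, x4]
    · rw [cm_f]; simp [x3, x4]; field_simp; ring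
  rw [e1, e2, e3]
  ext <;> simp [ha, hb, hc]

/-- `Z₃ = [Q_b, Q_b]` is characteristic in `Q_b`, `p ≥ 5` -/
theorem Z3_char (h2 : (2 : K) ≠ 0) (h3 : (3 : K) ≠ 0) (γ : MulAut (Qb K)) (g : Qb K) (hg : (g : GU K) ∈ Z3 K) :
    ((γ g : Qb K) : GU K) ∈ Z3 K := by
  have key : ∀ x y : Qb K, ((γ (x * y * x⁻¹ * y⁻¹) : Qb K) : GU K) ∈ Z3 K := by
    intro x y
    rw [map_mul, map_mul, map_mul, map_inv, map_inv]
    exact com_Qb _ (γ x).2 _ (γ y).2
  obtain ⟨s, t, u, h⟩ := Z3_comm h2 h3 g hg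
  let a1 : Qb K := ⟨x1 1, x1_mem 1⟩
  let a3 : K → Qb K := fun s => ⟨x3 s, Z4_le_Qb (x3_mem s)⟩
  let a4 : K → Qb K := fun s => ⟨x4 s, Z3_le_Qb (x4_mem s)⟩
  have h4 : g = (a1 * a3 s * a1⁻¹ * (a3 s)⁻¹) * (a1 * a4 t * a1⁻¹ * (a4 t)⁻¹) *
      (a3 1 * a4 u * (a3 1)⁻¹ * (a4 u)⁻¹) := (Subtype.ext h : _)
  rw [h4, map_mul, map_mul]
  exact (Z3 K).mul_mem ((Z3 K).mul_mem (key _ _) (key _ _)) (key _ _)

/-- a characteristic subgroup of `Q_b` is invariant under all automorphisms of `S` as soon as `Q_b` is -/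
theorem inv_top {F : FusionSystem (⊤ : Subgroup (GU K))} (hc : ∀ α : MulAut (GU K), (Qb K).map α.toMonoidHom = Qb K)
    {Z : Subgroup (GU K)} (hZ : Z ≤ Qb K)
    (hch : ∀ (γ : MulAut (Qb K)) (g : Qb K), (g : GU K) ∈ Z → ((γ g : Qb K) : GU K) ∈ Z) : _root_.Cfsg.Agent.H756.PU.Inv (F.autGroup ⊤) Z := by
  refine ⟨le_top, fun γ hγ e he => ?_⟩
  let β : MulAut (GU K) := MulAut.congr Subgroup.topEquiv γ
  have hβ : ∀ x ∈ Qb K, β x ∈ Qb K := by
    intro x hx
    have h1 : β x ∈ (Qb K).map β.toMonoidHom := ⟨x, hx, rfl⟩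
    rwa [hc β] at h1
  let γ' : MulAut (Qb K) := (β.subgroupMap (Qb K)).trans (MulEquiv.subgroupCongr (hc β))
  exact hch γ' ⟨e, hZ he⟩ he

theorem Z2_ne : Z2 K ≠ ⊥ := by
  intro h
  have h1 : x5 (1 : K) ∈ (⊥ : Subgroup (GU K)) := h ▸ x5_mem 1
  have h2 := congrArg GU.e (Subgroup.mem_bot.1 h1)
  simp [x5] at h2

theorem Z3_ne : Z3 K ≠ ⊥ := by
  intro h
  exact Z2_ne (le_bot_iff.1 (h ▸ Z2_le_Z3))

/-- `Z₂` is not invariant under `Aut_F(Q_a)`, `p ≠ 3` -/
theorem not_inv_Z2 (hTI : StTI.{u}) (hK : HypG K p n) (hq : 2 < p ^ n) (h3 : p ≠ 3)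
    {F : FusionSystem (⊤ : Subgroup (GU K))} (hF : F.IsSaturated p) (hcore : F.core = ⊥)
    (hess : ∀ E, F.IsEssential p E → E = Qa K ∨ E = Qb K) : ¬ _root_.Cfsg.Agent.H756.PU.Inv (F.autGroup (Qa K)) (Z2 K) := by
  intro h
  have : Fact p.Prime := ⟨hK.pp⟩
  have hfin : Finite (GU K) := finite_GU hK
  exact core_contra (isP hK) hF hcore hess Z2_ne h ⟨Z2_le_Qb, fun γ _ g hg => Z2_char (three_ne hK h3) γ g hg⟩
    (inv_top ((hTI hK hq (Qb K) (Or.inr rfl)).2.2.2.1 h3) Z2_le_Qb fun γ g hg => Z2_char (three_ne hK h3) γ g hg)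

/-- `Z₃` is not invariant under `Aut_F(Q_a)`, `p ≥ 5` -/
theorem not_inv_Z3 (hTI : StTI.{u}) (hK : HypG K p n) (hq : 2 < p ^ n) (h2 : p ≠ 2) (h3 : p ≠ 3)
    {F : FusionSystem (⊤ : Subgroup (GU K))} (hF : F.IsSaturated p) (hcore : F.core = ⊥)
    (hess : ∀ E, F.IsEssential p E → E = Qa K ∨ E = Qb K) : ¬ _root_.Cfsg.Agent.H756.PU.Inv (F.autGroup (Qa K)) (Z3 K) := by
  intro h
  have : Fact p.Prime := ⟨hK.pp⟩
  have hfin : Finite (GU K) := finite_GU hK
  exact core_contra (isP hK) hF hcore hess Z3_ne h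
    ⟨Z3_le_Qb, fun γ _ g hg => Z3_char (two_ne hK h2) (three_ne hK h3) γ g hg⟩
    (inv_top ((hTI hK hq (Qb K) (Or.inr rfl)).2.2.2.1 h3) Z3_le_Qb
      fun γ g hg => Z3_char (two_ne hK h2) (three_ne hK h3) γ g hg)

/-- for any saturated system: `Par` of `Q_a`, `Q_b` -/
theorem weyl_norm (hK : HypG K p n) {F' : FusionSystem (⊤ : Subgroup (GU K))}
    (hwa : ∀ γ : MulAut (Qa K), IsWa γ → γ ∈ F'.autGroup (Qa K))
    (hwb : ∀ γ : MulAut (Qb K), IsWb γ → γ ∈ F'.autGroup (Qb K)) :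
    (¬ ∀ γ ∈ F'.autGroup (Qa K), NormAut ⊤ γ) ∧ ¬ ∀ γ ∈ F'.autGroup (Qb K), NormAut ⊤ γ := by
  have hfin : Finite K := hK.fin
  obtain ⟨wa, hwa'⟩ := exists_wa (K := K)
  obtain ⟨wb, hwb'⟩ := exists_wb (K := K)
  exact ⟨fun h => not_norm_wa hwa' (h wa (hwa wa hwa')), fun h => not_norm_wb hwb' (h wb (hwb wb hwb'))⟩

/-- `Z₂`, `Z₃` are not invariant under a group containing the Weyl element -/
theorem wa_not_inv (hK : HypG K p n) {Γ : Subgroup (MulAut (Qa K))} (h : ∀ γ : MulAut (Qa K), IsWa γ → γ ∈ Γ) :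
    ¬ _root_.Cfsg.Agent.H756.PU.Inv Γ (Z2 K) ∧ ¬ _root_.Cfsg.Agent.H756.PU.Inv Γ (Z3 K) := by
  have hfin : Finite K := hK.fin
  obtain ⟨w, hw⟩ := exists_wa (K := K)
  have key : ∀ Z : Subgroup (GU K), Z2 K ≤ Z → Z ≤ Z4 K → ¬ _root_.Cfsg.Agent.H756.PU.Inv Γ Z := by
    intro Z h1 h2 hI
    have h3 := h2 (hI.2 w (h w hw) ⟨x5 1, Z2_le_Qa (x5_mem 1)⟩ (h1 (x5_mem 1)))
    have h4 := (mem_Z4.1 h3).2
    rw [hw.b] at h4
    simp [x5] at h4
  exact ⟨key _ le_rfl Z2_le_Z4, key _ Z2_le_Z3 Z3_le_Z4⟩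

end

/-- **(MAIN)** `q ≥ 8` -/
theorem stMainBig_of' (H : Pieces.{u}) (hLb : StLb.{u}) (hLa5 : StLaP.{u} fun p _ => 5 ≤ p) (hLa2 : StLaTwo.{u})
    (hR : StReal.{u}) : StMainBig.{u} := by
  intro K _ p n _ hK hq F hF hcore
  have hq2 : 2 < p ^ n := by omega
  have h7 : ¬ (p = 7 ∧ n = 1) := by
    rintro ⟨rfl, rfl⟩
    norm_num at hq
  -- the short root parabolic, uniformly
  have hLa : ∀ (Γ : Subgroup (MulAut (Qa K))) (D : Subgroup (MulAut (GU K))), Par p (Qa K) Γ D →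
      HasTor D (fun t => t⁻¹) (fun t => t ^ 2) → (p ≠ 2 → p ≠ 3 → ¬ _root_.Cfsg.Agent.H756.PU.Inv Γ (Z2 K) ∧ ¬ _root_.Cfsg.Agent.H756.PU.Inv Γ (Z3 K)) →
      HasTor D (fun t => t ^ 2) (fun t => (t ^ 3)⁻¹) ∧ (Full D → Γ = Gen IsWa D) := by
    intro Γ D hP hT hI
    by_cases h2 : p = 2
    · subst h2
      exact hLa2 hK hq Γ D hP hT
    by_cases h3 : p = 3
    · subst h3
      exact la_three_of hLb hK (by omega) Γ D hP
    have h5 : 5 ≤ p := by
      have h1 := hK.pp.two_le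
      have h4 : p ≠ 4 := by
        rintro rfl
        exact absurd hK.pp (by norm_num)
      omega
    exact hLa5 hK h5 hq Γ D hP hT (hI h2 h3).1 (hI h2 h3).2
  refine red_core H hK hq2 h7 ?_ F hF hcore
  intro F hF hcore hEa hEb hess D hD hDc hAF
  have hfin : Finite (GU K) := finite_GU hK
  have Pb := par_of hK hF (Or.inr rfl) (norm_of_ess hK hF hEb) hD hDc hAF
  have Pa := par_of hK hF (Or.inl rfl) (norm_of_ess hK hF hEa) hD hDc hAF
  obtain ⟨tb, gb⟩ := hLb hK (by omega) _ D Pb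
  obtain ⟨ta, ga⟩ := hLa _ D Pa tb fun h2 h3 =>
    ⟨not_inv_Z2 H.ti hK hq2 h3 hF hcore hess, not_inv_Z3 H.ti hK hq2 h2 h3 hF hcore hess⟩
  have hfull := full_of tb ta
  obtain ⟨F', hF', hReal, hAF', hwa, hwb⟩ := hR hK D hD hDc hfull
  obtain ⟨Na', Nb'⟩ := weyl_norm hK hwa hwb
  have Pb' := par_of hK hF' (Or.inr rfl) Nb' hD hDc hAF'
  have Pa' := par_of hK hF' (Or.inl rfl) Na' hD hDc hAF'
  obtain ⟨tb', gb'⟩ := hLb hK (by omega) _ D Pb'
  obtain ⟨-, ga'⟩ := hLa _ D Pa' tb' fun _ _ => wa_not_inv hK hwa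
  have hsame := Cfsg.Agent.H546.PU.stSame F F' (Qa K) (Qb K) (isP hK) hF hF' le_top le_top
    hess (fun E hE => ess_cases H hK hq2 h7 hF' hE)
    (autGroup_top_eq_of_AF (hAF.trans hAF'.symm))
    ((ga hfull).trans (ga' hfull).symm) ((gb hfull).trans (gb' hfull).symm)
  rw [fusionSystem_ext hsame]
  exact hReal

end Cfsg.Agent.H103.GT
end

-- part: H779/G2/Stmts4
section
set_option linter.all false

/-!
# S5211: statements, fourth part (`q = 2`)
-/

set_option autoImplicit false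

namespace Cfsg.Agent.H779.G2

open Cfsg Cfsg.FusionSystem Cfsg.Agent.H756.PU

universe u v

/-- (Q2-E) `q = 2`: the essential subgroups -/
def StE21 : Prop :=
  ∀ {K : Type u} [Field K] [Fact (Nat.Prime 2)], HypG K 2 1 →
    ∀ (F : FusionSystem (⊤ : Subgroup (GU K))), F.IsSaturated 2 → ∀ E, F.IsEssential 2 E → E = Qa K ∨ E = Qb K

/-- (Q2-AUT) `q = 2`: `Aut(S)` is a `2`-group, `Q_a` and `Q_b` are characteristic -/
def StAut2 : Prop :=
  ∀ {K : Type u} [Field K], HypG K 2 1 → (∀ α : MulAut (GU K), ∃ k : ℕ, α ^ 2 ^ k = 1) ∧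
    (∀ α : MulAut (GU K), (Qa K).map α.toMonoidHom = Qa K ∧ (Qb K).map α.toMonoidHom = Qb K)

/-- `γ ∈ Aut(Q_a)` acts on `Q_a/Z₁ = K⁴` by the matrix `M` -/
def LinA {K : Type u} [Field K] (M : Matrix (Fin 4) (Fin 4) K) (γ : MulAut (Qa K)) : Prop :=
  ∀ g : Qa K, ![((γ g : Qa K) : GU K).b, ((γ g : Qa K) : GU K).c, ((γ g : Qa K) : GU K).d, ((γ g : Qa K) : GU K).e] =
    M.mulVec ![(g : GU K).b, (g : GU K).c, (g : GU K).d, (g : GU K).e]

/-- the subgroup generated by `Aut_S(Q_a)` and the automorphisms acting by matrices in `X` -/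
def GenR {K : Type u} [Field K] (X : Set (Matrix (Fin 4) (Fin 4) K)) : Subgroup (MulAut (Qa K)) :=
  Subgroup.closure ((autInducedBy ⊤ (Qa K) : Set (MulAut (Qa K))) ∪ {γ | ∃ M ∈ X, LinA M γ})

/-- order three on the first tensor factor -/
def R1m {K : Type u} [Field K] : Matrix (Fin 4) (Fin 4) K := !![0, 1, 0, 0; 1, 1, 0, 0; 0, 0, 0, 1; 0, 0, 1, 1]
/-- order three on the second tensor factor -/
def R2m {K : Type u} [Field K] : Matrix (Fin 4) (Fin 4) K := !![0, 0, 1, 0; 0, 0, 0, 1; 1, 0, 1, 0; 0, 1, 0, 1]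

/-- the hypotheses on `Γ = Aut_F(Q)` for `q = 2` -/
structure Par2 {K : Type u} [Field K] {Q : Subgroup (GU K)} (Γ : Subgroup (MulAut Q)) : Prop where
  indu : autInducedBy ⊤ Q ≤ Γ
  syl : ∀ P : Subgroup (MulAut Q), P ≤ Γ → IsPGroup 2 P → ∃ g ∈ Γ, ∀ x ∈ P, g * x * g⁻¹ ∈ autInducedBy ⊤ Q
  nn : ¬ ∀ γ ∈ Γ, NormAut ⊤ γ

/-- (Q2-GA) the five possibilities for `Aut_F(Q_a)` -/
def StGa2 : Prop :=
  ∀ {K : Type u} [Field K], HypG K 2 1 → ∀ Γ : Subgroup (MulAut (Qa K)), Par2 Γ →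
    (Γ = GenR {R1m} ∨ Γ = GenR {R2m} ∨ Γ = GenR {R1m * R2m} ∨ Γ = GenR {R1m * R2m * R2m} ∨ Γ = GenR {R1m, R2m})

/-- `Γ' = θ Γ θ⁻¹` for subgroups of `Aut(Q)`, `θ ∈ Aut(S)`, `θ(Q) = Q` -/
def ConjOn {K : Type u} [Field K] {Q : Subgroup (GU K)} (θ : MulAut (GU K)) (Γ Γ' : Subgroup (MulAut Q)) : Prop :=
  ∀ γ : MulAut Q, γ ∈ Γ' ↔ ∃ δ ∈ Γ, ∀ g g' : Q, (g' : GU K) = θ g → θ ((δ g : Q) : GU K) = (γ g' : Q)

/-- (Q2-GB) the possibilities for `Aut_F(Q_b)` are conjugate under `Aut(S)` -/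
def StGb2 : Prop :=
  ∀ {K : Type u} [Field K], HypG K 2 1 → ∀ Γ : Subgroup (MulAut (Qb K)), Par2 Γ →
    ∃ θ : MulAut (GU K), ConjOn θ Γ (Gen IsWb ⊥)

/-- (Q2-SW) an automorphism of `S` normalizing the standard `Aut_F(Q_b)` and swapping the two diagonal possibilities; the standard
one is the diagonal one of the first or of the second kind -/
def StSw2 : Prop :=
  ∀ {K : Type u} [Field K], HypG K 2 1 →
    (∃ θ : MulAut (GU K), ConjOn θ (Gen IsWb ⊥ : Subgroup (MulAut (Qb K))) (Gen IsWb ⊥) ∧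
      ConjOn θ (GenR {R1m * R2m} : Subgroup (MulAut (Qa K))) (GenR {R1m * R2m * R2m}) ∧
      ConjOn θ (GenR {R1m * R2m * R2m} : Subgroup (MulAut (Qa K))) (GenR {R1m * R2m})) ∧
    ((Gen IsWa ⊥ : Subgroup (MulAut (Qa K))) = GenR {R1m * R2m} ∨
      (Gen IsWa ⊥ : Subgroup (MulAut (Qa K))) = GenR {R1m * R2m * R2m})

/-- (Q2-M12) a realizable core-free system with `Out_F(Q_a)` of order `6`, whose elements of order three act fixed point freely on
`Q_a / Z₁` (realized by `M₁₂`) -/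
def StRM12 : Prop :=
  ∀ {K : Type u} [Field K] [Fact (Nat.Prime 2)], HypG K 2 1 →
    ∃ F : FusionSystem (⊤ : Subgroup (GU K)), F.IsSaturated 2 ∧ F.IsRealizable 2 ∧ F.core = ⊥ ∧
      Nat.card (F.autGroup (Qa K)) = 96 ∧
      (∃ γ ∈ F.autGroup (Qa K), orderOf γ = 3 ∧ ∀ g : Qa K, γ g = g → (g : GU K) ∈ Z1 K) ∧
      (¬ ∀ γ ∈ F.autGroup (Qb K), NormAut (⊤ : Subgroup (GU K)) γ)

/-- (Q2-G23) a realizable core-free system with `Out_F(Q_a)` of order `18` (realized by `G₂(3)`) -/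
def StRG23 : Prop :=
  ∀ {K : Type u} [Field K] [Fact (Nat.Prime 2)], HypG K 2 1 →
    ∃ F : FusionSystem (⊤ : Subgroup (GU K)), F.IsSaturated 2 ∧ F.IsRealizable 2 ∧
      Nat.card (F.autGroup (Qa K)) = 288 ∧
      (¬ ∀ γ ∈ F.autGroup (Qb K), NormAut (⊤ : Subgroup (GU K)) γ)

end Cfsg.Agent.H779.G2
end

-- part: H270/GT/Five
section
set_option linter.all false
open scoped Cfsg.Agent.FastGrp

-- part: H270/GT/Lin
section
/-!
# S5211, `q = 2`: the action of `Aut(Q_a)` on `Q_a/Z₁ = K⁴` (helper270)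
-/

set_option autoImplicit false

namespace Cfsg.Agent.H270.GT

open Cfsg Cfsg.FusionSystem Cfsg.Agent.H779.G2 Cfsg.Agent.H756.PU Cfsg.Agent.H103.GT

universe u

section

variable {K : Type u} [Field K]

theorem cases01 (hK : HypG K 2 1) (x : K) : x = 0 ∨ x = 1 := by
  have h1 : Nat.card K = 2 := by simpa using hK.card
  obtain ⟨y, hy, hy'⟩ := (Nat.card_eq_two_iff' (0 : K)).1 h1
  by_cases hx : x = 0
  · exact Or.inl hx
  · exact Or.inr ((hy' x hx).trans (hy' 1 one_ne_zero).symm)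

theorem h3' (hK : HypG K 2 1) : (3 : K) ≠ 0 := three_ne hK (by decide)

theorem two0 (hK : HypG K 2 1) : (2 : K) = 0 := by
  have := hK.char
  exact_mod_cast (CharP.cast_eq_zero K 2)

/-- coordinates on `Q_a/Z₁` -/
def vec (g : Qa K) : Fin 4 → K := ![(g : GU K).b, (g : GU K).c, (g : GU K).d, (g : GU K).e]

/-- a representative -/
def lift (v : Fin 4 → K) : Qa K := ⟨⟨0, v 0, v 1, v 2, v 3, 0⟩, rfl⟩

theorem vec_lift (v : Fin 4 → K) : vec (lift v) = v := by
  funext i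
  fin_cases i <;> rfl

theorem qa_a (g : Qa K) : (g : GU K).a = 0 := g.2

theorem vec_mul (g h : Qa K) : vec (g * h) = vec g + vec h := by
  have h1 := qa_a h
  funext i
  (revert i; simp only [vec, h1, _root_.Fin.forall_fin_succ, _root_.Subgroup.coe_mul, _root_.Cfsg.Agent.H779.G2.GU.mul_b, _root_.Cfsg.Agent.H779.G2.GU.mul_c, _root_.MulZeroClass.mul_zero, _root_.add_zero, _root_.Cfsg.Agent.H779.G2.GU.mul_d, _root_.ne_eq, _root_.OfNat.ofNat_ne_zero, _root_.not_false_eq_true, _root_.zero_pow, _root_.Cfsg.Agent.H779.G2.GU.mul_e, _root_.Pi.add_apply, Fin.isValue, _root_.Matrix.cons_val_zero, _root_.Matrix.cons_val_succ, _root_.Matrix.cons_val_fin_one, _root_.implies_true, _root_.and_self])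

theorem vec_inv (g : Qa K) : vec g⁻¹ = - vec g := by
  have h1 := qa_a g
  funext i
  (revert i; simp only [vec, h1, _root_.Fin.forall_fin_succ, _root_.InvMemClass.coe_inv, _root_.Cfsg.Agent.H779.G2.GU.inv_b, _root_.Cfsg.Agent.H779.G2.GU.inv_c, _root_.MulZeroClass.zero_mul, _root_.add_zero, _root_.Cfsg.Agent.H779.G2.GU.inv_d, _root_.MulZeroClass.mul_zero, _root_.ne_eq, _root_.OfNat.ofNat_ne_zero, _root_.not_false_eq_true, _root_.zero_pow, _root_.sub_zero, _root_.Cfsg.Agent.H779.G2.GU.inv_e, _root_.Pi.neg_apply, Fin.isValue, _root_.Matrix.cons_val_zero, _root_.Matrix.cons_val_succ, _root_.Matrix.cons_val_fin_one, _root_.implies_true, _root_.and_self])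

theorem vec_eq_zero {g : Qa K} : vec g = 0 ↔ (g : GU K) ∈ Z1 K := by
  constructor
  · intro h
    exact ⟨g.2, congrFun h 0, congrFun h 1, congrFun h 2, congrFun h 3⟩
  · rintro ⟨-, h1, h2, h3, h4⟩
    funext i
    fin_cases i
    · exact h1
    · exact h2
    · exact h3
    · exact h4

theorem Z1_pres (hK : HypG K 2 1) (γ : MulAut (Qa K)) (g : Qa K) (hg : (g : GU K) ∈ Z1 K) :
    ((γ g : Qa K) : GU K) ∈ Z1 K := by
  rw [← cent_Qa (h3' hK)]
  intro z hz
  have h1 := (cent_Qa (h3' hK)).2 hg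
  have h2 := h1 (γ.symm ⟨z, hz⟩ : Qa K) (γ.symm ⟨z, hz⟩).2
  have h4 : g * γ.symm ⟨z, hz⟩ = γ.symm ⟨z, hz⟩ * g := Subtype.ext h2
  have h5 := congrArg γ h4
  rw [map_mul, map_mul, MulEquiv.apply_symm_apply] at h5
  exact congrArg Subtype.val h5

theorem vec_app (hK : HypG K 2 1) (γ : MulAut (Qa K)) {g h : Qa K} (e : vec g = vec h) :
    vec (γ g) = vec (γ h) := by
  have h1 : ((h⁻¹ * g : Qa K) : GU K) ∈ Z1 K := by
    rw [← vec_eq_zero, vec_mul, vec_inv, e, neg_add_cancel]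
  have h2 := vec_eq_zero.2 (Z1_pres hK γ _ h1)
  rw [map_mul, vec_mul, map_inv, vec_inv] at h2
  exact (neg_add_eq_zero.1 h2).symm

/-- the permutation of `K⁴` induced by an automorphism of `Q_a` -/
def rho (hK : HypG K 2 1) : MulAut (Qa K) →* Equiv.Perm (Fin 4 → K) where
  toFun γ :=
    { toFun := fun v => vec (γ (lift v))
      invFun := fun v => vec (γ⁻¹ (lift v))
      left_inv := by
        intro v
        have h1 : vec (lift (vec (γ (lift v)))) = vec (γ (lift v)) := vec_lift _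
        show vec (γ⁻¹ (lift (vec (γ (lift v))))) = v
        rw [vec_app hK γ⁻¹ h1, MulAut.inv_apply_self, vec_lift]
      right_inv := by
        intro v
        have h1 : vec (lift (vec (γ⁻¹ (lift v)))) = vec (γ⁻¹ (lift v)) := vec_lift _
        show vec (γ (lift (vec (γ⁻¹ (lift v))))) = v
        rw [vec_app hK γ h1, MulAut.apply_inv_self, vec_lift] }
  map_one' := by
    ext1 v
    exact vec_lift v
  map_mul' := by
    intro γ δ
    ext1 v
    show vec (γ (δ (lift v))) = vec (γ (lift (vec (δ (lift v)))))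
    exact vec_app hK γ (vec_lift _).symm

theorem rho_apply (hK : HypG K 2 1) (γ : MulAut (Qa K)) (v : Fin 4 → K) : rho hK γ v = vec (γ (lift v)) := rfl

theorem rho_vec (hK : HypG K 2 1) (γ : MulAut (Qa K)) (g : Qa K) : rho hK γ (vec g) = vec (γ g) :=
  vec_app hK γ (vec_lift _)

theorem linA_iff (hK : HypG K 2 1) {M : Matrix (Fin 4) (Fin 4) K} {γ : MulAut (Qa K)} :
    LinA M γ ↔ ∀ v, rho hK γ v = M.mulVec v := by
  constructor
  · intro h v
    have h1 : vec (γ (lift v)) = M.mulVec (vec (lift v)) := h (lift v)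
    rw [vec_lift] at h1
    exact h1
  · intro h g
    have h1 := h (vec g)
    rw [rho_vec] at h1
    exact h1

theorem LinA.mul (hK : HypG K 2 1) {M N : Matrix (Fin 4) (Fin 4) K} {γ δ : MulAut (Qa K)} (h : LinA M γ)
    (h' : LinA N δ) : LinA (M * N) (γ * δ) := by
  rw [linA_iff hK] at h h' ⊢
  intro v
  rw [map_mul, Equiv.Perm.mul_apply, h', h, Matrix.mulVec_mulVec]

/-- `Z₁` has two elements, so its elements are fixed -/
theorem fix_Z1 (hK : HypG K 2 1) (γ : MulAut (Qa K)) (g : Qa K) (hg : (g : GU K) ∈ Z1 K) : γ g = g := by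
  have h1 := Z1_pres hK γ g hg
  by_cases h : g = 1
  · rw [h, map_one]
  have key : ∀ x : Qa K, (x : GU K) ∈ Z1 K → x ≠ 1 → (x : GU K) = ⟨0, 0, 0, 0, 0, 1⟩ := by
    rintro x ⟨h1, h2, h3, h4, h5⟩ hx
    rcases cases01 hK (x : GU K).f with h6 | h6
    · exact absurd (Subtype.ext (GU.ext h1 h2 h3 h4 h5 h6)) hx
    · exact GU.ext h1 h2 h3 h4 h5 h6
  apply Subtype.ext
  rw [key _ hg h, key _ h1 (fun hc => h (γ.injective (hc.trans (map_one γ).symm)))]

theorem mem_Z1_sq (hK : HypG K 2 1) {g : Qa K} (hg : (g : GU K) ∈ Z1 K) : g * g = 1 := by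
  obtain ⟨h1, h2, h3, h4, h5⟩ := hg
  apply Subtype.ext
  apply GU.ext <;> simp only [h1, h2, h3, h4, h5, _root_.Subgroup.coe_mul, _root_.Cfsg.Agent.H779.G2.GU.mul_a, _root_.add_zero, _root_.OneMemClass.coe_one, _root_.Cfsg.Agent.H779.G2.GU.one_a, _root_.Cfsg.Agent.H779.G2.GU.mul_b, _root_.Cfsg.Agent.H779.G2.GU.one_b, _root_.Cfsg.Agent.H779.G2.GU.mul_c, _root_.MulZeroClass.mul_zero, _root_.Cfsg.Agent.H779.G2.GU.one_c, _root_.Cfsg.Agent.H779.G2.GU.mul_d, _root_.ne_eq, _root_.OfNat.ofNat_ne_zero, _root_.not_false_eq_true, _root_.zero_pow, _root_.Cfsg.Agent.H779.G2.GU.one_d, _root_.Cfsg.Agent.H779.G2.GU.mul_e, _root_.Cfsg.Agent.H779.G2.GU.one_e, _root_.Cfsg.Agent.H779.G2.GU.mul_f, _root_.sub_zero, _root_.Cfsg.Agent.H779.G2.GU.one_f]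
  linear_combination (g : GU K).f * two0 hK

/-- the kernel of `rho` has exponent two -/
theorem ker_rho (hK : HypG K 2 1) {γ : MulAut (Qa K)} (h : rho hK γ = 1) : γ * γ = 1 := by
  apply MulEquiv.ext
  intro g
  have h1 : ((g⁻¹ * γ g : Qa K) : GU K) ∈ Z1 K := by
    rw [← vec_eq_zero, vec_mul, vec_inv, ← rho_vec hK, h, Equiv.Perm.one_apply, neg_add_cancel]
  have h2 := fix_Z1 hK γ _ h1
  have h3 := mem_Z1_sq hK h1
  rw [map_mul, map_inv] at h2
  have h4 : γ (γ g) = γ g * (g⁻¹ * γ g) := by rw [← h2, mul_inv_cancel_left]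
  have h5 : γ g = g * (g⁻¹ * γ g) := by rw [mul_inv_cancel_left]
  rw [MulAut.mul_apply, h4]
  nth_rw 1 [h5]
  rw [mul_assoc, h3, mul_one]
  rfl

/-- an automorphism of order three with a fixed vector has a fixed point outside `Z₁` -/
theorem fix_of_vec (hK : HypG K 2 1) {γ : MulAut (Qa K)} (h : γ ^ 3 = 1) {v : Fin 4 → K} (hv : rho hK γ v = v)
    (hv0 : v ≠ 0) : ∃ g : Qa K, γ g = g ∧ (g : GU K) ∉ Z1 K := by
  refine ⟨lift v, ?_, fun hc => hv0 ?_⟩
  · have h1 : (((lift v)⁻¹ * γ (lift v) : Qa K) : GU K) ∈ Z1 K := by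
      rw [← vec_eq_zero, vec_mul, vec_inv, ← rho_vec hK, vec_lift, hv, neg_add_cancel]
    have h2 := fix_Z1 hK γ _ h1
    have h3 := mem_Z1_sq hK h1
    set z := (lift v)⁻¹ * γ (lift v) with hz
    have e1 : γ (lift v) = lift v * z := by rw [hz, mul_inv_cancel_left]
    have e2 : γ (γ (lift v)) = lift v := by
      rw [e1, map_mul, h2, e1, mul_assoc, h3, mul_one]
    have e3 : γ (γ (γ (lift v))) = lift v := by
      have := congrArg (fun α : MulAut (Qa K) => α (lift v)) h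
      rwa [pow_three] at this
    rw [e2] at e3
    exact e3
  · rw [← vec_lift v]
    exact vec_eq_zero.2 hc

/-! ### the two generating automorphisms of order three -/

theorem R1m_mulVec (v : Fin 4 → K) : (R1m : Matrix (Fin 4) (Fin 4) K).mulVec v =
    ![v 1, v 0 + v 1, v 3, v 2 + v 3] := by
  funext i
  (revert i; simp only [R1m, Matrix.mulVec, dotProduct, Fin.sum_univ_four, _root_.Fin.forall_fin_succ, _root_.Matrix.of_apply, _root_.Matrix.cons_val', _root_.Matrix.cons_val_fin_one, Fin.isValue, _root_.Matrix.cons_val_zero, _root_.Matrix.cons_val_one, _root_.Matrix.cons_val, _root_.Nat.succ_eq_add_one, Nat.reduceAdd, _root_.MulZeroClass.zero_mul, _root_.one_mul, _root_.zero_add, _root_.add_zero, _root_.Matrix.cons_val_succ, _root_.implies_true, _root_.and_self])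

theorem R2m_mulVec (v : Fin 4 → K) : (R2m : Matrix (Fin 4) (Fin 4) K).mulVec v =
    ![v 2, v 3, v 0 + v 2, v 1 + v 3] := by
  funext i
  (revert i; simp only [R2m, Matrix.mulVec, dotProduct, Fin.sum_univ_four, _root_.Fin.forall_fin_succ, _root_.Matrix.of_apply, _root_.Matrix.cons_val', _root_.Matrix.cons_val_fin_one, Fin.isValue, _root_.Matrix.cons_val_zero, _root_.Matrix.cons_val_one, _root_.Matrix.cons_val, _root_.Nat.succ_eq_add_one, Nat.reduceAdd, _root_.MulZeroClass.zero_mul, _root_.add_zero, _root_.one_mul, _root_.zero_add, _root_.Matrix.cons_val_succ, _root_.implies_true, _root_.and_self])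

theorem exists_R1 (hK : HypG K 2 1) : ∃ γ : MulAut (Qa K), LinA R1m γ := by
  have h2 := two0 hK
  refine ⟨{ toFun := fun g => ⟨⟨0, (g : GU K).c, (g : GU K).b + (g : GU K).c, (g : GU K).e,
              (g : GU K).d + (g : GU K).e, (g : GU K).f⟩, rfl⟩
            invFun := fun g => ⟨⟨0, (g : GU K).b + (g : GU K).c, (g : GU K).b, (g : GU K).d + (g : GU K).e,
              (g : GU K).d, (g : GU K).f⟩, rfl⟩
            left_inv := ?_
            right_inv := ?_
            map_mul' := ?_ }, ?_⟩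
  · intro g
    apply Subtype.ext
    apply GU.ext
    · exact (qa_a g).symm
    · show (g : GU K).c + ((g : GU K).b + (g : GU K).c) = (g : GU K).b
      linear_combination (g : GU K).c * h2
    · rfl
    · show (g : GU K).e + ((g : GU K).d + (g : GU K).e) = (g : GU K).d
      linear_combination (g : GU K).e * h2
    · rfl
    · rfl
  · intro g
    apply Subtype.ext
    apply GU.ext
    · exact (qa_a g).symm
    · rfl
    · show (g : GU K).b + (g : GU K).c + (g : GU K).b = (g : GU K).c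
      linear_combination (g : GU K).b * h2
    · rfl
    · show (g : GU K).d + (g : GU K).e + (g : GU K).d = (g : GU K).e
      linear_combination (g : GU K).d * h2
    · rfl
  · intro g h
    have hh := qa_a h
    apply Subtype.ext
    apply GU.ext
    · simp
    · simp [hh]
    · simp only [hh, _root_.Subgroup.coe_mul, _root_.Cfsg.Agent.H779.G2.GU.mul_b, _root_.Cfsg.Agent.H779.G2.GU.mul_c, _root_.MulZeroClass.mul_zero, _root_.add_zero]; ring
    · simp only [hh, _root_.Subgroup.coe_mul, _root_.Cfsg.Agent.H779.G2.GU.mul_e, _root_.MulZeroClass.mul_zero, _root_.add_zero, _root_.ne_eq, _root_.OfNat.ofNat_ne_zero, _root_.not_false_eq_true, _root_.zero_pow, _root_.Cfsg.Agent.H779.G2.GU.mul_d]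
    · simp only [hh, _root_.Subgroup.coe_mul, _root_.Cfsg.Agent.H779.G2.GU.mul_d, _root_.MulZeroClass.mul_zero, _root_.add_zero, _root_.ne_eq, _root_.OfNat.ofNat_ne_zero, _root_.not_false_eq_true, _root_.zero_pow, _root_.Cfsg.Agent.H779.G2.GU.mul_e]; ring
    · simp only [hh, _root_.Subgroup.coe_mul, _root_.Cfsg.Agent.H779.G2.GU.mul_f, _root_.MulZeroClass.mul_zero, _root_.MulZeroClass.zero_mul, _root_.add_zero, _root_.sub_zero, _root_.ne_eq, _root_.OfNat.ofNat_ne_zero, _root_.not_false_eq_true, _root_.zero_pow]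
      linear_combination (2 * (g : GU K).d * (h : GU K).c - (g : GU K).e * (h : GU K).c -
        2 * (g : GU K).e * (h : GU K).b) * h2
  · intro g
    show vec _ = R1m.mulVec (vec g)
    rw [R1m_mulVec]
    rfl

theorem exists_R2 (hK : HypG K 2 1) : ∃ γ : MulAut (Qa K), LinA R2m γ := by
  have h2 := two0 hK
  refine ⟨{ toFun := fun g => ⟨⟨0, (g : GU K).d, (g : GU K).e, (g : GU K).b + (g : GU K).d,
              (g : GU K).c + (g : GU K).e,
              (g : GU K).f + (g : GU K).b * (g : GU K).e + (g : GU K).c * (g : GU K).d + (g : GU K).d * (g : GU K).e⟩,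
                rfl⟩
            invFun := fun g => ⟨⟨0, (g : GU K).b + (g : GU K).d, (g : GU K).c + (g : GU K).e, (g : GU K).b,
              (g : GU K).c,
              (g : GU K).f + (g : GU K).b * (g : GU K).c + (g : GU K).c * (g : GU K).d + (g : GU K).b * (g : GU K).e⟩,
                rfl⟩
            left_inv := ?_
            right_inv := ?_
            map_mul' := ?_ }, ?_⟩
  · intro g
    apply Subtype.ext
    apply GU.ext
    · exact (qa_a g).symm
    · show (g : GU K).d + ((g : GU K).b + (g : GU K).d) = (g : GU K).b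
      linear_combination (g : GU K).d * h2
    · show (g : GU K).e + ((g : GU K).c + (g : GU K).e) = (g : GU K).c
      linear_combination (g : GU K).e * h2
    · rfl
    · rfl
    · show (g : GU K).f + (g : GU K).b * (g : GU K).e + (g : GU K).c * (g : GU K).d + (g : GU K).d * (g : GU K).e +
        (g : GU K).d * (g : GU K).e + (g : GU K).e * ((g : GU K).b + (g : GU K).d) +
        (g : GU K).d * ((g : GU K).c + (g : GU K).e) = (g : GU K).f
      linear_combination ((g : GU K).b * (g : GU K).e + (g : GU K).c * (g : GU K).d + 2 * (g : GU K).d * (g : GU K).e) * h2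
  · intro g
    apply Subtype.ext
    apply GU.ext
    · exact (qa_a g).symm
    · rfl
    · rfl
    · show (g : GU K).b + (g : GU K).d + (g : GU K).b = (g : GU K).d
      linear_combination (g : GU K).b * h2
    · show (g : GU K).c + (g : GU K).e + (g : GU K).c = (g : GU K).e
      linear_combination (g : GU K).c * h2
    · show (g : GU K).f + (g : GU K).b * (g : GU K).c + (g : GU K).c * (g : GU K).d + (g : GU K).b * (g : GU K).e +
        ((g : GU K).b + (g : GU K).d) * (g : GU K).c + ((g : GU K).c + (g : GU K).e) * (g : GU K).b +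
        (g : GU K).b * (g : GU K).c = (g : GU K).f
      linear_combination (2 * (g : GU K).b * (g : GU K).c + (g : GU K).c * (g : GU K).d + (g : GU K).b * (g : GU K).e) * h2
  · intro g h
    have hh := qa_a h
    apply Subtype.ext
    apply GU.ext
    · simp
    · simp only [hh, _root_.Subgroup.coe_mul, _root_.Cfsg.Agent.H779.G2.GU.mul_d, _root_.MulZeroClass.mul_zero, _root_.add_zero, _root_.ne_eq, _root_.OfNat.ofNat_ne_zero, _root_.not_false_eq_true, _root_.zero_pow, _root_.Cfsg.Agent.H779.G2.GU.mul_b]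
    · simp only [hh, _root_.Subgroup.coe_mul, _root_.Cfsg.Agent.H779.G2.GU.mul_e, _root_.MulZeroClass.mul_zero, _root_.add_zero, _root_.ne_eq, _root_.OfNat.ofNat_ne_zero, _root_.not_false_eq_true, _root_.zero_pow, _root_.Cfsg.Agent.H779.G2.GU.mul_c]
    · simp only [hh, _root_.Subgroup.coe_mul, _root_.Cfsg.Agent.H779.G2.GU.mul_b, _root_.Cfsg.Agent.H779.G2.GU.mul_d, _root_.MulZeroClass.mul_zero, _root_.add_zero, _root_.ne_eq, _root_.OfNat.ofNat_ne_zero, _root_.not_false_eq_true, _root_.zero_pow]; ring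
    · simp only [hh, _root_.Subgroup.coe_mul, _root_.Cfsg.Agent.H779.G2.GU.mul_c, _root_.MulZeroClass.mul_zero, _root_.add_zero, _root_.Cfsg.Agent.H779.G2.GU.mul_e, _root_.ne_eq, _root_.OfNat.ofNat_ne_zero, _root_.not_false_eq_true, _root_.zero_pow]; ring
    · simp only [hh, _root_.Subgroup.coe_mul, _root_.Cfsg.Agent.H779.G2.GU.mul_f, _root_.MulZeroClass.mul_zero, _root_.MulZeroClass.zero_mul, _root_.add_zero, _root_.sub_zero, _root_.ne_eq, _root_.OfNat.ofNat_ne_zero, _root_.not_false_eq_true, _root_.zero_pow, _root_.Cfsg.Agent.H779.G2.GU.mul_b, _root_.Cfsg.Agent.H779.G2.GU.mul_e, _root_.Cfsg.Agent.H779.G2.GU.mul_c, _root_.Cfsg.Agent.H779.G2.GU.mul_d]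
      linear_combination (2 * (g : GU K).d * (h : GU K).c - (g : GU K).b * (h : GU K).e +
        (g : GU K).c * (h : GU K).d - (g : GU K).d * (h : GU K).e + (g : GU K).e * (h : GU K).d) * h2
  · intro g
    show vec _ = R2m.mulVec (vec g)
    rw [R2m_mulVec]
    rfl

end

end Cfsg.Agent.H270.GT
end

-- part: H270/GT/Types
section
/-!
# S5211, `q = 2`: the five candidates for `Aut_F(Q_a)` (helper270)
-/

set_option autoImplicit false

namespace Cfsg.Agent.H270.GT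

open Cfsg Cfsg.FusionSystem Cfsg.Agent.H779.G2 Cfsg.Agent.H756.PU Cfsg.Agent.H103.GT Cfsg.Agent.H802

universe u

/-! ### abstract lemmas -/

section

variable {P : Type*} [Group P]

/-- two commuting independent elements of order three -/
theorem nine_of [Finite P] {a b : P} (ha : a ^ 3 = 1) (hb : b ^ 3 = 1) (hab : a * b = b * a) (h1 : a ≠ 1)
    (h2 : b ≠ 1) (h3 : a ≠ b) (h4 : a * b ≠ 1) {R : Subgroup P} (haR : a ∈ R) (hbR : b ∈ R) : 9 ∣ Nat.card R := by
  have hp3 : Fact (Nat.Prime 3) := ⟨Nat.prime_three⟩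
  have hz : ∀ c : P, c ^ 3 = 1 → IsPGroup 3 (Subgroup.zpowers c) := by
    rintro c hc ⟨x, k, rfl⟩
    refine ⟨1, Subtype.ext ?_⟩
    show (c ^ k) ^ (3 ^ 1) = 1
    rw [pow_one, ← zpow_natCast, ← zpow_mul, mul_comm, zpow_mul]
    have : c ^ ((3 : ℕ) : ℤ) = 1 := by rw [zpow_natCast, hc]
    rw [this, one_zpow]
  have hn : Subgroup.zpowers b ≤ Subgroup.normalizer ((Subgroup.zpowers a : Subgroup P) : Set P) := by
    rw [Subgroup.zpowers_le, Subgroup.mem_normalizer_iff]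
    have hc : Commute b a := hab.symm
    have key : ∀ x ∈ Subgroup.zpowers a, b * x * b⁻¹ = x := by
      rintro x ⟨k, rfl⟩
      have : Commute b (a ^ k) := hc.zpow_right k
      show b * a ^ k * b⁻¹ = a ^ k
      rw [this.eq, mul_inv_cancel_right]
    intro x
    constructor
    · intro hx
      rw [key x hx]
      exact hx
    · intro hx
      have h5 := key _ hx
      have h6 : b * x * b⁻¹ = x := by
        have := congrArg (fun y => b⁻¹ * y * b) h5
        simp only [mul_assoc, inv_mul_cancel, mul_one, inv_mul_cancel_left] at this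
        simpa [mul_assoc] using this
      rwa [h6] at hx
  have hA : IsPGroup 3 (Subgroup.zpowers a ⊔ Subgroup.zpowers b : Subgroup P) :=
    (hz a ha).to_sup_of_normal_left' (hz b hb) hn
  obtain ⟨k, hk⟩ := IsPGroup.iff_card.1 hA
  have hAR : Subgroup.zpowers a ⊔ Subgroup.zpowers b ≤ R :=
    sup_le (Subgroup.zpowers_le.2 haR) (Subgroup.zpowers_le.2 hbR)
  have haA : a ∈ Subgroup.zpowers a ⊔ Subgroup.zpowers b := Subgroup.mem_sup_left (Subgroup.mem_zpowers a)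
  have hbA : b ∈ Subgroup.zpowers a ⊔ Subgroup.zpowers b := Subgroup.mem_sup_right (Subgroup.mem_zpowers b)
  have h4' : 4 ≤ Nat.card (Subgroup.zpowers a ⊔ Subgroup.zpowers b : Subgroup P) := by
    let f : Fin 4 → (Subgroup.zpowers a ⊔ Subgroup.zpowers b : Subgroup P) :=
      ![1, ⟨a, haA⟩, ⟨b, hbA⟩, ⟨a * b, mul_mem haA hbA⟩]
    have hf : Function.Injective f := by
      intro i j hij
      have hij' := congrArg Subtype.val hij
      fin_cases i <;> fin_cases j <;> simp only [f, _root_.Fin.zero_eta, _root_.Fin.isValue, _root_.Matrix.cons_val_zero, _root_.OneMemClass.coe_one, _root_.Fin.mk_one, _root_.Matrix.cons_val_one, _root_.zero_ne_one, _root_.Fin.reduceFinMk, _root_.Matrix.cons_val, _root_.Fin.reduceEq, _root_.one_ne_zero, _root_.left_eq_mul, _root_.right_eq_mul, _root_.mul_eq_left, _root_.mul_eq_right] at hij' ⊢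
      · exact h1 hij'.symm
      · exact h2 hij'.symm
      · exact h4 hij'.symm
      · exact h1 hij'
      · exact h3 hij'
      · exact h2 hij'
      · exact h2 hij'
      · exact h3 hij'.symm
      · exact h1 hij'
      · exact h4 hij'
      · exact h2 hij'
      · exact h1 hij'
    have := Nat.card_le_card_of_injective f hf
    simpa only [_root_.ge_iff_le, _root_.Nat.card_eq_fintype_card, _root_.Fintype.card_fin] using this
  have hk2 : 2 ≤ k := by
    by_contra hcon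
    have : k ≤ 1 := by omega
    have h5 : 3 ^ k ≤ 3 ^ 1 := Nat.pow_le_pow_right (by norm_num) this
    omega
  calc 9 ∣ 3 ^ k := by
        have : 3 ^ 2 ∣ 3 ^ k := pow_dvd_pow 3 hk2
        simpa using this
    _ = Nat.card (Subgroup.zpowers a ⊔ Subgroup.zpowers b : Subgroup P) := hk.symm
    _ ∣ Nat.card R := Subgroup.card_dvd_of_le hAR

/-- the group generated by `m`, `x` with `m³ = x² = 1`, `x m = m² x` -/
def six (m x : P) (hm : m ^ 3 = 1) (hx : x ^ 2 = 1) (hxm : x * m = m ^ 2 * x) : Subgroup P where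
  carrier := {y | ∃ i j : ℕ, i < 3 ∧ j < 2 ∧ y = m ^ i * x ^ j}
  one_mem' := ⟨0, 0, by norm_num, by norm_num, by simp⟩
  mul_mem' := by
    rintro _ _ ⟨i, j, hi, hj, rfl⟩ ⟨k, l, hk, hl, rfl⟩
    have hm' : ∀ n : ℕ, m ^ n = m ^ (n % 3) := fun n => by
      conv_lhs => rw [← Nat.div_add_mod n 3, pow_add, pow_mul, hm, one_pow, one_mul]
    have hx' : ∀ n : ℕ, x ^ n = x ^ (n % 2) := fun n => by
      conv_lhs => rw [← Nat.div_add_mod n 2, pow_add, pow_mul, hx, one_pow, one_mul]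
    have hc : ∀ n : ℕ, x * m ^ n = m ^ (2 * n) * x := by
      intro n
      induction n with
      | zero => simp
      | succ n ih => rw [pow_succ, ← mul_assoc, ih, mul_assoc, hxm, ← mul_assoc, ← pow_add]; ring_nf
    rcases Nat.lt_or_ge j 1 with h | h
    · have : j = 0 := by omega
      subst this
      refine ⟨(i + k) % 3, l, Nat.mod_lt _ (by norm_num), hl, ?_⟩
      rw [pow_zero, mul_one, ← mul_assoc, ← pow_add, hm' (i + k)]
    · have : j = 1 := by omega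
      subst this
      refine ⟨(i + 2 * k) % 3, (1 + l) % 2, Nat.mod_lt _ (by norm_num), Nat.mod_lt _ (by norm_num), ?_⟩
      rw [pow_one, ← mul_assoc, mul_assoc (m ^ i) x, hc, ← hm', ← hx', pow_add x, pow_one, pow_add m]
      simp only [mul_assoc]
  inv_mem' := by
    rintro _ ⟨i, j, hi, hj, rfl⟩
    have hm' : ∀ n : ℕ, m ^ n = m ^ (n % 3) := fun n => by
      conv_lhs => rw [← Nat.div_add_mod n 3, pow_add, pow_mul, hm, one_pow, one_mul]
    have hc : ∀ n : ℕ, x * m ^ n = m ^ (2 * n) * x := by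
      intro n
      induction n with
      | zero => simp
      | succ n ih => rw [pow_succ, ← mul_assoc, ih, mul_assoc, hxm, ← mul_assoc, ← pow_add]; ring_nf
    have hmi : (m ^ i)⁻¹ = m ^ (2 * i) := by
      rw [inv_eq_iff_mul_eq_one, ← pow_add]
      have : i + 2 * i = 3 * i := by ring
      rw [this, pow_mul, hm, one_pow]
    have hxi : x⁻¹ = x := by
      rw [inv_eq_iff_mul_eq_one, ← pow_two, hx]
    rcases Nat.lt_or_ge j 1 with h | h
    · have : j = 0 := by omega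
      subst this
      refine ⟨(2 * i) % 3, 0, Nat.mod_lt _ (by norm_num), by norm_num, ?_⟩
      rw [pow_zero, mul_one, mul_one, hmi, hm' (2 * i)]
    · have : j = 1 := by omega
      subst this
      refine ⟨(2 * (2 * i)) % 3, 1, Nat.mod_lt _ (by norm_num), by norm_num, ?_⟩
      rw [pow_one, mul_inv_rev, hmi, hxi, hc, ← hm']

theorem six_card (m x : P) (hm : m ^ 3 = 1) (hx : x ^ 2 = 1) (hxm : x * m = m ^ 2 * x) :
    Nat.card (six m x hm hx hxm) ≤ 6 := by
  let f : Fin 3 × Fin 2 → six m x hm hx hxm := fun ij => ⟨m ^ (ij.1 : ℕ) * x ^ (ij.2 : ℕ), _, _, ij.1.2, ij.2.2, rfl⟩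
  have hf : Function.Surjective f := by
    rintro ⟨_, i, j, hi, hj, rfl⟩
    exact ⟨(⟨i, hi⟩, ⟨j, hj⟩), rfl⟩
  have h1 := Nat.card_le_card_of_surjective f hf
  simpa only [_root_.ge_iff_le, _root_.Nat.card_eq_fintype_card, _root_.Fintype.card_prod, _root_.Fintype.card_fin, _root_.Nat.reduceMul] using h1

/-- a subgroup with at most six images, modulo a kernel of exponent two, has order not divisible by nine -/
theorem not_nine {A : Type*} [Group A] [Finite A] (ρ : A →* P) (hker : ∀ a, ρ a = 1 → a * a = 1) {Γ : Subgroup A}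
    {H : Subgroup P} (hH : Nat.card H ≤ 6) (hHf : Finite H) (hΓ : ∀ γ ∈ Γ, ρ γ ∈ H) : ¬ 9 ∣ Nat.card Γ := by
  intro h9
  let f : Γ →* H := (ρ.comp Γ.subtype).codRestrict H (fun γ => hΓ γ γ.2)
  have h1 : Nat.card Γ = Nat.card f.ker * Nat.card f.range := by
    rw [← f.ker.card_mul_index, Subgroup.index_ker]
  have h2 : Nat.card f.range ≤ 6 := (Subgroup.card_le_card_group f.range).trans hH
  have h3 : IsPGroup 2 f.ker := by
    rintro ⟨x, hx⟩
    refine ⟨1, Subtype.ext (Subtype.ext ?_)⟩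
    have : ρ (x : A) = 1 := congrArg Subtype.val (MonoidHom.mem_ker.1 hx)
    show (x : A) ^ (2 ^ 1) = 1
    rw [pow_one, pow_two]
    exact hker _ this
  obtain ⟨k, hk⟩ := IsPGroup.iff_card.1 h3
  rw [h1, hk] at h9
  have h4 : 9 ∣ Nat.card f.range := by
    refine (Nat.Coprime.dvd_of_dvd_mul_left ?_ h9)
    exact Nat.Coprime.pow_right k (by norm_num)
  have h5 := Nat.le_of_dvd Nat.card_pos h4
  omega

end

/-! ### the concrete elements -/

section

variable {K : Type u} [Field K]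

attribute [-instance] instNoNatZeroDivisorsOfIsAddTorsionFree instIsCharPOfIsLeftCancelAddOfCharP in
/-- elements of `Aut_S(Q_a)` -/
theorem rho_ind (hK : HypG K 2 1) {γ : MulAut (Qa K)} (h : γ ∈ autInducedBy ⊤ (Qa K)) :
    rho hK γ = 1 ∨ ∀ v, rho hK γ v = ![v 0, v 1 + v 0, v 2 + v 0, v 3 + v 2 + v 1 + v 0] := by
  obtain ⟨g, -, hg⟩ := (mem_autInducedBy_iff _ _ _).1 h
  have h2 := two0 hK
  have hb : ∀ x : Qa K, vec (γ x) = ![(x : GU K).b, -g.a * (x : GU K).b + (x : GU K).c,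
      -2 * g.a * (x : GU K).c + g.a ^ 2 * (x : GU K).b + (x : GU K).d,
      -3 * g.a * (x : GU K).d + 3 * g.a ^ 2 * (x : GU K).c - g.a ^ 3 * (x : GU K).b + (x : GU K).e] := by
    intro x
    have hx := qa_a x
    funext i
    fin_cases i
    · show ((γ x : Qa K) : GU K).b = _
      rw [hg, cj_b]; rfl
    · show ((γ x : Qa K) : GU K).c = _
      rw [hg, cj_c]; simp only [hx, _root_.neg_mul, _root_.MulZeroClass.mul_zero, _root_.add_zero, _root_.Nat.succ_eq_add_one, _root_.Nat.reduceAdd, _root_.Fin.mk_one, _root_.Fin.isValue, _root_.Matrix.cons_val_one, _root_.Matrix.cons_val_zero]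
    · show ((γ x : Qa K) : GU K).d = _
      rw [hg, cj_d]; simp only [hx, _root_.neg_mul, _root_.MulZeroClass.mul_zero, _root_.zero_sub, _root_.ne_eq, _root_.OfNat.ofNat_ne_zero, _root_.not_false_eq_true, _root_.zero_pow, _root_.add_zero, _root_.Nat.succ_eq_add_one, _root_.Nat.reduceAdd, _root_.Fin.reduceFinMk, _root_.Matrix.cons_val]
    · show ((γ x : Qa K) : GU K).e = _
      rw [hg, cj_e]; simp only [hx, _root_.neg_mul, _root_.ne_eq, _root_.OfNat.ofNat_ne_zero, _root_.not_false_eq_true, _root_.zero_pow, _root_.MulZeroClass.mul_zero, _root_.sub_self, _root_.zero_sub, _root_.add_zero, _root_.Nat.succ_eq_add_one, _root_.Nat.reduceAdd, _root_.Fin.reduceFinMk, _root_.Matrix.cons_val]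
  rcases cases01 hK g.a with ha | ha
  · left
    apply Equiv.ext
    intro v
    rw [rho_apply, hb, ha]
    funext i
    (revert i; simp only [lift, _root_.Fin.forall_fin_succ, _root_.Nat.succ_eq_add_one, Nat.reduceAdd, Fin.isValue, _root_.neg_zero, _root_.MulZeroClass.zero_mul, _root_.zero_add, _root_.MulZeroClass.mul_zero, _root_.ne_eq, _root_.OfNat.ofNat_ne_zero, _root_.not_false_eq_true, _root_.zero_pow, _root_.add_zero, _root_.sub_self, _root_.Equiv.Perm.coe_one, _root_.id_eq, _root_.Matrix.cons_val_zero, _root_.Matrix.cons_val_succ, _root_.Fin.succ_zero_eq_one, _root_.Fin.succ_one_eq_two, _root_.Matrix.cons_val_fin_one, Fin.reduceSucc, _root_.IsEmpty.forall_iff, _root_.and_self])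
  · right
    intro v
    rw [rho_apply, hb, ha]
    funext i
    fin_cases i
    · rfl
    · simp only [lift, _root_.Nat.succ_eq_add_one, _root_.Nat.reduceAdd, _root_.Fin.isValue, _root_.neg_mul, _root_.one_mul, _root_.mul_one, _root_.one_pow, _root_.Fin.mk_one, _root_.Matrix.cons_val_one, _root_.Matrix.cons_val_zero]; (clear * - h2; grobner)
    · simp only [lift, _root_.Nat.succ_eq_add_one, _root_.Nat.reduceAdd, _root_.Fin.isValue, _root_.neg_mul, _root_.one_mul, _root_.mul_one, _root_.one_pow, _root_.Fin.reduceFinMk, _root_.Matrix.cons_val]; (clear * - h2; grobner)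
    · simp only [lift, _root_.Nat.succ_eq_add_one, _root_.Nat.reduceAdd, _root_.Fin.isValue, _root_.neg_mul, _root_.one_mul, _root_.mul_one, _root_.one_pow, _root_.Fin.reduceFinMk, _root_.Matrix.cons_val]; (clear * - h2; grobner)

/-- conjugation by `x1 1` -/
theorem exists_c1 (hK : HypG K 2 1) : ∃ γ ∈ autInducedBy ⊤ (Qa K),
    ∀ v, rho hK γ v = ![v 0, v 1 + v 0, v 2 + v 0, v 3 + v 2 + v 1 + v 0] := by
  let c : MulAut (Qa K) := MulAut.conjNormal (x1 (1 : K))
  have hc : ∀ y : Qa K, ((c y : Qa K) : GU K) = x1 1 * (y : GU K) * (x1 1)⁻¹ := fun y => MulAut.conjNormal_apply _ _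
  have hcm : c ∈ autInducedBy ⊤ (Qa K) :=
    (mem_autInducedBy_iff _ _ _).2 ⟨x1 1, Subgroup.mem_top _, fun y => by rw [hc]⟩
  refine ⟨c, hcm, ?_⟩
  rcases rho_ind hK hcm with h | h
  · exfalso
    have h1 : rho hK c ![1, 0, 0, 0] = ![1, 0, 0, 0] := by rw [h]; rfl
    rw [rho_apply] at h1
    have h2 := congrFun h1 1
    have h3 : vec (c (lift ![1, 0, 0, 0])) 1 = (x1 1 * (lift (![1, 0, 0, 0] : Fin 4 → K) : GU K) * (x1 1)⁻¹).c := by
      rw [← hc]; rfl
    rw [h3, cj_c] at h2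
    simp [x1, lift] at h2
  · exact h

variable (hK : HypG K 2 1)

/-- the permutations -/
structure Pm (r1 r2 x : Equiv.Perm (Fin 4 → K)) : Prop where
  e1 : ∀ v, r1 v = ![v 1, v 0 + v 1, v 3, v 2 + v 3]
  e2 : ∀ v, r2 v = ![v 2, v 3, v 0 + v 2, v 1 + v 3]
  ex : ∀ v, x v = ![v 0, v 1 + v 0, v 2 + v 0, v 3 + v 2 + v 1 + v 0]

omit [Field K] in
theorem perm_ext {f g : Equiv.Perm (Fin 4 → K)} (h : ∀ v, f v 0 = g v 0 ∧ f v 1 = g v 1 ∧ f v 2 = g v 2 ∧
    f v 3 = g v 3) : f = g := by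
  apply Equiv.ext
  intro v
  funext i
  obtain ⟨h0, h1, h2, h3⟩ := h v
  fin_cases i
  · exact h0
  · exact h1
  · exact h2
  · exact h3

variable {r1 r2 x : Equiv.Perm (Fin 4 → K)}

include hK in
attribute [-instance] instNoNatZeroDivisorsOfIsAddTorsionFree instIsCharPOfIsLeftCancelAddOfCharP in
theorem Pm.r1_3 (h : Pm r1 r2 x) : r1 ^ 3 = 1 := by
  have h2 := two0 hK
  apply perm_ext
  intro v
  rw [pow_three]
  simp only [Equiv.Perm.mul_apply, h.e1, Equiv.Perm.one_apply, Matrix.cons_val]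
  refine ⟨?_, ?_, ?_, ?_⟩ <;> grobner

include hK in
attribute [-instance] instNoNatZeroDivisorsOfIsAddTorsionFree instIsCharPOfIsLeftCancelAddOfCharP in
theorem Pm.r2_3 (h : Pm r1 r2 x) : r2 ^ 3 = 1 := by
  have h2 := two0 hK
  apply perm_ext
  intro v
  rw [pow_three]
  simp only [Equiv.Perm.mul_apply, h.e2, Equiv.Perm.one_apply, Matrix.cons_val]
  refine ⟨?_, ?_, ?_, ?_⟩ <;> grobner

include hK in
attribute [-instance] instNoNatZeroDivisorsOfIsAddTorsionFree instIsCharPOfIsLeftCancelAddOfCharP in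
theorem Pm.x_2 (h : Pm r1 r2 x) : x ^ 2 = 1 := by
  have h2 := two0 hK
  apply perm_ext
  intro v
  rw [pow_two]
  simp only [Equiv.Perm.mul_apply, h.ex, Equiv.Perm.one_apply, Matrix.cons_val]
  refine ⟨?_, ?_, ?_, ?_⟩ <;> grobner

include hK in
attribute [-instance] instNoNatZeroDivisorsOfIsAddTorsionFree instIsCharPOfIsLeftCancelAddOfCharP in
theorem Pm.comm (h : Pm r1 r2 x) : r1 * r2 = r2 * r1 := by
  have h2 := two0 hK
  apply perm_ext
  intro v
  simp only [Equiv.Perm.mul_apply, h.e1, h.e2, Matrix.cons_val]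
  refine ⟨?_, ?_, ?_, ?_⟩ <;> grobner

include hK in
attribute [-instance] instNoNatZeroDivisorsOfIsAddTorsionFree instIsCharPOfIsLeftCancelAddOfCharP in
theorem Pm.x_r1 (h : Pm r1 r2 x) : x * r1 = r1 ^ 2 * x := by
  have h2 := two0 hK
  apply perm_ext
  intro v
  rw [pow_two]
  simp only [Equiv.Perm.mul_apply, h.e1, h.ex, Matrix.cons_val]
  refine ⟨?_, ?_, ?_, ?_⟩ <;> grobner

include hK in
attribute [-instance] instNoNatZeroDivisorsOfIsAddTorsionFree instIsCharPOfIsLeftCancelAddOfCharP in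
theorem Pm.x_r2 (h : Pm r1 r2 x) : x * r2 = r2 ^ 2 * x := by
  have h2 := two0 hK
  apply perm_ext
  intro v
  rw [pow_two]
  simp only [Equiv.Perm.mul_apply, h.e2, h.ex, Matrix.cons_val]
  refine ⟨?_, ?_, ?_, ?_⟩ <;> grobner

theorem exists_pm (hK : HypG K 2 1) : ∃ γ1 γ2 γx : MulAut (Qa K), LinA R1m γ1 ∧ LinA R2m γ2 ∧
    γx ∈ autInducedBy ⊤ (Qa K) ∧ Pm (rho hK γ1) (rho hK γ2) (rho hK γx) := by
  obtain ⟨γ1, h1⟩ := exists_R1 hK
  obtain ⟨γ2, h2⟩ := exists_R2 hK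
  obtain ⟨γx, hx, hx'⟩ := exists_c1 hK
  refine ⟨γ1, γ2, γx, h1, h2, hx, fun v => ?_, fun v => ?_, hx'⟩
  · rw [(linA_iff hK).1 h1, R1m_mulVec]
  · rw [(linA_iff hK).1 h2, R2m_mulVec]

/-! ### nine divides -/

/-- a group containing lifts of `R1m` and `R2m` has order divisible by nine -/
theorem nine_dvd (hK : HypG K 2 1) {Γ : Subgroup (MulAut (Qa K))} {γ1 γ2 : MulAut (Qa K)} (h1 : LinA R1m γ1)
    (h2 : LinA R2m γ2) (m1 : γ1 ∈ Γ) (m2 : γ2 ∈ Γ) : 9 ∣ Nat.card Γ := by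
  have hfin : Finite K := hK.fin
  obtain ⟨_, _, γx, -, -, -, hP⟩ := exists_pm hK
  have hP' : Pm (rho hK γ1) (rho hK γ2) (rho hK γx) :=
    ⟨fun v => by rw [(linA_iff hK).1 h1, R1m_mulVec], fun v => by rw [(linA_iff hK).1 h2, R2m_mulVec], hP.ex⟩
  have hne : (1 : K) ≠ 0 := one_ne_zero
  have key : 9 ∣ Nat.card (Γ.map (rho hK)) := by
    refine nine_of (hP'.r1_3 hK) (hP'.r2_3 hK) (hP'.comm hK) ?_ ?_ ?_ ?_ ⟨γ1, m1, rfl⟩ ⟨γ2, m2, rfl⟩
    · intro h
      have := congrFun (congrArg (fun f : Equiv.Perm (Fin 4 → K) => f ![1, 0, 0, 0]) h) 0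
      simp [hP'.e1] at this
    · intro h
      have := congrFun (congrArg (fun f : Equiv.Perm (Fin 4 → K) => f ![1, 0, 0, 0]) h) 0
      simp [hP'.e2] at this
    · intro h
      have := congrFun (congrArg (fun f : Equiv.Perm (Fin 4 → K) => f ![1, 0, 0, 0]) h) 1
      simp [hP'.e1, hP'.e2] at this
    · intro h
      have := congrFun (congrArg (fun f : Equiv.Perm (Fin 4 → K) => f ![1, 0, 0, 0]) h) 0
      simp [hP'.e1, hP'.e2] at this
  exact key.trans (Subgroup.card_map_dvd _ _)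

/-- the diagonal case -/
theorem nine_dvd' (hK : HypG K 2 1) {Γ : Subgroup (MulAut (Qa K))} {i j k l : ℕ} {γ δ : MulAut (Qa K)}
    (h1 : LinA (R1m ^ i * R2m ^ j) γ) (h2 : LinA (R1m ^ k * R2m ^ l) δ) (m1 : γ ∈ Γ) (m2 : δ ∈ Γ)
    {a b c d : ℕ} (e1 : (a * i + b * k) % 3 = 1) (e2 : (a * j + b * l) % 3 = 0) (e3 : (c * i + d * k) % 3 = 0)
    (e4 : (c * j + d * l) % 3 = 1) : 9 ∣ Nat.card Γ := by
  obtain ⟨γ1, γ2, γx, g1, g2, -, hP⟩ := exists_pm hK
  set r1 := rho hK γ1 with hr1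
  set r2 := rho hK γ2 with hr2
  have hR1 : ∀ v, r1 v = R1m.mulVec v := (linA_iff hK).1 g1
  have hR2 : ∀ v, r2 v = R2m.mulVec v := (linA_iff hK).1 g2
  have p1 : ∀ (n : ℕ) v, (r1 ^ n) v = (R1m ^ n).mulVec v := by
    intro n
    induction n with
    | zero => intro v; simp
    | succ n ih => intro v; rw [pow_succ, Equiv.Perm.mul_apply, ih, hR1, Matrix.mulVec_mulVec, ← pow_succ]
  have p2 : ∀ (n : ℕ) v, (r2 ^ n) v = (R2m ^ n).mulVec v := by
    intro n
    induction n with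
    | zero => intro v; simp
    | succ n ih => intro v; rw [pow_succ, Equiv.Perm.mul_apply, ih, hR2, Matrix.mulVec_mulVec, ← pow_succ]
  have q : ∀ {i j : ℕ} {γ : MulAut (Qa K)}, LinA (R1m ^ i * R2m ^ j) γ → rho hK γ = r1 ^ i * r2 ^ j := by
    intro i j γ h
    apply Equiv.ext
    intro v
    rw [Equiv.Perm.mul_apply, (linA_iff hK).1 h, p1, p2, Matrix.mulVec_mulVec]
  have c1 : r1 ^ 3 = 1 := hP.r1_3 hK
  have c2 : r2 ^ 3 = 1 := hP.r2_3 hK
  have cc : Commute r1 r2 := hP.comm hK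
  have hm1 : ∀ n : ℕ, r1 ^ n = r1 ^ (n % 3) := fun n => by
    conv_lhs => rw [← Nat.div_add_mod n 3, pow_add, pow_mul, c1, one_pow, one_mul]
  have hm2 : ∀ n : ℕ, r2 ^ n = r2 ^ (n % 3) := fun n => by
    conv_lhs => rw [← Nat.div_add_mod n 3, pow_add, pow_mul, c2, one_pow, one_mul]
  have mix : ∀ a b : ℕ, rho hK (γ ^ a * δ ^ b) = r1 ^ (a * i + b * k) * r2 ^ (a * j + b * l) := by
    intro a b
    rw [map_mul, map_pow, map_pow, q h1, q h2, (cc.pow_pow i j).mul_pow, (cc.pow_pow k l).mul_pow, ← pow_mul,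
      ← pow_mul, ← pow_mul, ← pow_mul, mul_comm a i, mul_comm b k, mul_comm a j, mul_comm b l, pow_add, pow_add,
      mul_assoc, mul_assoc]
    congr 1
    rw [← mul_assoc, ← mul_assoc, (cc.pow_pow (k * b) (j * a)).eq]
  have s1 : LinA R1m (γ ^ a * δ ^ b) := by
    rw [linA_iff hK]
    intro v
    rw [mix, hm1, hm2, e1, e2, pow_one, pow_zero, mul_one, hR1]
  have s2 : LinA R2m (γ ^ c * δ ^ d) := by
    rw [linA_iff hK]
    intro v
    rw [mix, hm1, hm2, e3, e4, pow_one, pow_zero, one_mul, hR2]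
  exact nine_dvd hK s1 s2 (mul_mem (pow_mem m1 a) (pow_mem m2 b)) (mul_mem (pow_mem m1 c) (pow_mem m2 d))

end

end Cfsg.Agent.H270.GT
end

-- part: H270/GT/Five
section
/-!
# S5211, `q = 2`: properties of the five candidates (helper270)
-/

set_option autoImplicit false

namespace Cfsg.Agent.H270.GT

open Cfsg Cfsg.FusionSystem Cfsg.Agent.H779.G2 Cfsg.Agent.H756.PU Cfsg.Agent.H103.GT Cfsg.Agent.H802

universe u

section

variable {K : Type u} [Field K]

/-- the candidate generated by the element of type `(i, j)` -/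
def Ty (K : Type u) [Field K] (i j : ℕ) : Subgroup (MulAut (Qa K)) := GenR {R1m ^ i * R2m ^ j}

theorem Ty_10 : Ty K 1 0 = GenR {R1m} := by simp [Ty]
theorem Ty_01 : Ty K 0 1 = GenR {R2m} := by simp [Ty]
theorem Ty_11 : Ty K 1 1 = GenR {R1m * R2m} := by simp [Ty]
theorem Ty_12 : Ty K 1 2 = GenR {R1m * R2m * R2m} := by simp [Ty, pow_two, mul_assoc]

theorem rho_add (hK : HypG K 2 1) (γ : MulAut (Qa K)) (v w : Fin 4 → K) :
    rho hK γ (v + w) = rho hK γ v + rho hK γ w := by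
  have h1 : v + w = vec (lift v * lift w) := by rw [vec_mul, vec_lift, vec_lift]
  rw [h1, rho_vec, map_mul, vec_mul, rho_apply, rho_apply]

/-- the permutation of type `(i, j)` -/
theorem exists_pow (hK : HypG K 2 1) (i j : ℕ) : ∃ γ : MulAut (Qa K), LinA (R1m ^ i * R2m ^ j) γ := by
  obtain ⟨γ1, γ2, -, g1, g2, -, -⟩ := exists_pm hK
  have p1 : ∀ n : ℕ, LinA (R1m ^ n) (γ1 ^ n) := by
    intro n
    induction n with
    | zero =>
      rw [linA_iff hK]
      intro v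
      simp
    | succ n ih => rw [pow_succ, pow_succ]; exact LinA.mul hK ih g1
  have p2 : ∀ n : ℕ, LinA (R2m ^ n) (γ2 ^ n) := by
    intro n
    induction n with
    | zero =>
      rw [linA_iff hK]
      intro v
      simp
    | succ n ih => rw [pow_succ, pow_succ]; exact LinA.mul hK ih g2
  exact ⟨γ1 ^ i * γ2 ^ j, LinA.mul hK (p1 i) (p2 j)⟩

theorem exists_mem_Ty (hK : HypG K 2 1) (i j : ℕ) : ∃ γ ∈ Ty K i j, LinA (R1m ^ i * R2m ^ j) γ := by
  obtain ⟨γ, hγ⟩ := exists_pow hK i j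
  exact ⟨γ, Subgroup.subset_closure (Or.inr ⟨_, rfl, hγ⟩), hγ⟩

/-- the image of a candidate -/
theorem six_of (hK : HypG K 2 1) (i j : ℕ) : ∃ (m x : Equiv.Perm (Fin 4 → K)) (hm : m ^ 3 = 1) (hx : x ^ 2 = 1)
    (hxm : x * m = m ^ 2 * x), (∀ v, m v = (R1m ^ i * R2m ^ j : Matrix (Fin 4) (Fin 4) K).mulVec v) ∧
    ∀ γ ∈ Ty K i j, rho hK γ ∈ six m x hm hx hxm := by
  obtain ⟨γ1, γ2, γx, g1, g2, gx, hP⟩ := exists_pm hK
  have hR1 : ∀ v, (rho hK γ1) v = R1m.mulVec v := (linA_iff hK).1 g1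
  have hR2 : ∀ v, (rho hK γ2) v = R2m.mulVec v := (linA_iff hK).1 g2
  set r1 := rho hK γ1 with hr1
  set r2 := rho hK γ2 with hr2
  set x := rho hK γx with hx
  have p1 : ∀ (n : ℕ) v, (r1 ^ n) v = (R1m ^ n).mulVec v := by
    intro n
    induction n with
    | zero => intro v; simp
    | succ n ih => intro v; rw [pow_succ, Equiv.Perm.mul_apply, ih, hR1, Matrix.mulVec_mulVec, ← pow_succ]
  have p2 : ∀ (n : ℕ) v, (r2 ^ n) v = (R2m ^ n).mulVec v := by
    intro n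
    induction n with
    | zero => intro v; simp
    | succ n ih => intro v; rw [pow_succ, Equiv.Perm.mul_apply, ih, hR2, Matrix.mulVec_mulVec, ← pow_succ]
  have c1 : r1 ^ 3 = 1 := hP.r1_3 hK
  have c2 : r2 ^ 3 = 1 := hP.r2_3 hK
  have cc : Commute r1 r2 := hP.comm hK
  have cx : x ^ 2 = 1 := hP.x_2 hK
  have hm : (r1 ^ i * r2 ^ j) ^ 3 = 1 := by
    rw [(cc.pow_pow i j).mul_pow, ← pow_mul, ← pow_mul, mul_comm i, mul_comm j, pow_mul, pow_mul, c1, c2, one_pow,
      one_pow, one_mul]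
  have s1 : ∀ n : ℕ, x * r1 ^ n = r1 ^ (2 * n) * x := by
    intro n
    induction n with
    | zero => simp
    | succ n ih => rw [pow_succ, ← mul_assoc, ih, mul_assoc, hP.x_r1 hK, ← mul_assoc, ← pow_add]; ring_nf
  have s2 : ∀ n : ℕ, x * r2 ^ n = r2 ^ (2 * n) * x := by
    intro n
    induction n with
    | zero => simp
    | succ n ih => rw [pow_succ, ← mul_assoc, ih, mul_assoc, hP.x_r2 hK, ← mul_assoc, ← pow_add]; ring_nf
  have hxm : x * (r1 ^ i * r2 ^ j) = (r1 ^ i * r2 ^ j) ^ 2 * x := by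
    rw [← mul_assoc, s1, mul_assoc, s2, (cc.pow_pow i j).mul_pow, ← pow_mul, ← pow_mul, mul_comm 2 i, mul_comm 2 j,
      mul_assoc]
  have hmv : ∀ v, (r1 ^ i * r2 ^ j) v = (R1m ^ i * R2m ^ j : Matrix (Fin 4) (Fin 4) K).mulVec v := by
    intro v
    rw [Equiv.Perm.mul_apply, p1, p2, Matrix.mulVec_mulVec]
  refine ⟨r1 ^ i * r2 ^ j, x, hm, cx, hxm, hmv, ?_⟩
  have hle : Ty K i j ≤ (six (r1 ^ i * r2 ^ j) x hm cx hxm).comap (rho hK) := by
    unfold Ty GenR
    rw [Subgroup.closure_le]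
    rintro γ (hγ | ⟨M, hM, hγ⟩)
    · rcases rho_ind hK hγ with h | h
      · exact ⟨0, 0, by norm_num, by norm_num, by rw [h]; simp⟩
      · refine ⟨0, 1, by norm_num, by norm_num, ?_⟩
        rw [pow_zero, one_mul, pow_one]
        apply Equiv.ext
        intro v
        rw [h, hP.ex]
    · refine ⟨1, 0, by norm_num, by norm_num, ?_⟩
      rw [pow_one, pow_zero, mul_one]
      apply Equiv.ext
      intro v
      rw [(linA_iff hK).1 hγ, hmv, Set.mem_singleton_iff.1 hM]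
  exact fun γ hγ => hle hγ

theorem finite_mulAut_Qa (hK : HypG K 2 1) : Finite (MulAut (Qa K)) := by
  have : Finite K := hK.fin
  exact Cfsg.Agent.H759.finite_mulAut

/-- nine does not divide the order of a candidate of type `(i, j)` -/
theorem not_nine_Ty (hK : HypG K 2 1) (i j : ℕ) : ¬ 9 ∣ Nat.card (Ty K i j) := by
  have hfin : Finite K := hK.fin
  have hfm := finite_mulAut_Qa hK
  obtain ⟨m, x, hm, hx, hxm, -, h⟩ := six_of hK i j
  exact not_nine (rho hK) (fun a ha => ker_rho hK ha) (six_card m x hm hx hxm) inferInstance h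

/-- the elements of a diagonal candidate have fixed vectors -/
theorem fixed_of (hK : HypG K 2 1) {i j : ℕ} {v0 : Fin 4 → K} (hv0 : v0 ≠ 0)
    (hf : (R1m ^ i * R2m ^ j : Matrix (Fin 4) (Fin 4) K).mulVec v0 = v0) {γ : MulAut (Qa K)} (hγ : γ ∈ Ty K i j) :
    ∃ v, v ≠ 0 ∧ rho hK γ v = v := by
  obtain ⟨m, x, hm, hx, hxm, hmv, h⟩ := six_of hK i j
  obtain ⟨k, l, hk, hl, e⟩ := h γ hγ
  have hf' : m v0 = v0 := by rw [hmv, hf]
  rcases Nat.lt_or_ge l 1 with hl' | hl'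
  · have : l = 0 := by omega
    subst this
    refine ⟨v0, hv0, ?_⟩
    rw [e, pow_zero, mul_one]
    clear e hk
    induction k with
    | zero => rfl
    | succ k ih => rw [pow_succ, Equiv.Perm.mul_apply, hf', ih]
  · have : l = 1 := by omega
    subst this
    have hc : ∀ n : ℕ, x * m ^ n = m ^ (2 * n) * x := by
      intro n
      induction n with
      | zero => simp
      | succ n ih => rw [pow_succ, ← mul_assoc, ih, mul_assoc, hxm, ← mul_assoc, ← pow_add]; ring_nf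
    have hsq : rho hK γ * rho hK γ = 1 := by
      rw [e, pow_one, mul_assoc, ← mul_assoc x, hc, mul_assoc, ← pow_two, hx, mul_one, ← pow_add]
      have : k + 2 * k = 3 * k := by ring
      rw [this, pow_mul, hm, one_pow]
    have hsq' : ∀ v, rho hK γ (rho hK γ v) = v := fun v => by rw [← Equiv.Perm.mul_apply, hsq, Equiv.Perm.one_apply]
    by_cases hall : ∀ v, v + rho hK γ v = 0
    · refine ⟨v0, hv0, ?_⟩
      have h1 := hall v0
      funext s
      have h2 := congrFun h1 s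
      have h3 := two0 hK
      simp only [Pi.add_apply, Pi.zero_apply] at h2
      linear_combination h2 - v0 s * h3
    · push Not at hall
      obtain ⟨v, hv⟩ := hall
      refine ⟨_, hv, ?_⟩
      rw [rho_add, hsq', add_comm]

attribute [-instance] instNoNatZeroDivisorsOfIsAddTorsionFree instIsCharPOfIsLeftCancelAddOfCharP in
theorem fixed_11 (hK : HypG K 2 1) {γ : MulAut (Qa K)} (hγ : γ ∈ Ty K 1 1) : ∃ v, v ≠ 0 ∧ rho hK γ v = v := by
  have h2 := two0 hK
  refine fixed_of hK (v0 := ![1, 1, 0, 1]) ?_ ?_ hγ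
  · intro h
    exact one_ne_zero (congrFun h 0)
  · rw [pow_one, pow_one, ← Matrix.mulVec_mulVec, R2m_mulVec, R1m_mulVec]
    funext i
    (revert i; simp only [_root_.Fin.forall_fin_succ, _root_.Nat.succ_eq_add_one, Nat.reduceAdd, Fin.isValue, _root_.Matrix.cons_val, _root_.Matrix.cons_val_zero, _root_.add_zero, _root_.Matrix.cons_val_one, _root_.zero_add, _root_.Matrix.cons_val_succ, _root_.Matrix.cons_val_fin_one, _root_.add_eq_left, _root_.forall_const, _root_.and_self, _root_.true_and]) <;> grobner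

attribute [-instance] instNoNatZeroDivisorsOfIsAddTorsionFree instIsCharPOfIsLeftCancelAddOfCharP in
theorem fixed_12 (hK : HypG K 2 1) {γ : MulAut (Qa K)} (hγ : γ ∈ Ty K 1 2) : ∃ v, v ≠ 0 ∧ rho hK γ v = v := by
  have h2 := two0 hK
  refine fixed_of hK (v0 := ![1, 0, 0, 1]) ?_ ?_ hγ
  · intro h
    exact one_ne_zero (congrFun h 0)
  · rw [pow_one, pow_two, ← Matrix.mulVec_mulVec, ← Matrix.mulVec_mulVec, R2m_mulVec, R2m_mulVec, R1m_mulVec]
    funext i
    (revert i; simp only [_root_.Fin.forall_fin_succ, _root_.Nat.succ_eq_add_one, Nat.reduceAdd, Fin.isValue, _root_.Matrix.cons_val, _root_.Matrix.cons_val_zero, _root_.add_zero, _root_.Matrix.cons_val_one, _root_.zero_add, _root_.Matrix.cons_val_succ, _root_.Matrix.cons_val_fin_one, _root_.add_eq_left, _root_.forall_const, _root_.and_self, _root_.true_and]) <;> grobner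

/-- the candidate `GenR {R1m}` leaves `Z₃` invariant -/
theorem inv_10 (hK : HypG K 2 1) : _root_.Cfsg.Agent.H756.PU.Inv (Ty K 1 0) (Z3 K) := by
  refine ⟨Z3_le_Qa, ?_⟩
  let T : Subgroup (MulAut (Qa K)) :=
    { carrier := {γ | ∀ g : Qa K, ((γ g : Qa K) : GU K) ∈ Z3 K ↔ (g : GU K) ∈ Z3 K}
      one_mem' := fun g => Iff.rfl
      mul_mem' := by
        intro γ δ hγ hδ g
        rw [MulAut.mul_apply, hγ, hδ]
      inv_mem' := by
        intro γ hγ g
        rw [← hγ, MulAut.apply_inv_self] }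
  have hmem : ∀ g : Qa K, (g : GU K) ∈ Z3 K ↔ vec g 0 = 0 ∧ vec g 1 = 0 := by
    intro g
    rw [mem_Z3]
    constructor
    · rintro ⟨-, h1, h2⟩
      exact ⟨h1, h2⟩
    · rintro ⟨h1, h2⟩
      exact ⟨g.2, h1, h2⟩
  have hle : Ty K 1 0 ≤ T := by
    unfold Ty GenR
    rw [Subgroup.closure_le]
    rintro γ (hγ | ⟨M, hM, hγ⟩) g
    · rw [hmem, hmem, ← rho_vec hK]
      rcases rho_ind hK hγ with h | h
      · rw [h]; rfl
      · rw [h]
        simp only [Matrix.cons_val]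
        constructor
        · rintro ⟨h1, h2⟩
          exact ⟨h1, by rwa [h1, add_zero] at h2⟩
        · rintro ⟨h1, h2⟩
          exact ⟨h1, by rw [h1, h2, add_zero]⟩
    · rw [Set.mem_singleton_iff.1 hM, pow_one, pow_zero, mul_one] at hγ
      rw [hmem, hmem, ← rho_vec hK, (linA_iff hK).1 hγ, R1m_mulVec]
      simp only [Matrix.cons_val]
      constructor
      · rintro ⟨h1, h2⟩
        exact ⟨by rwa [h1, add_zero] at h2, h1⟩
      · rintro ⟨h1, h2⟩
        exact ⟨h2, by rw [h1, h2, add_zero]⟩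
  exact fun γ hγ e he => (hle hγ e).2 he

/-- the standard automizer of `Q_b` leaves `Z₃` invariant -/
theorem inv_b : _root_.Cfsg.Agent.H756.PU.Inv (Gen IsWb ⊥ : Subgroup (MulAut (Qb K))) (Z3 K) := by
  refine ⟨Z3_le_Qb, ?_⟩
  let T : Subgroup (MulAut (Qb K)) :=
    { carrier := {γ | ∀ g : Qb K, ((γ g : Qb K) : GU K) ∈ Z3 K ↔ (g : GU K) ∈ Z3 K}
      one_mem' := fun g => Iff.rfl
      mul_mem' := by
        intro γ δ hγ hδ g
        rw [MulAut.mul_apply, hγ, hδ]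
      inv_mem' := by
        intro γ hγ g
        rw [← hγ, MulAut.apply_inv_self] }
  have hle : Gen IsWb ⊥ ≤ T := by
    unfold Gen
    rw [Subgroup.closure_le]
    rintro γ ((hγ | hγ) | ⟨d, hd, hγ⟩) g
    · obtain ⟨s, -, hs⟩ := (mem_autInducedBy_iff _ _ _).1 hγ
      have hg : (g : GU K).b = 0 := g.2
      rw [hs g, mem_Z3, mem_Z3, cj_a, cj_b, cj_c, hg]
      constructor
      · rintro ⟨h1, -, h3⟩
        refine ⟨h1, rfl, ?_⟩
        rwa [h1, mul_zero, mul_zero, zero_add, zero_add] at h3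
      · rintro ⟨h1, -, h3⟩
        refine ⟨h1, rfl, ?_⟩
        rw [h1, h3]; ring
    · have hg : (g : GU K).b = 0 := g.2
      have hg' : ((γ g : Qb K) : GU K).b = 0 := (γ g).2
      have hγ' : IsWb γ := hγ
      rw [mem_Z3, mem_Z3, hγ'.a, hγ'.c, hg, hg']
      constructor
      · rintro ⟨h1, -, h3⟩
        exact ⟨h3, rfl, neg_eq_zero.1 h1⟩
      · rintro ⟨h1, -, h3⟩
        exact ⟨neg_eq_zero.2 h3, rfl, h1⟩
    · rw [Subgroup.mem_bot.1 hd] at hγ
      rw [hγ g]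
      rfl
  exact fun γ hγ e he => (hle hγ e).2 he

/-- **The types**: a subgroup which is one of the five candidates, is determined by a few invariants -/
theorem type_cases (hK : HypG K 2 1) {Γ : Subgroup (MulAut (Qa K))}
    (h : Γ = GenR {R1m} ∨ Γ = GenR {R2m} ∨ Γ = GenR {R1m * R2m} ∨ Γ = GenR {R1m * R2m * R2m} ∨ Γ = GenR {R1m, R2m}) :
    Γ = Ty K 1 0 ∨ Γ = Ty K 0 1 ∨ Γ = Ty K 1 1 ∨ Γ = Ty K 1 2 ∨ (Γ = GenR {R1m, R2m} ∧ 9 ∣ Nat.card Γ) := by
  rw [Ty_10, Ty_01, Ty_11, Ty_12]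
  rcases h with h | h | h | h | h
  · exact Or.inl h
  · exact Or.inr (Or.inl h)
  · exact Or.inr (Or.inr (Or.inl h))
  · exact Or.inr (Or.inr (Or.inr (Or.inl h)))
  · refine Or.inr (Or.inr (Or.inr (Or.inr ⟨h, ?_⟩)))
    obtain ⟨γ1, γ2, -, g1, g2, -, -⟩ := exists_pm hK
    subst h
    exact nine_dvd hK g1 g2 (Subgroup.subset_closure (Or.inr ⟨_, by simp, g1⟩))
      (Subgroup.subset_closure (Or.inr ⟨_, by simp, g2⟩))

/-- a candidate containing a lift of the element of type `(1, 1)` -/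
theorem eq_11 (hK : HypG K 2 1) {Γ : Subgroup (MulAut (Qa K))}
    (h : Γ = Ty K 1 0 ∨ Γ = Ty K 0 1 ∨ Γ = Ty K 1 1 ∨ Γ = Ty K 1 2 ∨ (Γ = GenR {R1m, R2m} ∧ 9 ∣ Nat.card Γ))
    (h9 : ¬ 9 ∣ Nat.card Γ) (hle : Ty K 1 1 ≤ Γ) : Γ = Ty K 1 1 := by
  obtain ⟨δ, hδ, hδ'⟩ := exists_mem_Ty hK 1 1
  rcases h with rfl | rfl | h | rfl | ⟨-, h⟩
  · obtain ⟨γ, hγ, hγ'⟩ := exists_mem_Ty hK 1 0
    exact absurd (nine_dvd' hK hγ' hδ' hγ (hle hδ) (a := 1) (b := 0) (c := 2) (d := 1) rfl rfl rfl rfl) h9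
  · obtain ⟨γ, hγ, hγ'⟩ := exists_mem_Ty hK 0 1
    exact absurd (nine_dvd' hK hγ' hδ' hγ (hle hδ) (a := 2) (b := 1) (c := 1) (d := 0) rfl rfl rfl rfl) h9
  · exact h
  · obtain ⟨γ, hγ, hγ'⟩ := exists_mem_Ty hK 1 2
    exact absurd (nine_dvd' hK hγ' hδ' hγ (hle hδ) (a := 2) (b := 2) (c := 1) (d := 2) rfl rfl rfl rfl) h9
  · exact absurd h h9

/-- a candidate containing a lift of the element of type `(1, 2)` -/
theorem eq_12 (hK : HypG K 2 1) {Γ : Subgroup (MulAut (Qa K))}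
    (h : Γ = Ty K 1 0 ∨ Γ = Ty K 0 1 ∨ Γ = Ty K 1 1 ∨ Γ = Ty K 1 2 ∨ (Γ = GenR {R1m, R2m} ∧ 9 ∣ Nat.card Γ))
    (h9 : ¬ 9 ∣ Nat.card Γ) (hle : Ty K 1 2 ≤ Γ) : Γ = Ty K 1 2 := by
  obtain ⟨δ, hδ, hδ'⟩ := exists_mem_Ty hK 1 2
  rcases h with rfl | rfl | rfl | h | ⟨-, h⟩
  · obtain ⟨γ, hγ, hγ'⟩ := exists_mem_Ty hK 1 0
    exact absurd (nine_dvd' hK hγ' hδ' hγ (hle hδ) (a := 1) (b := 0) (c := 1) (d := 2) rfl rfl rfl rfl) h9
  · obtain ⟨γ, hγ, hγ'⟩ := exists_mem_Ty hK 0 1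
    exact absurd (nine_dvd' hK hγ' hδ' hγ (hle hδ) (a := 1) (b := 1) (c := 1) (d := 0) rfl rfl rfl rfl) h9
  · obtain ⟨γ, hγ, hγ'⟩ := exists_mem_Ty hK 1 1
    exact absurd (nine_dvd' hK hγ' hδ' hγ (hle hδ) (a := 2) (b := 2) (c := 2) (d := 1) rfl rfl rfl rfl) h9
  · exact h
  · exact absurd h h9

end

end Cfsg.Agent.H270.GT
end

private theorem dce_0d488dcad5bd : _root_.True := by
  try have : _root_.True := by simp only [_root_.Cfsg.Agent.H270.GT.vec.eq_1]
  try have : _root_.True := by simp only [_root_.Cfsg.Agent.H270.GT.eq_11]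
  try have : _root_.True := by simp only [_root_.Cfsg.Agent.H270.GT.six.congr_simp]
  try have : _root_.True := by simp only [_root_.Cfsg.Agent.H270.GT.Ty.eq_1]
  try have : _root_.True := by simp only [_root_.Cfsg.Agent.H779.G2.R2m.eq_1]
  try have : _root_.True := by simp only [_root_.Cfsg.Agent.H270.GT.rho.congr_simp]
  try have : _root_.True := by simp only [_root_.Cfsg.Agent.H270.GT.lift.eq_1]
  try have : _root_.True := by simp only [_root_.Cfsg.Agent.H779.G2.R1m.eq_1]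
  try have : _root_.True := by simp only [_root_.Cfsg.Agent.H270.GT.eq_12]
  exact _root_.True.intro
end

section
prune_inst 0xf0bcfbadf83ddfdfff7e7ffedddffc39d4dfffffdff94bffe8e3ff8fdf030239e52b8d1de050ff0ff6629630b87853f97eceffee6bdc7ffffd5ff45ffbee0fe5f7bd88519688340fbc0fff63f07f8e7f000000000000000000000000000000004200000000

-- part: H771/GT/Tw_mg
section
prune_inst 0xc0100420080002000018001020003c42920000020068000000c0050204c0cc4024020820b8b00500080208544038006813100000422000000a000800011d01a08000000090480000060009000004000000000000000000000000000000000000000000000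
set_option linter.all false
open scoped Cfsg.Agent.FastGrp

-- part: H771/P4/Twist
section
/-!
# Twisting a system over a whole group, with the automizers of the invariant subgroups (S5210)
-/

set_option autoImplicit false

namespace Cfsg.Agent.H771.P4

open Cfsg Cfsg.FusionSystem Cfsg.Agent.H759 Cfsg.Agent.H756.PU Cfsg.Agent.H805.PU

universe u

variable {G0 : Type u} [Group G0]

theorem push_symm {θ : MulAut G0} {F F' : FusionSystem (⊤ : Subgroup G0)} {hθ : Function.Injective θ.toMonoidHom}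
    {hθ' : Function.Injective (θ⁻¹ : MulAut G0).toMonoidHom} (h : IsPush hθ F F') : IsPush hθ' F' F := by
  refine ⟨(Subgroup.map_top_of_surjective _ (θ⁻¹ : MulAut G0).surjective).symm, fun P φ => ?_⟩
  have hr : (θ.toMonoidHom : G0 →* G0).range = ⊤ := MonoidHom.range_eq_top.2 θ.surjective
  obtain ⟨P0, rfl⟩ := exists_eq_map (f := (θ.toMonoidHom : G0 →* G0)) (P' := P) (by rw [hr]; exact le_top)
  obtain ⟨φ0, rfl⟩ := exists_eq_cb hθ φ (fun y => by rw [hr]; exact Subgroup.mem_top _)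
  rw [h.hom]
  have hP : (P0.map θ.toMonoidHom).map (θ⁻¹ : MulAut G0).toMonoidHom = P0 := by
    rw [Subgroup.map_map]
    have : (θ⁻¹ : MulAut G0).toMonoidHom.comp θ.toMonoidHom = MonoidHom.id _ := by
      ext x
      show θ⁻¹ (θ x) = x
      exact MulAut.inv_apply_self _ _ _
    rw [this, Subgroup.map_id]
  have key : ∀ (P1 : Subgroup G0) (hP1 : P1 = P0) (φ1 : P1 →* G0), (∀ (x : G0) (h0 : x ∈ P0) (h1 : x ∈ P1),
      φ1 ⟨x, h1⟩ = φ0 ⟨x, h0⟩) → (φ1 ∈ F.Hom P1 ↔ φ0 ∈ F.Hom P0) := by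
    intro P1 hP1 φ1 h1
    subst hP1
    have : φ1 = φ0 := MonoidHom.ext fun x => h1 x x.2 x.2
    rw [this]
  apply key _ hP
  intro x h0 h1
  have h2 : (θ⁻¹ : MulAut G0).toMonoidHom (θ x) = x := MulAut.inv_apply_self _ _ _
  have h3 : θ x ∈ P0.map θ.toMonoidHom := ⟨x, h0, rfl⟩
  have h4 := cb_apply hθ' (cb hθ φ0) ⟨θ x, h3⟩ ⟨θ x, h3, rfl⟩
  have h5 := cb_apply hθ φ0 ⟨x, h0⟩ h3
  have h6 : (⟨x, h1⟩ : ↥((P0.map θ.toMonoidHom).map (θ⁻¹ : MulAut G0).toMonoidHom)) =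
      ⟨(θ⁻¹ : MulAut G0).toMonoidHom (θ x), ⟨θ x, h3, rfl⟩⟩ := Subtype.ext h2.symm
  rw [h6]
  refine h4.trans ?_
  have h7 : cb hθ φ0 ⟨θ x, h3⟩ = θ (φ0 ⟨x, h0⟩) := h5
  rw [h7]
  exact MulAut.inv_apply_self _ _ _

/-- the automizer of an invariant subgroup under a push forward -/
theorem autGroup_push {θ : MulAut G0} {F F' : FusionSystem (⊤ : Subgroup G0)} {hθ : Function.Injective θ.toMonoidHom}
    (h : IsPush hθ F F') {Q : Subgroup G0} (hQ : Q.map θ.toMonoidHom = Q) {t : MulAut Q}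
    (ht : ∀ e : Q, ((t e : Q) : G0) = θ e) : F'.autGroup Q = (F.autGroup Q).map (MulAut.conj t).toMonoidHom := by
  have key : ∀ (Q1 : Subgroup G0) (hQ1 : Q1 = Q) (α : MulAut Q1) (β : MulAut Q),
      (∀ x : Q1, ∀ y : Q, (x : G0) = y → ((α x : Q1) : G0) = β y) → (α ∈ F'.autGroup Q1 ↔ β ∈ F'.autGroup Q) := by
    intro Q1 hQ1 α β h1
    subst hQ1
    have : α = β := MulEquiv.ext fun x => Subtype.ext (h1 x x rfl)
    rw [this]
  have main : ∀ α : MulAut Q, MulAut.conj t α ∈ F'.autGroup Q ↔ α ∈ F.autGroup Q := by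
    intro α
    rw [← h.mem_autGroup_iff]
    symm
    apply key _ hQ
    intro x y hxy
    obtain ⟨z, rfl⟩ := (eqv hθ Q).surjective x
    rw [coe_ca_apply]
    have hy : y = t z := Subtype.ext (by rw [ht]; exact hxy.symm)
    rw [hy]
    show θ (α z : Q) = (((t * α * t⁻¹) (t z) : Q) : G0)
    rw [MulAut.mul_apply, MulAut.mul_apply, MulAut.inv_apply_self, ht]
  ext γ
  constructor
  · intro hγ
    refine ⟨MulAut.conj t⁻¹ γ, ?_, ?_⟩
    · apply (main _).1
      have : MulAut.conj t (MulAut.conj t⁻¹ γ) = γ := by simp only [MulAut.conj_apply, mul_assoc, _root_.map_inv, _root_.MulAut.inv_apply, _root_.MulAut.conj_symm_apply, _root_.mul_inv_cancel_left, _root_.mul_inv_cancel, _root_.mul_one]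
      rwa [this]
    · show MulAut.conj t (MulAut.conj t⁻¹ γ) = γ
      simp only [MulAut.conj_apply, mul_assoc, _root_.map_inv, _root_.MulAut.inv_apply, _root_.MulAut.conj_symm_apply, _root_.mul_inv_cancel_left, _root_.mul_inv_cancel, _root_.mul_one]
  · rintro ⟨α, hα, rfl⟩
    exact (main α).2 hα

/-- **the strong form of (G12)** -/
theorem exists_twist [Finite G0] {p : ℕ} [Fact p.Prime] (F : FusionSystem (⊤ : Subgroup G0)) (θ : MulAut G0)
    (hF : F.IsSaturated p) :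
    ∃ F' : FusionSystem (⊤ : Subgroup G0), F'.IsSaturated p ∧ (F'.IsRealizable p ↔ F.IsRealizable p) ∧
      AF F' = (AF F).map (MulAut.conj θ).toMonoidHom ∧
      (∀ E : Subgroup G0, F.IsEssential p E ↔ F'.IsEssential p (E.map θ.toMonoidHom)) ∧
      ∀ (Q : Subgroup G0) (t : MulAut Q), Q.map θ.toMonoidHom = Q → (∀ e : Q, ((t e : Q) : G0) = θ e) →
        F'.autGroup Q = (F.autGroup Q).map (MulAut.conj t).toMonoidHom := by
  have hinj : Function.Injective (θ.toMonoidHom : G0 →* G0) := θ.injective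
  have hinj' : Function.Injective (θ⁻¹ : MulAut G0).toMonoidHom := (θ⁻¹ : MulAut G0).injective
  obtain ⟨F', hF'⟩ := exists_push' (hf := hinj) (T₁ := (⊤ : Subgroup G0)) (T₂ := (⊤ : Subgroup G0))
    (Subgroup.map_top_of_surjective _ θ.surjective).symm F
  refine ⟨F', hF'.isSaturated_iff.2 hF, ⟨H776.Co.isRealizable_push (push_symm (hθ' := hinj') hF'),
    H776.Co.isRealizable_push hF'⟩, AF_push hF', fun E => (isEssential_iff hF').symm, fun Q t hQ ht => autGroup_push hF' hQ ht⟩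

end Cfsg.Agent.H771.P4
end

-- part: H771/GT/Tw
section
/-!
# S5211: twisting systems over `GU K` by automorphisms preserving `Q_a`, `Q_b`

Common tools for `q = 3, 4`: restrictions, `Γ = t G t⁻¹`, twisting by an automorphism commuting with `D`.
-/

set_option autoImplicit false

namespace Cfsg.Agent.H771.GT

open Cfsg Cfsg.FusionSystem Cfsg.Agent.H779.G2 Cfsg.Agent.H756.PU Cfsg.Agent.H802 Cfsg.Agent.H103.GT

universe u

variable {K : Type u} [Field K]

theorem map_eq_of [Finite (GU K)] {Q : Subgroup (GU K)} {α : MulAut (GU K)} (h : ∀ g ∈ Q, α g ∈ Q) :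
    Q.map α.toMonoidHom = Q := by
  apply Subgroup.eq_of_le_of_card_ge
  · rintro _ ⟨g, hg, rfl⟩
    exact h g hg
  · exact (Nat.card_congr (Q.equivMapOfInjective α.toMonoidHom α.injective).toEquiv).le

theorem map_inv_eq {Q : Subgroup (GU K)} {α : MulAut (GU K)} (h : Q.map α.toMonoidHom = Q) :
    Q.map (α⁻¹ : MulAut (GU K)).toMonoidHom = Q := by
  conv_lhs => rw [← h]
  rw [Subgroup.map_map]
  have : (α⁻¹ : MulAut (GU K)).toMonoidHom.comp α.toMonoidHom = MonoidHom.id _ := by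
    ext x : 1
    exact MulAut.inv_apply_self _ _ _
  rw [this, Subgroup.map_id]

theorem exists_restr {Q : Subgroup (GU K)} {α : MulAut (GU K)} (h : Q.map α.toMonoidHom = Q) :
    ∃ t : MulAut Q, IsR α t :=
  ⟨(Q.equivMapOfInjective α.toMonoidHom α.injective).trans (MulEquiv.subgroupCongr h), fun _ => rfl⟩

theorem restr_inv {Q : Subgroup (GU K)} {α : MulAut (GU K)} {t : MulAut Q} (ht : IsR α t) :
    IsR α⁻¹ t⁻¹ := by
  intro e
  have h1 := ht (t⁻¹ e)
  rw [MulAut.apply_inv_self] at h1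
  rw [h1, MulAut.inv_apply_self]

/-- unpacking the conclusions of `StLa4`, `StLb3`, `StLa3` -/
theorem eq_map_conj {Q : Subgroup (GU K)} {Γ G : Subgroup (MulAut Q)} {α : MulAut (GU K)} {t : MulAut Q}
    (ht : IsR α t) {P : MulAut (GU K) → Prop} (hP : ∃ β, P β) (hu : ∀ β, P β → ∀ g : Q, β (g : GU K) = α g)
    (h : ∀ γ : MulAut Q, γ ∈ Γ ↔ ∃ δ ∈ G, ∀ β : MulAut (GU K), P β →
      ∀ g g' : Q, (g' : GU K) = β g → β ((δ g : Q) : GU K) = (γ g' : Q)) :
    Γ = G.map (MulAut.conj t).toMonoidHom := by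
  obtain ⟨β, hβ⟩ := hP
  ext γ
  constructor
  · intro hγ
    obtain ⟨δ, hδ, h1⟩ := (h γ).1 hγ
    refine ⟨δ, hδ, ?_⟩
    apply MulEquiv.ext
    intro g'
    apply Subtype.ext
    have h2 : (g' : GU K) = β (t⁻¹ g' : Q) := by
      rw [hu β hβ, ← ht, MulAut.apply_inv_self]
    have h3 := h1 β hβ _ _ h2
    rw [← h3, hu β hβ, ← ht]
    rfl
  · rintro ⟨δ, hδ, rfl⟩
    refine (h _).2 ⟨δ, hδ, fun β' hβ' g g' hg => ?_⟩
    have h2 : g' = t g := by
      apply Subtype.ext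
      rw [hg, hu β' hβ', ht]
    subst h2
    rw [hu β' hβ', ← ht]
    show ((t (δ g) : Q) : GU K) = ((t (δ (t⁻¹ (t g))) : Q) : GU K)
    rw [MulAut.inv_apply_self]

theorem map_conj_comm {D : Subgroup (MulAut (GU K))} {θ : MulAut (GU K)} (h : ∀ d ∈ D, θ * d = d * θ) :
    D.map (MulAut.conj θ).toMonoidHom = D := by
  have key : ∀ d ∈ D, MulAut.conj θ d = d := by
    intro d hd
    rw [MulAut.conj_apply, h d hd, mul_inv_cancel_right]
  ext x
  constructor
  · rintro ⟨d, hd, rfl⟩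
    show MulAut.conj θ d ∈ D
    rw [key d hd]
    exact hd
  · intro hx
    exact ⟨x, hx, key x hx⟩

theorem comm_inv {D : Subgroup (MulAut (GU K))} {θ : MulAut (GU K)} (h : ∀ d ∈ D, θ * d = d * θ) :
    ∀ d ∈ D, θ⁻¹ * d = d * θ⁻¹ := by
  intro d hd
  rw [inv_mul_eq_iff_eq_mul, ← mul_assoc, h d hd, mul_inv_cancel_right]

theorem map_conj_inv {G : Type*} [Group G] (H : Subgroup G) (t : G) :
    (H.map (MulAut.conj t).toMonoidHom).map (MulAut.conj t⁻¹).toMonoidHom = H := by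
  rw [Subgroup.map_map]
  have : (MulAut.conj t⁻¹).toMonoidHom.comp (MulAut.conj t).toMonoidHom = MonoidHom.id G := by
    ext x
    simp only [MulAut.conj_apply, mul_assoc, _root_.map_inv, _root_.MulEquiv.toMonoidHom_eq_coe, _root_.MonoidHom.coe_comp, _root_.MonoidHom.coe_coe, _root_.MulAut.coe_inv, _root_.Function.comp_apply, _root_.MulAut.conj_symm_apply, _root_.inv_mul_cancel_left, _root_.inv_mul_cancel, _root_.mul_one, _root_.MonoidHom.id_apply]
  rw [this, Subgroup.map_id]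

/-- twisting back: if `Aut_F(Q_a) = t G_a t⁻¹`, `Aut_F(Q_b) = t G_b t⁻¹`, `t = θ|` then the twist by `θ⁻¹` has the automizers `G_a`, `G_b` -/
theorem untwist [Finite (GU K)] {p : ℕ} [Fact p.Prime] {F : FusionSystem (⊤ : Subgroup (GU K))} (hF : F.IsSaturated p)
    {θ : MulAut (GU K)} (ha : (Qa K).map θ.toMonoidHom = Qa K) (hb : (Qb K).map θ.toMonoidHom = Qb K)
    {ta : MulAut (Qa K)} {tb : MulAut (Qb K)} (hta : IsR θ ta) (htb : IsR θ tb)
    {Ga : Subgroup (MulAut (Qa K))} {Gb : Subgroup (MulAut (Qb K))}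
    (hGa : F.autGroup (Qa K) = Ga.map (MulAut.conj ta).toMonoidHom)
    (hGb : F.autGroup (Qb K) = Gb.map (MulAut.conj tb).toMonoidHom) :
    ∃ F' : FusionSystem (⊤ : Subgroup (GU K)), F'.IsSaturated p ∧ (F'.IsRealizable p ↔ F.IsRealizable p) ∧
      AF F' = (AF F).map (MulAut.conj θ⁻¹).toMonoidHom ∧ F'.autGroup (Qa K) = Ga ∧ F'.autGroup (Qb K) = Gb := by
  obtain ⟨F', h1, h2, h3, -, h4⟩ := H771.P4.exists_twist F θ⁻¹ hF
  refine ⟨F', h1, h2, h3, ?_, ?_⟩
  · rw [h4 (Qa K) ta⁻¹ (map_inv_eq ha) (restr_inv hta), hGa, map_conj_inv]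
  · rw [h4 (Qb K) tb⁻¹ (map_inv_eq hb) (restr_inv htb), hGb, map_conj_inv]

/-- two systems with both essentials and the same automizers of `S`, `Q_a`, `Q_b` are equal -/
theorem eq_of_same (H : Pieces.{u}) {p n : ℕ} [Fact p.Prime] (hK : HypG K p n) (hq : 2 < p ^ n) (h7 : ¬ (p = 7 ∧ n = 1))
    {F F' : FusionSystem (⊤ : Subgroup (GU K))} (hF : F.IsSaturated p) (hF' : F'.IsSaturated p) (h0 : AF F = AF F')
    (h1 : F.autGroup (Qa K) = F'.autGroup (Qa K)) (h2 : F.autGroup (Qb K) = F'.autGroup (Qb K)) : F = F' := by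
  have hfin : Finite (GU K) := finite_GU hK
  exact fusionSystem_ext (Cfsg.Agent.H546.PU.stSame F F' (Qa K) (Qb K) (isP hK) hF hF' le_top le_top
    (fun E hE => ess_cases H hK hq h7 hF hE) (fun E hE => ess_cases H hK hq h7 hF' hE)
    (autGroup_top_eq_of_AF h0) h1 h2)

end Cfsg.Agent.H771.GT
end

-- part: H505/GT/Model
section
/-!
# S5211 (`q = 2`): a Boolean model of `GU K`, `|K| = 2`
-/

set_option autoImplicit false

namespace Cfsg.Agent.H505.GT

open Cfsg Cfsg.FusionSystem Cfsg.Agent.H756.PU Cfsg.Agent.H779.G2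

universe u

/-- the Boolean model of `GU K` -/
@[ext] structure B6 where
  a : Bool
  b : Bool
  c : Bool
  d : Bool
  e : Bool
  f : Bool

namespace B6

instance : Mul B6 := ⟨fun x y =>
  { a := x.a ^^ y.a
    b := x.b ^^ y.b
    c := x.c ^^ y.c ^^ (x.b && y.a)
    d := x.d ^^ y.d ^^ (x.b && y.a)
    e := x.e ^^ y.e ^^ ((x.d ^^ x.c ^^ x.b) && y.a)
    f := x.f ^^ y.f ^^ (x.d && y.c) ^^ (x.e && y.b) ^^ (x.c && y.a) ^^ (x.d && y.a && y.b) ^^ (x.b && x.c && y.a)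
      ^^ (x.b && y.a && y.c) ^^ (x.c && y.a && y.b) ^^ (x.b && y.a && y.b) ^^ (x.b && y.a) }⟩

end B6

section
variable {K : Type u} [Field K]

/-- a Boolean as an element of `K` -/
def bt (x : Bool) : K := cond x 1 0

@[simp] theorem bt_true : (bt true : K) = 1 := rfl
@[simp] theorem bt_false : (bt false : K) = 0 := rfl

theorem two_eq (h : HypG K 2 1) : (2 : K) = 0 := by
  have := h.char
  have := CharP.cast_eq_zero K 2
  simpa using this

theorem cases01 (h : HypG K 2 1) (x : K) : x = 0 ∨ x = 1 := by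
  have := h.fin
  have := Fintype.ofFinite K
  have hc : Fintype.card K = 2 := by rw [← Nat.card_eq_fintype_card, h.card]; norm_num
  have h1 : x ^ 2 = x := by
    have := FiniteField.pow_card x
    rwa [hc] at this
  have h2 : x * (x - 1) = 0 := by ring_nf; rw [h1]; ring
  rcases mul_eq_zero.1 h2 with h | h
  · left; exact h
  · right; exact sub_eq_zero.1 h

theorem bt_surj (h : HypG K 2 1) (x : K) : ∃ y, bt y = x := by
  rcases cases01 h x with h | h
  · exact ⟨false, by simp [h]⟩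
  · exact ⟨true, by simp [h]⟩

theorem bt_inj {x y : Bool} (h : (bt x : K) = bt y) : x = y := by
  cases x <;> cases y <;> simp_all

theorem bt_xor (h : HypG K 2 1) (x y : Bool) : (bt (x ^^ y) : K) = bt x + bt y := by
  have h2 := two_eq h
  cases x <;> cases y <;> simp [← h2]
  norm_num

theorem bt_and (x y : Bool) : (bt (x && y) : K) = bt x * bt y := by
  cases x <;> cases y <;> simp

theorem bt_sq (x : Bool) : (bt x : K) ^ 2 = bt x := by cases x <;> simp
theorem bt_cu (x : Bool) : (bt x : K) ^ 3 = bt x := by cases x <;> simp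

/-- decoding -/
def dec (x : B6) : GU K := ⟨bt x.a, bt x.b, bt x.c, bt x.d, bt x.e, bt x.f⟩

theorem dec_mul (h : HypG K 2 1) (x y : B6) : (dec (x * y) : GU K) = dec x * dec y := by
  have h2 := two_eq h
  ext
  · exact bt_xor h _ _
  · exact bt_xor h _ _
  · show (bt (x.c ^^ y.c ^^ (x.b && y.a)) : K) = bt x.c + bt y.c + bt x.b * bt y.a
    simp only [bt_xor h, bt_and]
  · show (bt (x.d ^^ y.d ^^ (x.b && y.a)) : K) = bt x.d + bt y.d + 2 * bt x.c * bt y.a + bt x.b * bt y.a ^ 2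
    simp only [bt_xor h, bt_and, bt_sq, h2]; ring
  · show (bt (x.e ^^ y.e ^^ ((x.d ^^ x.c ^^ x.b) && y.a)) : K) = bt x.e + bt y.e + 3 * bt x.d * bt y.a + 3 * bt x.c * bt y.a ^ 2 + bt x.b * bt y.a ^ 3
    simp only [bt_xor h, bt_and, bt_sq, bt_cu]
    linear_combination (- bt x.d * bt y.a - bt x.c * bt y.a) * h2
  · show (bt (x.f ^^ y.f ^^ (x.d && y.c) ^^ (x.e && y.b) ^^ (x.c && y.a) ^^ (x.d && y.a && y.b) ^^ (x.b && x.c && y.a)
      ^^ (x.b && y.a && y.c) ^^ (x.c && y.a && y.b) ^^ (x.b && y.a && y.b) ^^ (x.b && y.a)) : K) =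
      bt x.f + bt y.f + 3 * bt x.d * bt y.c - bt x.e * bt y.b + 6 * bt x.c * bt y.a * bt y.c + 3 * bt x.c ^ 2 * bt y.a - 3 * bt x.d * bt y.a * bt y.b
      + 3 * bt x.b * bt x.c * bt y.a ^ 2 + 3 * bt x.b * bt y.a ^ 2 * bt y.c - 3 * bt x.c * bt y.a ^ 2 * bt y.b - bt x.b * bt y.a ^ 3 * bt y.b
      + bt x.b ^ 2 * bt y.a ^ 3
    simp only [bt_xor h, bt_and, bt_sq, bt_cu]
    generalize (bt x.a : K) = xa
    generalize (bt x.b : K) = xb
    generalize (bt x.c : K) = xc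
    generalize (bt x.d : K) = xd
    generalize (bt x.e : K) = xe
    generalize (bt x.f : K) = xf
    generalize (bt y.a : K) = ya
    generalize (bt y.b : K) = yb
    generalize (bt y.c : K) = yc
    generalize (bt y.f : K) = yf
    linear_combination (- xd * yc + xe * yb - 3 * xc * ya * yc - xc * ya + 2 * xd * ya * yb - xb * xc * ya - xb * ya * yc + 2 * xc * ya * yb + xb * ya * yb) * h2

theorem dec_inj {x y : B6} (h : (dec x : GU K) = dec y) : x = y := by
  have h1 := congrArg GU.a h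
  have h2 := congrArg GU.b h
  have h3 := congrArg GU.c h
  have h4 := congrArg GU.d h
  have h5 := congrArg GU.e h
  have h6 := congrArg GU.f h
  ext
  exacts [bt_inj h1, bt_inj h2, bt_inj h3, bt_inj h4, bt_inj h5, bt_inj h6]

theorem dec_surj (h : HypG K 2 1) (g : GU K) : ∃ x, dec x = g := by
  obtain ⟨a, ha⟩ := bt_surj h g.a
  obtain ⟨b, hb⟩ := bt_surj h g.b
  obtain ⟨c, hc⟩ := bt_surj h g.c
  obtain ⟨d, hd⟩ := bt_surj h g.d
  obtain ⟨e, he⟩ := bt_surj h g.e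
  obtain ⟨f, hf⟩ := bt_surj h g.f
  refine ⟨⟨a, b, c, d, e, f⟩, ?_⟩
  ext <;> simp [dec, *]

/-- the bijection -/
noncomputable def dE (h : HypG K 2 1) : B6 ≃ GU K := Equiv.ofBijective dec ⟨fun _ _ h => dec_inj h, dec_surj h⟩

theorem dE_apply (h : HypG K 2 1) (x : B6) : dE h x = dec x := rfl

end

end Cfsg.Agent.H505.GT
end

-- part: H505/GT/Conj
section
/-!
# S5211 (`q = 2`): generalities on `ConjOn` and `autInducedBy`
-/

set_option autoImplicit false

namespace Cfsg.Agent.H505.GT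

open Cfsg Cfsg.FusionSystem Cfsg.Agent.H756.PU Cfsg.Agent.H779.G2

universe u

theorem mem_aut_iff {G : Type u} [Group G] (Q : Subgroup G) [Q.Normal] (α : MulAut Q) :
    α ∈ autInducedBy ⊤ Q ↔ ∃ x : G, α = MulAut.conjNormal x := by
  constructor
  · intro h
    have h1 : autInducedBy ⊤ Q ≤ (MulAut.conjNormal (H := Q)).range := by
      rw [autInducedBy, Subgroup.closure_le]
      rintro β ⟨g, -, hg⟩
      refine ⟨g, ?_⟩
      ext x
      rw [MulAut.conjNormal_apply, hg x]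
    obtain ⟨x, hx⟩ := h1 h
    exact ⟨x, hx.symm⟩
  · rintro ⟨x, rfl⟩
    exact Subgroup.subset_closure ⟨x, Subgroup.mem_top _, fun e => MulAut.conjNormal_apply x e⟩

theorem conj_mem_aut {G : Type u} [Group G] (Q : Subgroup G) [Q.Normal] (x : G) :
    MulAut.conjNormal x ∈ autInducedBy ⊤ Q := (mem_aut_iff Q _).2 ⟨x, rfl⟩

section
variable {K : Type u} [Field K]

/-- restriction to an invariant subgroup -/
def rs {Q : Subgroup (GU K)} (θ : MulAut (GU K)) (hQ : ∀ g, g ∈ Q ↔ θ g ∈ Q) : MulAut Q where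
  toFun g := ⟨θ g, (hQ g).1 g.2⟩
  invFun g := ⟨θ.symm g, (hQ _).2 (by rw [MulEquiv.apply_symm_apply]; exact g.2)⟩
  left_inv g := by ext1; exact θ.symm_apply_apply g
  right_inv g := by ext1; exact θ.apply_symm_apply g
  map_mul' x y := by ext1; exact map_mul θ _ _

theorem rs_apply {Q : Subgroup (GU K)} (θ : MulAut (GU K)) (hQ : ∀ g, g ∈ Q ↔ θ g ∈ Q) (g : Q) :
    ((rs θ hQ g : Q) : GU K) = θ g := rfl

theorem conjOn_iff {Q : Subgroup (GU K)} (θ : MulAut (GU K)) (hQ : ∀ g, g ∈ Q ↔ θ g ∈ Q) (Γ Γ' : Subgroup (MulAut Q)) :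
    ConjOn θ Γ Γ' ↔ ∀ γ, γ ∈ Γ' ↔ (rs θ hQ)⁻¹ * γ * rs θ hQ ∈ Γ := by
  have key : ∀ γ δ : MulAut Q, (∀ g g' : Q, (g' : GU K) = θ g → θ ((δ g : Q) : GU K) = (γ g' : Q)) ↔
      δ = (rs θ hQ)⁻¹ * γ * rs θ hQ := by
    intro γ δ
    constructor
    · intro hh
      have : rs θ hQ * δ = γ * rs θ hQ := by
        refine MulEquiv.ext fun g => ?_
        apply Subtype.ext
        exact hh g (rs θ hQ g) rfl
      rw [mul_assoc, ← this]
      group
    · rintro rfl g g' hg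
      have e : g' = rs θ hQ g := Subtype.ext hg
      subst e
      have : rs θ hQ * ((rs θ hQ)⁻¹ * γ * rs θ hQ) = γ * rs θ hQ := by group
      have h2 := congrArg (fun α : MulAut Q => ((α g : Q) : GU K)) this
      exact h2
  constructor
  · intro hc γ
    rw [hc γ]
    constructor
    · rintro ⟨δ, hδ, h2⟩
      rw [← (key γ δ).1 h2]; exact hδ
    · intro h2
      exact ⟨_, h2, (key γ _).2 rfl⟩
  · intro hc γ
    rw [hc γ]
    constructor
    · intro h2
      exact ⟨_, h2, (key γ _).2 rfl⟩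
    · rintro ⟨δ, hδ, h2⟩
      rw [← (key γ δ).1 h2]; exact hδ

theorem conjOn_of {Q : Subgroup (GU K)} (θ : MulAut (GU K)) (hQ : ∀ g, g ∈ Q ↔ θ g ∈ Q) (X X' : Set (MulAut Q))
    (h1 : ∀ x ∈ X, rs θ hQ * x * (rs θ hQ)⁻¹ ∈ Subgroup.closure X')
    (h2 : ∀ x ∈ X', (rs θ hQ)⁻¹ * x * rs θ hQ ∈ Subgroup.closure X) :
    ConjOn θ (Subgroup.closure X) (Subgroup.closure X') := by
  rw [conjOn_iff θ hQ]
  have e1 : Subgroup.closure X ≤ (Subgroup.closure X').comap (MulAut.conj (rs θ hQ)).toMonoidHom := by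
    rw [Subgroup.closure_le]
    intro x hx
    exact h1 x hx
  have e2 : Subgroup.closure X' ≤ (Subgroup.closure X).comap (MulAut.conj (rs θ hQ)⁻¹).toMonoidHom := by
    rw [Subgroup.closure_le]
    intro x hx
    have h3 := h2 x hx
    show (rs θ hQ)⁻¹ * x * (rs θ hQ)⁻¹⁻¹ ∈ Subgroup.closure X
    rwa [inv_inv]
  intro γ
  constructor
  · intro h
    have := e2 h
    have h3 : (rs θ hQ)⁻¹ * γ * (rs θ hQ)⁻¹⁻¹ ∈ Subgroup.closure X := this
    rwa [inv_inv] at h3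
  · intro h
    have h3 : rs θ hQ * ((rs θ hQ)⁻¹ * γ * rs θ hQ) * (rs θ hQ)⁻¹ ∈ Subgroup.closure X' := e1 h
    have e : rs θ hQ * ((rs θ hQ)⁻¹ * γ * rs θ hQ) * (rs θ hQ)⁻¹ = γ := by group
    rwa [e] at h3

/-- `Aut_S(Q)` is normalized by the restrictions of the automorphisms of `S` -/
theorem rs_conj {Q : Subgroup (GU K)} [Q.Normal] (θ : MulAut (GU K)) (hQ : ∀ g, g ∈ Q ↔ θ g ∈ Q) (x : GU K) :
    rs θ hQ * MulAut.conjNormal x * (rs θ hQ)⁻¹ = MulAut.conjNormal (θ x) := by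
  rw [mul_inv_eq_iff_eq_mul]
  refine MulEquiv.ext fun g => ?_
  apply Subtype.ext
  show θ ((MulAut.conjNormal x g : Q) : GU K) = ((MulAut.conjNormal (θ x) (rs θ hQ g) : Q) : GU K)
  rw [MulAut.conjNormal_apply, MulAut.conjNormal_apply, rs_apply]
  simp only [_root_.map_mul, _root_.map_inv]

theorem rs_conj' {Q : Subgroup (GU K)} [Q.Normal] (θ : MulAut (GU K)) (hQ : ∀ g, g ∈ Q ↔ θ g ∈ Q) (x : GU K) :
    (rs θ hQ)⁻¹ * MulAut.conjNormal x * rs θ hQ = MulAut.conjNormal (θ.symm x) := by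
  have := rs_conj θ hQ (θ.symm x)
  rw [MulEquiv.apply_symm_apply] at this
  rw [← this]
  group

theorem aut_conj {Q : Subgroup (GU K)} [Q.Normal] (θ : MulAut (GU K)) (hQ : ∀ g, g ∈ Q ↔ θ g ∈ Q) {α : MulAut Q}
    (h : α ∈ autInducedBy ⊤ Q) : rs θ hQ * α * (rs θ hQ)⁻¹ ∈ autInducedBy ⊤ Q := by
  obtain ⟨x, rfl⟩ := (mem_aut_iff Q _).1 h
  rw [rs_conj]
  exact conj_mem_aut Q _

theorem aut_conj' {Q : Subgroup (GU K)} [Q.Normal] (θ : MulAut (GU K)) (hQ : ∀ g, g ∈ Q ↔ θ g ∈ Q) {α : MulAut Q}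
    (h : α ∈ autInducedBy ⊤ Q) : (rs θ hQ)⁻¹ * α * rs θ hQ ∈ autInducedBy ⊤ Q := by
  obtain ⟨x, rfl⟩ := (mem_aut_iff Q _).1 h
  rw [rs_conj']
  exact conj_mem_aut Q _

instance Qa_normal : (Qa K).Normal := by
  refine ⟨fun n hn g => ?_⟩
  have h1 : n.a = 0 := hn
  show (g * n * g⁻¹).a = 0
  simp [h1]

instance Qb_normal : (Qb K).Normal := by
  refine ⟨fun n hn g => ?_⟩
  have h1 : n.b = 0 := hn
  show (g * n * g⁻¹).b = 0
  simp [h1]

/-- automorphisms of `GU K` from automorphisms of the model -/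
noncomputable def mkA (h : HypG K 2 1) (t t' : B6 → B6) (h1 : ∀ x y, t (x * y) = t x * t y) (h2 : ∀ x, t (t' x) = x)
    (h3 : ∀ x, t' (t x) = x) : MulAut (GU K) where
  toFun g := dec (t ((dE h).symm g))
  invFun g := dec (t' ((dE h).symm g))
  left_inv g := by
    show dec (t' ((dE h).symm (dec (t ((dE h).symm g))))) = g
    rw [← dE_apply h (t _), Equiv.symm_apply_apply, h3, ← dE_apply h, Equiv.apply_symm_apply]
  right_inv g := by
    show dec (t ((dE h).symm (dec (t' ((dE h).symm g))))) = g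
    rw [← dE_apply h (t' _), Equiv.symm_apply_apply, h2, ← dE_apply h, Equiv.apply_symm_apply]
  map_mul' g g' := by
    obtain ⟨x, rfl⟩ := (dE h).surjective g
    obtain ⟨y, rfl⟩ := (dE h).surjective g'
    rw [dE_apply, dE_apply, ← dec_mul h, ← dE_apply h x, ← dE_apply h y, ← dE_apply h (x * y), Equiv.symm_apply_apply,
      Equiv.symm_apply_apply, Equiv.symm_apply_apply, h1, dec_mul h]

theorem mkA_apply (h : HypG K 2 1) {t t' : B6 → B6} (h1 : ∀ x y, t (x * y) = t x * t y) (h2 : ∀ x, t (t' x) = x)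
    (h3 : ∀ x, t' (t x) = x) (x : B6) : mkA h t t' h1 h2 h3 (dec x) = dec (t x) := by
  show dec (t ((dE h).symm (dec x))) = _
  rw [← dE_apply h x, Equiv.symm_apply_apply]

end

end Cfsg.Agent.H505.GT
end

-- part: H505/GT/B5
section
/-!
# S5211 (`q = 2`): the Boolean model of `Q_b` and the finite verification
-/

set_option autoImplicit false

namespace Cfsg.Agent.H505.GT

/-- the Boolean model of `Q_b` -/
@[ext] structure B5 where
  a : Bool
  c : Bool
  d : Bool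
  e : Bool
  f : Bool

namespace B5

/-- product -/
def ml (x y : B5) : B5 :=
  ⟨x.a ^^ y.a, x.c ^^ y.c, x.d ^^ y.d, (x.e ^^ y.e) ^^ ((x.d ^^ x.c) && y.a), (x.f ^^ y.f) ^^ ((x.d && y.c) ^^ (x.c && y.a))⟩

/-- inverse -/
def iv (x : B5) : B5 := ⟨x.a, x.c, x.d, x.e ^^ (x.a && (x.d ^^ x.c)), x.f ^^ ((x.c && x.d) ^^ (x.a && x.c))⟩

/-- Boolean equality -/
def bq (x y : B5) : Bool := !(x.a ^^ y.a) && !(x.c ^^ y.c) && !(x.d ^^ y.d) && !(x.e ^^ y.e) && !(x.f ^^ y.f)

theorem bq_iff (x y : B5) : bq x y = true ↔ x = y := by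
  have key : ∀ u v : Bool, (u ^^ v) = false ↔ u = v := by decide
  rcases x with ⟨x1, x2, x3, x4, x5⟩
  rcases y with ⟨y1, y2, y3, y4, y5⟩
  simp only [bq, B5.mk.injEq, Bool.and_eq_true, Bool.not_eq_true', key, and_assoc]

/-- commutator -/
def cm (x y : B5) : B5 := ml (ml x y) (ml (iv x) (iv y))

/-- conjugation -/
def cj (g x : B5) : B5 := ml (ml g x) (iv g)

def one : B5 := ⟨false, false, false, false, false⟩
def g1 : B5 := ⟨true, false, false, false, false⟩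
def g3 : B5 := ⟨false, true, false, false, false⟩
def g4 : B5 := ⟨false, false, true, false, false⟩
def g5 : B5 := ⟨false, false, false, true, false⟩
def g6 : B5 := ⟨false, false, false, false, true⟩
def g56 : B5 := ⟨false, false, false, true, true⟩

/-- power with a Boolean exponent -/
def pw (x : B5) (b : Bool) : B5 := cond b x one

/-- the value at `g` of the endomorphism with the given values on the generators -/
def F (X1 X3 X4 X5 X6 g : B5) : B5 := ml (ml (ml (ml (pw X1 g.a) (pw X3 g.c)) (pw X4 g.d)) (pw X5 g.e)) (pw X6 g.f)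

/-- conjugation by `x₂` -/
def c2 (x : B5) : B5 := ⟨x.a, x.a ^^ x.c, x.a ^^ x.d, x.a ^^ x.e, x.e ^^ x.f ^^ (x.a && x.c)⟩

/-- the Weyl element -/
def wB (x : B5) : B5 := ⟨x.c, x.a, x.d, x.f ^^ (x.a && x.c), x.e ^^ (x.a && x.c)⟩

/-- four automorphisms of `S`, on `Q_b` -/
def th (s t : Bool) (x : B5) : B5 :=
  ⟨x.a, cond s x.d x.c, cond s x.c x.d, x.e, (x.f ^^ (s && (x.e ^^ (x.c && x.d)))) ^^ (t && (x.c ^^ x.d))⟩

/-- `x` is a noncentral involution -/
def ni (x : B5) : Bool := (x.a || x.c || x.d) && bq (ml x x) one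

/-- the triple of values of `X ∘ Y` where both are given by the values on the generators is compared with `Z` -/
def inn (Y1 Y3 Y4 : B5) : Bool :=
  (bq (cj ⟨false, false, false, false, false⟩ g1) Y1 && bq (cj ⟨false, false, false, false, false⟩ g3) Y3 && bq (cj ⟨false, false, false, false, false⟩ g4) Y4) ||
  (bq (cj ⟨true, false, false, false, false⟩ g1) Y1 && bq (cj ⟨true, false, false, false, false⟩ g3) Y3 && bq (cj ⟨true, false, false, false, false⟩ g4) Y4) ||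
  (bq (cj ⟨false, true, false, false, false⟩ g1) Y1 && bq (cj ⟨false, true, false, false, false⟩ g3) Y3 && bq (cj ⟨false, true, false, false, false⟩ g4) Y4) ||
  (bq (cj ⟨true, true, false, false, false⟩ g1) Y1 && bq (cj ⟨true, true, false, false, false⟩ g3) Y3 && bq (cj ⟨true, true, false, false, false⟩ g4) Y4) ||
  (bq (cj ⟨false, false, true, false, false⟩ g1) Y1 && bq (cj ⟨false, false, true, false, false⟩ g3) Y3 && bq (cj ⟨false, false, true, false, false⟩ g4) Y4) ||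
  (bq (cj ⟨true, false, true, false, false⟩ g1) Y1 && bq (cj ⟨true, false, true, false, false⟩ g3) Y3 && bq (cj ⟨true, false, true, false, false⟩ g4) Y4) ||
  (bq (cj ⟨false, true, true, false, false⟩ g1) Y1 && bq (cj ⟨false, true, true, false, false⟩ g3) Y3 && bq (cj ⟨false, true, true, false, false⟩ g4) Y4) ||
  (bq (cj ⟨true, true, true, false, false⟩ g1) Y1 && bq (cj ⟨true, true, true, false, false⟩ g3) Y3 && bq (cj ⟨true, true, true, false, false⟩ g4) Y4)

/-- quantifier over `B5` -/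
def all (P : B5 → Bool) : Bool :=
  [true, false].all fun a => [true, false].all fun c => [true, false].all fun d => [true, false].all fun e =>
    [true, false].all fun f => P ⟨a, c, d, e, f⟩

theorem all_iff (P : B5 → Bool) : all P = true ↔ ∀ x, P x = true := by
  constructor
  · intro h x
    rcases x with ⟨a, c, d, e, f⟩
    simp only [all, List.all_eq_true] at h
    exact h a (by cases a <;> simp) c (by cases c <;> simp) d (by cases d <;> simp) e (by cases e <;> simp) f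
      (by cases f <;> simp)
  · intro h
    simp only [all, List.all_eq_true]
    intros
    exact h _

/-- quantifier over representatives modulo the center -/
def any8 (P : B5 → Bool) : Bool :=
  [true, false].any fun a => [true, false].any fun c => [true, false].any fun d => P ⟨a, c, d, false, false⟩

theorem any8_imp (P : B5 → Bool) (h : any8 P = true) : ∃ x, P x = true := by
  simp only [any8, List.any_eq_true] at h
  obtain ⟨a, -, c, -, d, -, h⟩ := h
  exact ⟨_, h⟩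

def kerCheck : Bool := all fun X1 => !ni X1 || all fun X4 => !ni X4 || !bq (cm X1 X4) g5 || all fun X3 => !ni X3 ||
  !bq (cm X3 X4) g6 || !bq (cm X1 X3) g56 ||
    (let F' := F X1 X3 X4 g5 g6
     bq (F' (F' (F' X1))) g1 && bq (F' (F' (F' X3))) g3 && bq (F' (F' (F' X4))) g4)

private noncomputable def fb {α : Type} (b : Bool) (k : Bool → α) : α := Bool.rec (k false) (k true) b

private theorem fb_eq {α : Type} (b : Bool) (k : Bool → α) : fb b k = k b := by cases b <;> rfl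

private noncomputable def fr {α : Type} (x : B5) (k : B5 → α) : α :=
  fb x.a fun a => fb x.c fun c => fb x.d fun d => fb x.e fun e => fb x.f fun f => k ⟨a, c, d, e, f⟩

private theorem fr_eq {α : Type} (x : B5) (k : B5 → α) : fr x k = k x := by
  delta fr
  rw [fb_eq, fb_eq, fb_eq, fb_eq, fb_eq]

private noncomputable def ml0 (x y : B5) : B5 := fr (ml x y) fun z => z

/-- the product, with evaluated arguments and value -/
private noncomputable def mlF (x y : B5) : B5 := fr x fun x => fr y fun y => ml0 x y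

private theorem ml_eq : ml = mlF := by
  funext x y
  delta mlF ml0
  rw [fr_eq, fr_eq, fr_eq]

private theorem _root_.Cfsg.Agent.KOc05ddeb.e0.{ku, kv} {α : Type kv} {M : List α → Sort ku} (φ : ∀ l, M l) {z : M List.nil} {s : ∀ a l, M l → M (List.cons a l)} (h0 : φ List.nil = z) (hs : ∀ a l, φ (List.cons a l) = s a l (φ l)) (l : List α) : φ l = @List.rec α M z s l := List.rec h0 (fun a l ih => (hs a l).trans (congrArg (s a l) ih)) l
private noncomputable def _root_.Cfsg.Agent.KOc05ddeb.k1.{ku0} : type_of% @List.all.{ku0} := @(fun x0 x1 x2 => @List.rec.{(ku0+1), ku0} @x0 @(fun x3 => (@x0 → @Bool) → @Bool) @(fun x3 => @Bool.true) @(fun x3 x4 x5 x6 => @Bool.rec.{1} @(fun x7 => @Bool) @Bool.false (@x5 @x6) (@x6 @x3)) @x1 @x2)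
private theorem _root_.Cfsg.Agent.KOc05ddeb.e1.{ku0} : @List.all.{ku0} = @_root_.Cfsg.Agent.KOc05ddeb.k1.{ku0} := by delta _root_.Cfsg.Agent.KOc05ddeb.k1; funext a0 a1 a2; refine (congrFun (_root_.Cfsg.Agent.KOc05ddeb.e0 (fun a1 a2 => @List.all.{ku0} a0 a1 a2) ?_ (fun c0 c1 => ?_) a1) a2 :) <;> (rfl')
private noncomputable def _root_.Cfsg.Agent.KOc05ddeb.k2 : (by first | exact type_of% @Cfsg.Agent.H505.GT.B5.all | exact Unit : Sort _) := by first | (refine @Subtype.val _ (fun g => @Cfsg.Agent.H505.GT.B5.all = @g) (@Subtype.mk _ _ (@(fun x0 => @Cfsg.Agent.KOc05ddeb.k1.{0} _ (@Bool.true :: (@Bool.false :: [])) @(fun x1 => @Cfsg.Agent.KOc05ddeb.k1.{0} _ (@Bool.true :: (@Bool.false :: [])) @(fun x2 => @Cfsg.Agent.KOc05ddeb.k1.{0} _ (@Bool.true :: (@Bool.false :: [])) @(fun x3 => @Cfsg.Agent.KOc05ddeb.k1.{0} _ (@Bool.true :: (@Bool.false :: [])) @(fun x4 => @Cfsg.Agent.KOc05ddeb.k1.{0} _ (@Bool.true :: (@Bool.false :: []))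 @(fun x5 => @x0 (@Cfsg.Agent.H505.GT.B5.mk @x1 @x2 @x3 @x4 @x5)))))))) ?_); rewrite [← Cfsg.Agent.KOc05ddeb.e1.{0}]; rfl') | exact @Cfsg.Agent.H505.GT.B5.all | exact ()
private theorem _root_.Cfsg.Agent.KOc05ddeb.e2 : (by first | exact @Cfsg.Agent.H505.GT.B5.all = @_root_.Cfsg.Agent.KOc05ddeb.k2 | exact True : Prop) := by first | (delta _root_.Cfsg.Agent.KOc05ddeb.k2; exact @Subtype.property _ (fun g => @Cfsg.Agent.H505.GT.B5.all = @g) _) | rfl | trivial
private noncomputable def _root_.Cfsg.Agent.KOc05ddeb.k3 : type_of% @Bool.or := @(fun x0 x1 => @Bool.rec.{1} @(fun x2 => @Bool) @x1 @Bool.true @x0)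
private theorem _root_.Cfsg.Agent.KOc05ddeb.e3 : @Bool.or = @_root_.Cfsg.Agent.KOc05ddeb.k3 := by delta _root_.Cfsg.Agent.KOc05ddeb.k3; rfl'
private noncomputable def _root_.Cfsg.Agent.KOc05ddeb.k4 : type_of% @Bool.not := @(fun x0 => @Bool.rec.{1} @(fun x1 => @Bool) @Bool.true @Bool.false @x0)
private theorem _root_.Cfsg.Agent.KOc05ddeb.e4 : @Bool.not = @_root_.Cfsg.Agent.KOc05ddeb.k4 := by delta _root_.Cfsg.Agent.KOc05ddeb.k4; rfl'
private noncomputable def _root_.Cfsg.Agent.KOc05ddeb.k5 : type_of% @Bool.and := @(fun x0 x1 => @Bool.rec.{1} @(fun x2 => @Bool) @Bool.false @x1 @x0)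
private theorem _root_.Cfsg.Agent.KOc05ddeb.e5 : @Bool.and = @_root_.Cfsg.Agent.KOc05ddeb.k5 := by delta _root_.Cfsg.Agent.KOc05ddeb.k5; rfl'
private noncomputable def _root_.Cfsg.Agent.KOc05ddeb.k6 : type_of% @Bool.decEq := @(fun x0 x1 => @Bool.rec.{1} @(fun x2 => @Decidable (@Eq.{1} _ @x2 @x1)) (@Bool.rec.{1} @(fun x2 => @Decidable (@Eq.{1} _ @Bool.false @x2)) (@Decidable.isTrue _ (@rfl.{1} _ _)) (@Decidable.isFalse _ @(fun x2 => @Bool.noConfusion.{0} _ _ _ @x2)) @x1) (@Bool.rec.{1} @(fun x2 => @Decidable (@Eq.{1} _ @Bool.true @x2)) (@Decidable.isFalse _ @(fun x2 => @Bool.noConfusion.{0} _ _ _ @x2)) (@Decidable.isTrue _ (@rfl.{1} _ _)) @x1) @x0)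
private theorem _root_.Cfsg.Agent.KOc05ddeb.e6 : @Bool.decEq = @_root_.Cfsg.Agent.KOc05ddeb.k6 := by delta _root_.Cfsg.Agent.KOc05ddeb.k6; rfl'
private noncomputable def _root_.Cfsg.Agent.KOc05ddeb.k7 : (by first | exact type_of% @Cfsg.Agent.H505.GT.B5.bq | exact Unit : Sort _) := by first | (refine @Subtype.val _ (fun g => @Cfsg.Agent.H505.GT.B5.bq = @g) (@Subtype.mk _ _ (@(fun x0 x1 => @Bool.rec.{1} @(fun x2 => @Bool) @Bool.false (@Bool.rec.{1} @(fun x2 => @Bool) @Bool.true @Bool.false (@Bool.rec.{1} @(fun x2 => @Bool) @Bool.true @Bool.false (@Decidable.rec.{1} _ @(fun x2 => @Bool) @(fun x2 => @Bool.false) @(fun x2 => @Bool.true) (@Cfsg.Agent.KOc05ddeb.k6 (@Cfsg.Agent.H505.GT.B5.f @x0) (@Cfsg.Agent.H505.GT.B5.f @x1))))) (@Bool.rec.{1} @(fun x2 => @Bool) @Bool.false (@Bool.rec.{1} @(fun x2 => @Bool) @Bool.true @Bool.false (@Bool.rec.{1} @(fun x2 => @Bool) @Bool.true @Bool.false (@Decidable.rec.{1} _ @(fun x2 => @Bool)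 @(fun x2 => @Bool.false) @(fun x2 => @Bool.true) (@Cfsg.Agent.KOc05ddeb.k6 (@Cfsg.Agent.H505.GT.B5.e @x0) (@Cfsg.Agent.H505.GT.B5.e @x1))))) (@Bool.rec.{1} @(fun x2 => @Bool) @Bool.false (@Bool.rec.{1} @(fun x2 => @Bool) @Bool.true @Bool.false (@Bool.rec.{1} @(fun x2 => @Bool) @Bool.true @Bool.false (@Decidable.rec.{1} _ @(fun x2 => @Bool) @(fun x2 => @Bool.false) @(fun x2 => @Bool.true) (@Cfsg.Agent.KOc05ddeb.k6 (@Cfsg.Agent.H505.GT.B5.d @x0) (@Cfsg.Agent.H505.GT.B5.d @x1))))) (@Bool.rec.{1} @(fun x2 => @Bool) @Bool.false (@Bool.rec.{1} @(fun x2 => @Bool) @Bool.true @Bool.false (@Bool.rec.{1} @(fun x2 => @Bool) @Bool.true @Bool.false (@Decidable.rec.{1} _ @(fun x2 => @Bool) @(fun x2 => @Bool.false) @(fun x2 => @Bool.true) (@Cfsg.Agent.KOc05ddeb.k6 (@Cfsg.Agent.H505.GT.B5.c @x0) (@Cfsg.Agent.H505.GT.B5.c @x1))))) (@Bool.rec.{1} @(fun x2 => @Bool) @Bool.true @Bool.false (@Bool.rec.{1} @(fun x2 => @Bool) @Bool.true @Bool.false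 (@Decidable.rec.{1} _ @(fun x2 => @Bool) @(fun x2 => @Bool.false) @(fun x2 => @Bool.true) (@Cfsg.Agent.KOc05ddeb.k6 (@Cfsg.Agent.H505.GT.B5.a @x0) (@Cfsg.Agent.H505.GT.B5.a @x1)))))))))) ?_); rewrite [← Cfsg.Agent.KOc05ddeb.e6]; rfl') | exact @Cfsg.Agent.H505.GT.B5.bq | exact ()
private theorem _root_.Cfsg.Agent.KOc05ddeb.e7 : (by first | exact @Cfsg.Agent.H505.GT.B5.bq = @_root_.Cfsg.Agent.KOc05ddeb.k7 | exact True : Prop) := by first | (delta _root_.Cfsg.Agent.KOc05ddeb.k7; exact @Subtype.property _ (fun g => @Cfsg.Agent.H505.GT.B5.bq = @g) _) | rfl | trivial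
private noncomputable def _root_.Cfsg.Agent.KOc05ddeb.k9 : (by first | exact type_of% @Cfsg.Agent.H505.GT.B5.mlF | exact Unit : Sort _) := by first | (refine @Subtype.val _ (fun g => @Cfsg.Agent.H505.GT.B5.mlF = @g) (@Subtype.mk _ _ (@(fun x0 x1 => @Cfsg.Agent.H505.GT.B5.fr _ @x0 @(fun x2 => @Cfsg.Agent.H505.GT.B5.fr _ @x1 @(fun x3 => @Cfsg.Agent.H505.GT.B5.fr _ (@Cfsg.Agent.H505.GT.B5.ml @x2 @x3) @(fun x4 => @x4))))) ?_); (try delta Cfsg.Agent.H505.GT.B5.mlF Cfsg.Agent.H505.GT.B5.ml0); (try generalize @Cfsg.Agent.H505.GT.B5.fr = g0); (try generalize @Cfsg.Agent.H505.GT.B5.ml = g1); rfl') | exact @Cfsg.Agent.H505.GT.B5.mlF | exact ()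
private theorem _root_.Cfsg.Agent.KOc05ddeb.e9 : (by first | exact @Cfsg.Agent.H505.GT.B5.mlF = @_root_.Cfsg.Agent.KOc05ddeb.k9 | exact True : Prop) := by first | (delta _root_.Cfsg.Agent.KOc05ddeb.k9; exact @Subtype.property _ (fun g => @Cfsg.Agent.H505.GT.B5.mlF = @g) _) | rfl | trivial
private noncomputable def _root_.Cfsg.Agent.KOc05ddeb.k11 : (by first | exact type_of% @Cfsg.Agent.H505.GT.B5.pw | exact Unit : Sort _) := by first | (refine @Subtype.val _ (fun g => @Cfsg.Agent.H505.GT.B5.pw = @g) (@Subtype.mk _ _ (@(fun x0 x1 => @Bool.rec.{1} @(fun x2 => @Cfsg.Agent.H505.GT.B5) @Cfsg.Agent.H505.GT.B5.one @x0 @x1)) ?_); (try delta Cfsg.Agent.H505.GT.B5.pw); (try generalize @Cfsg.Agent.H505.GT.B5.one = g0); rfl') | exact @Cfsg.Agent.H505.GT.B5.pw | exact ()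
private theorem _root_.Cfsg.Agent.KOc05ddeb.e11 : (by first | exact @Cfsg.Agent.H505.GT.B5.pw = @_root_.Cfsg.Agent.KOc05ddeb.k11 | exact True : Prop) := by first | (delta _root_.Cfsg.Agent.KOc05ddeb.k11; exact @Subtype.property _ (fun g => @Cfsg.Agent.H505.GT.B5.pw = @g) _) | rfl | trivial

theorem kerCheck_eq : kerCheck = true := by
  delta kerCheck ni cm F
  rw [ml_eq]
  (first | (rewrite [Cfsg.Agent.KOc05ddeb.e2, Cfsg.Agent.KOc05ddeb.e3, Cfsg.Agent.KOc05ddeb.e4, Cfsg.Agent.KOc05ddeb.e5, Cfsg.Agent.KOc05ddeb.e7, Cfsg.Agent.KOc05ddeb.e9, Cfsg.Agent.KOc05ddeb.e11]; decide +kernel) | decide +kernel)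

def mainCheck : Bool := all fun X1 => !ni X1 || all fun X4 => !ni X4 || !bq (cm X1 X4) g56 || all fun X3 => !ni X3 ||
  !bq (cm X3 X4) g5 || !bq (cm X1 X3) g6 ||
    (let F' := F X1 X3 X4 g56 g5
     !inn (c2 (F' (c2 X1))) (c2 (F' (c2 X3))) (c2 (F' (c2 X4))) || !inn (F' (F' X1)) (F' (F' X3)) (F' (F' X4)) ||
     ([true, false].any fun t => any8 fun g =>
       bq (th false t X1) (cj g (wB (c2 (th false t g1)))) && bq (th false t X3) (cj g (wB (c2 (th false t g3)))) &&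
       bq (th false t X4) (cj g (wB (c2 (th false t g4))))) ||
     ([true, false].any fun t => any8 fun g =>
       bq (th true t X1) (cj g (c2 (wB (th true t g1)))) && bq (th true t X3) (cj g (c2 (wB (th true t g3)))) &&
       bq (th true t X4) (cj g (c2 (wB (th true t g4))))))

private noncomputable def _root_.Cfsg.Agent.KOc05ddeb.k12 : (by first | exact type_of% @Cfsg.Agent.H505.GT.B5.c2 | exact Unit : Sort _) := by first | (refine @Subtype.val _ (fun g => @Cfsg.Agent.H505.GT.B5.c2 = @g) (@Subtype.mk _ _ (@(fun x0 => @Cfsg.Agent.H505.GT.B5.mk (@Cfsg.Agent.H505.GT.B5.a @x0) (@Bool.rec.{1} @(fun x1 => @Bool) @Bool.true @Bool.false (@Decidable.rec.{1} _ @(fun x1 => @Bool) @(fun x1 => @Bool.false) @(fun x1 => @Bool.true) (@Bool.decEq (@Cfsg.Agent.H505.GT.B5.a @x0) (@Cfsg.Agent.H505.GT.B5.c @x0)))) (@Bool.rec.{1} @(fun x1 => @Bool) @Bool.true @Bool.false (@Decidable.rec.{1} _ @(fun x1 => @Bool) @(fun x1 => @Bool.false)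 @(fun x1 => @Bool.true) (@Bool.decEq (@Cfsg.Agent.H505.GT.B5.a @x0) (@Cfsg.Agent.H505.GT.B5.d @x0)))) (@Bool.rec.{1} @(fun x1 => @Bool) @Bool.true @Bool.false (@Decidable.rec.{1} _ @(fun x1 => @Bool) @(fun x1 => @Bool.false) @(fun x1 => @Bool.true) (@Bool.decEq (@Cfsg.Agent.H505.GT.B5.a @x0) (@Cfsg.Agent.H505.GT.B5.e @x0)))) (@Bool.rec.{1} @(fun x1 => @Bool) @Bool.true @Bool.false (@Decidable.rec.{1} _ @(fun x1 => @Bool) @(fun x1 => @Bool.false) @(fun x1 => @Bool.true) (@Bool.decEq (@Bool.rec.{1} @(fun x1 => @Bool) @Bool.true @Bool.false (@Decidable.rec.{1} _ @(fun x1 => @Bool) @(fun x1 => @Bool.false) @(fun x1 => @Bool.true) (@Bool.decEq (@Cfsg.Agent.H505.GT.B5.e @x0) (@Cfsg.Agent.H505.GT.B5.f @x0)))) (@Bool.rec.{1} @(fun x1 => @Bool) @Bool.false (@Cfsg.Agent.H505.GT.B5.c @x0) (@Cfsg.Agent.H505.GT.B5.a @x0))))))) ?_); rfl') | exact @Cfsg.Agent.H505.GT.B5.c2 | exact ()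
private theorem _root_.Cfsg.Agent.KOc05ddeb.e12 : (by first | exact @Cfsg.Agent.H505.GT.B5.c2 = @_root_.Cfsg.Agent.KOc05ddeb.k12 | exact True : Prop) := by first | (delta _root_.Cfsg.Agent.KOc05ddeb.k12; exact @Subtype.property _ (fun g => @Cfsg.Agent.H505.GT.B5.c2 = @g) _) | rfl | trivial
private noncomputable def _root_.Cfsg.Agent.KOc05ddeb.k13.{ku0} : type_of% @List.any.{ku0} := @(fun x0 x1 x2 => @List.rec.{(ku0+1), ku0} @x0 @(fun x3 => (@x0 → @Bool) → @Bool) @(fun x3 => @Bool.false) @(fun x3 x4 x5 x6 => @Bool.rec.{1} @(fun x7 => @Bool) (@x5 @x6) @Bool.true (@x6 @x3)) @x1 @x2)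
private theorem _root_.Cfsg.Agent.KOc05ddeb.e13.{ku0} : @List.any.{ku0} = @_root_.Cfsg.Agent.KOc05ddeb.k13.{ku0} := by delta _root_.Cfsg.Agent.KOc05ddeb.k13; funext a0 a1 a2; refine (congrFun (_root_.Cfsg.Agent.KOc05ddeb.e0 (fun a1 a2 => @List.any.{ku0} a0 a1 a2) ?_ (fun c0 c1 => ?_) a1) a2 :) <;> (rfl')
private noncomputable def _root_.Cfsg.Agent.KOc05ddeb.k14 : (by first | exact type_of% @Cfsg.Agent.H505.GT.B5.any8 | exact Unit : Sort _) := by first | (refine @Subtype.val _ (fun g => @Cfsg.Agent.H505.GT.B5.any8 = @g) (@Subtype.mk _ _ (@(fun x0 => @Cfsg.Agent.KOc05ddeb.k13.{0} _ (@Bool.true :: (@Bool.false :: [])) @(fun x1 => @Cfsg.Agent.KOc05ddeb.k13.{0} _ (@Bool.true :: (@Bool.false :: [])) @(fun x2 => @Cfsg.Agent.KOc05ddeb.k13.{0} _ (@Bool.true :: (@Bool.false :: [])) @(fun x3 => @x0 (@Cfsg.Agent.H505.GT.B5.mk @x1 @x2 @x3 @Bool.false @Bool.false)))))) ?_); rewrite [← Cfsg.Agent.KOc05ddeb.e13.{0}]; rfl') | exact @Cfsg.Agent.H505.GT.B5.any8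 | exact ()
private theorem _root_.Cfsg.Agent.KOc05ddeb.e14 : (by first | exact @Cfsg.Agent.H505.GT.B5.any8 = @_root_.Cfsg.Agent.KOc05ddeb.k14 | exact True : Prop) := by first | (delta _root_.Cfsg.Agent.KOc05ddeb.k14; exact @Subtype.property _ (fun g => @Cfsg.Agent.H505.GT.B5.any8 = @g) _) | rfl | trivial
private noncomputable def _root_.Cfsg.Agent.KOc05ddeb.k16 : (by first | exact type_of% @Cfsg.Agent.H505.GT.B5.wB | exact Unit : Sort _) := by first | (refine @Subtype.val _ (fun g => @Cfsg.Agent.H505.GT.B5.wB = @g) (@Subtype.mk _ _ (@(fun x0 => @Cfsg.Agent.H505.GT.B5.mk (@Cfsg.Agent.H505.GT.B5.c @x0) (@Cfsg.Agent.H505.GT.B5.a @x0) (@Cfsg.Agent.H505.GT.B5.d @x0) (@Bool.rec.{1} @(fun x1 => @Bool) @Bool.true @Bool.false (@Decidable.rec.{1} _ @(fun x1 => @Bool) @(fun x1 => @Bool.false) @(fun x1 => @Bool.true) (@Cfsg.Agent.KOc05ddeb.k6 (@Cfsg.Agent.H505.GT.B5.f @x0) (@Bool.rec.{1} @(fun x1 => @Bool) @Bool.false (@Cfsg.Agent.H505.GT.B5.c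 @x0) (@Cfsg.Agent.H505.GT.B5.a @x0))))) (@Bool.rec.{1} @(fun x1 => @Bool) @Bool.true @Bool.false (@Decidable.rec.{1} _ @(fun x1 => @Bool) @(fun x1 => @Bool.false) @(fun x1 => @Bool.true) (@Cfsg.Agent.KOc05ddeb.k6 (@Cfsg.Agent.H505.GT.B5.e @x0) (@Bool.rec.{1} @(fun x1 => @Bool) @Bool.false (@Cfsg.Agent.H505.GT.B5.c @x0) (@Cfsg.Agent.H505.GT.B5.a @x0))))))) ?_); rewrite [← Cfsg.Agent.KOc05ddeb.e6]; rfl') | exact @Cfsg.Agent.H505.GT.B5.wB | exact ()
private theorem _root_.Cfsg.Agent.KOc05ddeb.e16 : (by first | exact @Cfsg.Agent.H505.GT.B5.wB = @_root_.Cfsg.Agent.KOc05ddeb.k16 | exact True : Prop) := by first | (delta _root_.Cfsg.Agent.KOc05ddeb.k16; exact @Subtype.property _ (fun g => @Cfsg.Agent.H505.GT.B5.wB = @g) _) | rfl | trivial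

theorem mainCheck_eq : mainCheck = true := by
  delta mainCheck ni cm F inn cj
  rw [ml_eq]
  (first | (rewrite [Cfsg.Agent.KOc05ddeb.e2, Cfsg.Agent.KOc05ddeb.e3, Cfsg.Agent.KOc05ddeb.e4, Cfsg.Agent.KOc05ddeb.e5, Cfsg.Agent.KOc05ddeb.e7, Cfsg.Agent.KOc05ddeb.e9, Cfsg.Agent.KOc05ddeb.e11, Cfsg.Agent.KOc05ddeb.e12, Cfsg.Agent.KOc05ddeb.e13.{0}, Cfsg.Agent.KOc05ddeb.e14, Cfsg.Agent.KOc05ddeb.e16]; decide +kernel) | decide +kernel)

end B5

end Cfsg.Agent.H505.GT
end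

-- part: H505/GT/Vb
section
/-!
# S5211 (`q = 2`): automorphisms of `Q_b` in the Boolean model
-/

set_option autoImplicit false

namespace Cfsg.Agent.H505.GT

open Cfsg Cfsg.FusionSystem Cfsg.Agent.H756.PU Cfsg.Agent.H779.G2

universe u

namespace B5

/-- the embedding of the models -/
def io (x : B5) : B6 := ⟨x.a, false, x.c, x.d, x.e, x.f⟩

theorem io_ml (x y : B5) : io (ml x y) = io x * io y := by
  have key1 : ∀ u v w : Bool, (u ^^ v ^^ (false && w)) = (u ^^ v) := by decide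
  have key2 : ∀ u v p q r : Bool, ((u ^^ v) ^^ ((p ^^ q) && r)) = (u ^^ v ^^ ((p ^^ q ^^ false) && r)) := by decide
  have key3 : ∀ xf yf xd yc xe xc ya : Bool, ((xf ^^ yf) ^^ ((xd && yc) ^^ (xc && ya))) =
    (xf ^^ yf ^^ (xd && yc) ^^ (xe && false) ^^ (xc && ya) ^^ (xd && ya && false) ^^ (false && xc && ya)
      ^^ (false && ya && yc) ^^ (xc && ya && false) ^^ (false && ya && false) ^^ (false && ya)) := by decide +kernel
  ext1
  · rfl
  · rfl
  · exact (key1 x.c y.c y.a).symm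
  · exact (key1 x.d y.d y.a).symm
  · exact key2 x.e y.e x.d x.c y.a
  · exact key3 x.f y.f x.d y.c x.e x.c y.a

theorem io_inj {x y : B5} (h : io x = io y) : x = y := by
  have h1 := congrArg B6.a h
  have h3 := congrArg B6.c h
  have h4 := congrArg B6.d h
  have h5 := congrArg B6.e h
  have h6 := congrArg B6.f h
  ext1
  exacts [h1, h3, h4, h5, h6]

theorem io_surj {y : B6} (h : y.b = false) : ∃ x, io x = y := by
  rcases y with ⟨a, b, c, d, e, f⟩
  cases h
  exact ⟨⟨a, c, d, e, f⟩, rfl⟩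

end B5

open B5

section
variable {K : Type u} [Field K]

/-- decoding for `Q_b` -/
def dB (x : B5) : Qb K := ⟨dec (io x), show bt false = (0 : K) from rfl⟩

theorem dB_coe (x : B5) : ((dB x : Qb K) : GU K) = dec (io x) := rfl

theorem dB_ml (h : HypG K 2 1) (x y : B5) : (dB (ml x y) : Qb K) = dB x * dB y := by
  apply Subtype.ext
  rw [Subgroup.coe_mul, dB_coe, dB_coe, dB_coe, io_ml, dec_mul h]

theorem dB_inj {x y : B5} (h : (dB x : Qb K) = dB y) : x = y :=
  io_inj (dec_inj (congrArg (fun z : Qb K => (z : GU K)) h))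

theorem dB_surj (h : HypG K 2 1) (g : Qb K) : ∃ x, dB x = g := by
  obtain ⟨y, hy⟩ := dec_surj h (g : GU K)
  have hb : y.b = false := by
    have h1 : (g : GU K).b = 0 := g.2
    rw [← hy] at h1
    exact bt_inj (K := K) (y := false) h1
  obtain ⟨x, rfl⟩ := io_surj hb
  exact ⟨x, Subtype.ext hy⟩

theorem dB_one (h : HypG K 2 1) : (dB one : Qb K) = 1 := by
  have h1 : (dB (ml one one) : Qb K) = dB one * dB one := dB_ml h _ _
  have h2 : ml one one = one := rfl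
  rw [h2] at h1
  exact left_eq_mul.1 h1

theorem ml_iv (x : B5) : ml x (iv x) = one := by
  have h1 : ∀ e p q r : Bool, ((e ^^ (e ^^ (p && (q ^^ r)))) ^^ ((q ^^ r) && p)) = false := by decide
  have h2 : ∀ f a c d : Bool, ((f ^^ (f ^^ ((c && d) ^^ (a && c)))) ^^ ((d && c) ^^ (c && a))) = false := by decide
  have h3 : ∀ u : Bool, (u ^^ u) = false := by decide
  ext1
  · exact h3 _
  · exact h3 _
  · exact h3 _
  · exact h1 x.e x.a x.d x.c
  · exact h2 x.f x.a x.c x.d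

theorem dB_iv (h : HypG K 2 1) (x : B5) : (dB (iv x) : Qb K) = (dB x)⁻¹ := by
  have h1 : (dB x : Qb K) * dB (iv x) = 1 := by rw [← dB_ml h, ml_iv, dB_one h]
  exact eq_inv_of_mul_eq_one_right h1

theorem dB_cj (h : HypG K 2 1) (g x : B5) : (dB (cj g x) : Qb K) = dB g * dB x * (dB g)⁻¹ := by
  rw [cj, dB_ml h, dB_ml h, dB_iv h]

/-- the bijection -/
noncomputable def dBE (h : HypG K 2 1) : B5 ≃ Qb K := Equiv.ofBijective dB ⟨fun _ _ h => dB_inj h, dB_surj h⟩

/-- an automorphism of `Q_b` in the model -/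
noncomputable def vb (h : HypG K 2 1) (γ : MulAut (Qb K)) (x : B5) : B5 := (dBE h).symm (γ (dB x))

variable (h : HypG K 2 1)

theorem vb_spec (γ : MulAut (Qb K)) (x : B5) : dB (vb h γ x) = γ (dB x) := (dBE h).apply_symm_apply _

theorem vb_eq {γ : MulAut (Qb K)} {x y : B5} (hh : γ (dB x) = dB y) : vb h γ x = y :=
  dB_inj (K := K) (by rw [vb_spec, hh])

theorem vb_ml (γ : MulAut (Qb K)) (x y : B5) : vb h γ (ml x y) = ml (vb h γ x) (vb h γ y) := by
  apply vb_eq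
  rw [dB_ml h, map_mul, dB_ml h, vb_spec, vb_spec]

theorem vb_one (γ : MulAut (Qb K)) : vb h γ one = one := by
  apply vb_eq
  rw [dB_one h, map_one]

theorem vb_iv (γ : MulAut (Qb K)) (x : B5) : vb h γ (iv x) = iv (vb h γ x) := by
  apply vb_eq
  rw [dB_iv h, map_inv, dB_iv h, vb_spec]

theorem vb_cm (γ : MulAut (Qb K)) (x y : B5) : vb h γ (cm x y) = cm (vb h γ x) (vb h γ y) := by
  rw [cm, cm, vb_ml, vb_ml, vb_ml, vb_iv, vb_iv]

theorem vb_inj (γ : MulAut (Qb K)) {x y : B5} (hh : vb h γ x = vb h γ y) : x = y := by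
  have := congrArg (dB (K := K)) hh
  rw [vb_spec, vb_spec] at this
  exact dB_inj (γ.injective this)

theorem vb_mul (γ δ : MulAut (Qb K)) (x : B5) : vb h (γ * δ) x = vb h γ (vb h δ x) := by
  apply vb_eq
  rw [vb_spec, vb_spec]
  rfl

theorem vb_pw (γ : MulAut (Qb K)) (x : B5) (b : Bool) : vb h γ (pw x b) = pw (vb h γ x) b := by
  cases b
  · exact vb_one h γ
  · rfl

theorem F_eq (x : B5) : F g1 g3 g4 g5 g6 x = x := by
  rcases x with ⟨a, c, d, e, f⟩
  cases a <;> cases c <;> cases d <;> cases e <;> cases f <;> rfl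

theorem vb_F (γ : MulAut (Qb K)) (x : B5) :
    vb h γ x = F (vb h γ g1) (vb h γ g3) (vb h γ g4) (vb h γ g5) (vb h γ g6) x := by
  conv_lhs => rw [← F_eq x]
  simp only [F, vb_ml, vb_pw]

theorem g5_eq : g5 = cm g1 g4 := rfl
theorem g6_eq : g6 = cm g3 g4 := rfl
theorem g56_eq : g56 = cm g1 g3 := rfl

theorem vb_ext {γ δ : MulAut (Qb K)} (h1 : vb h γ g1 = vb h δ g1) (h3 : vb h γ g3 = vb h δ g3)
    (h4 : vb h γ g4 = vb h δ g4) : γ = δ := by
  have h5 : vb h γ g5 = vb h δ g5 := by rw [g5_eq, vb_cm, vb_cm, h1, h4]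
  have h6 : vb h γ g6 = vb h δ g6 := by rw [g6_eq, vb_cm, vb_cm, h3, h4]
  refine MulEquiv.ext fun g => ?_
  obtain ⟨x, rfl⟩ := dB_surj h g
  rw [← vb_spec h, ← vb_spec h, vb_F h γ, vb_F h δ, h1, h3, h4, h5, h6]

/-- conjugation by an element of `Q_b` -/
theorem vb_conj (g x : B5) : vb h (MulAut.conjNormal ((dB g : Qb K) : GU K)) x = cj g x := by
  apply vb_eq
  apply Subtype.ext
  rw [MulAut.conjNormal_apply, dB_cj h]
  rfl

/-- `x₂` -/
def y2 : B6 := ⟨false, true, false, false, false, false⟩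

theorem y2_conj (x : B5) : y2 * io x = io (c2 x) * y2 := by
  rcases x with ⟨a, c, d, e, f⟩
  cases a <;> cases c <;> cases d <;> cases e <;> cases f <;> rfl

theorem vb_c2 (x : B5) : vb h (MulAut.conjNormal (dec y2 : GU K)) x = c2 x := by
  apply vb_eq
  apply Subtype.ext
  rw [MulAut.conjNormal_apply, mul_inv_eq_iff_eq_mul, dB_coe, dB_coe, ← dec_mul h, ← dec_mul h, y2_conj]

theorem cm_ne (x y : B5) (hh : cm x y ≠ one) : (x.a || x.c || x.d) = true ∧ (y.a || y.c || y.d) = true := by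
  have key : all (fun x => all fun y => bq (cm x y) one || ((x.a || x.c || x.d) && (y.a || y.c || y.d))) = true := by
    delta cm
    rw [B5.ml_eq]
    (first | (rewrite [Cfsg.Agent.KOc05ddeb.e2, Cfsg.Agent.KOc05ddeb.e3, Cfsg.Agent.KOc05ddeb.e7, Cfsg.Agent.KOc05ddeb.e9, Cfsg.Agent.KOc05ddeb.e5]; decide +kernel) | decide +kernel)
  rw [all_iff] at key
  have k1 := key x
  rw [all_iff] at k1
  have k2 := k1 y
  rw [Bool.or_eq_true, Bool.and_eq_true] at k2
  rcases k2 with k | k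
  · exact absurd ((bq_iff _ _).1 k) hh
  · exact k

theorem cm_cen (x y : B5) : cm x y = one ∨ cm x y = g5 ∨ cm x y = g6 ∨ cm x y = g56 := by
  have key : all (fun x => all fun y => bq (cm x y) one || bq (cm x y) g5 || bq (cm x y) g6 || bq (cm x y) g56) = true := by
    delta cm
    rw [B5.ml_eq]
    (first | (rewrite [Cfsg.Agent.KOc05ddeb.e2, Cfsg.Agent.KOc05ddeb.e3, Cfsg.Agent.KOc05ddeb.e7, Cfsg.Agent.KOc05ddeb.e9]; decide +kernel) | decide +kernel)
  rw [all_iff] at key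
  have k1 := key x
  rw [all_iff] at k1
  have k2 := k1 y
  simp only [Bool.or_eq_true, bq_iff] at k2
  tauto

theorem vb_ni (γ : MulAut (Qb K)) {x y : B5} (hx : ml x x = one) (hc : cm x y ≠ one) : ni (vb h γ x) = true := by
  have h1 : cm (vb h γ x) (vb h γ y) ≠ one := by
    rw [← vb_cm, ← vb_one h γ]
    intro h2
    exact hc (vb_inj h γ h2)
  rw [ni, Bool.and_eq_true, bq_iff, ← vb_ml, hx, vb_one]
  exact ⟨(cm_ne _ _ h1).1, rfl⟩

theorem vb_ni1 (γ : MulAut (Qb K)) : ni (vb h γ g1) = true :=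
  vb_ni h γ (y := g4) rfl (fun hh => Bool.noConfusion (congrArg B5.e hh : true = false))
theorem vb_ni3 (γ : MulAut (Qb K)) : ni (vb h γ g3) = true :=
  vb_ni h γ (y := g4) rfl (fun hh => Bool.noConfusion (congrArg B5.f hh : true = false))
theorem vb_ni4 (γ : MulAut (Qb K)) : ni (vb h γ g4) = true :=
  vb_ni h γ (y := g1) rfl (fun hh => Bool.noConfusion (congrArg B5.e hh : true = false))

theorem vb_cen (γ : MulAut (Qb K)) {x : B5} (hx : x = g5 ∨ x = g6) : vb h γ x = g5 ∨ vb h γ x = g6 ∨ vb h γ x = g56 := by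
  have h1 : vb h γ x ≠ one := by
    rw [← vb_one h γ]
    intro h2
    have h3 := vb_inj h γ h2
    rcases hx with rfl | rfl
    · exact Bool.noConfusion (congrArg B5.e h3 : true = false)
    · exact Bool.noConfusion (congrArg B5.f h3 : true = false)
  have h2 : ∃ u v, vb h γ x = cm u v := by
    rcases hx with rfl | rfl
    · exact ⟨_, _, by rw [g5_eq, vb_cm]⟩
    · exact ⟨_, _, by rw [g6_eq, vb_cm]⟩
  obtain ⟨u, v, huv⟩ := h2
  rw [huv] at h1 ⊢
  rcases cm_cen u v with hh | hh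
  · exact absurd hh h1
  · exact hh

/-- the action on the center -/
theorem pi_cases (γ : MulAut (Qb K)) :
    (vb h γ g5 = g5 ∧ vb h γ g6 = g6) ∨ (vb h γ g5 = g56 ∧ vb h γ g6 = g6) ∨ (vb h γ g5 = g56 ∧ vb h γ g6 = g5) ∨
    (vb h γ g5 = g6 ∧ vb h γ g6 = g56) ∨ (vb h γ g5 = g6 ∧ vb h γ g6 = g5) ∨ (vb h γ g5 = g5 ∧ vb h γ g6 = g56) := by
  have h1 := vb_cen h γ (x := g5) (Or.inl rfl)
  have h2 := vb_cen h γ (x := g6) (Or.inr rfl)
  have h3 : vb h γ g5 ≠ vb h γ g6 := by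
    intro hh
    exact Bool.noConfusion (congrArg B5.e (vb_inj h γ hh) : true = false)
  rcases h1 with h1 | h1 | h1 <;> rcases h2 with h2 | h2 | h2 <;> rw [h1, h2] at h3 <;> first
    | exact absurd rfl h3
    | (rw [h1, h2]; simp)

end

end Cfsg.Agent.H505.GT
end

-- part: H505/GT/Th
section
/-!
# S5211 (`q = 2`): explicit automorphisms
-/

set_option autoImplicit false

namespace Cfsg.Agent.H505.GT

open Cfsg Cfsg.FusionSystem Cfsg.Agent.H756.PU Cfsg.Agent.H779.G2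

universe u

namespace B6

/-- Boolean equality -/
def bq (x y : B6) : Bool :=
  !(x.a ^^ y.a) && !(x.b ^^ y.b) && !(x.c ^^ y.c) && !(x.d ^^ y.d) && !(x.e ^^ y.e) && !(x.f ^^ y.f)

theorem bq_iff (x y : B6) : bq x y = true ↔ x = y := by
  have key : ∀ u v : Bool, (u ^^ v) = false ↔ u = v := by decide
  rcases x with ⟨x1, x2, x3, x4, x5, x6⟩
  rcases y with ⟨y1, y2, y3, y4, y5, y6⟩
  simp only [bq, B6.mk.injEq, Bool.and_eq_true, Bool.not_eq_true', key, and_assoc]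

/-- quantifier -/
def all (P : B6 → Bool) : Bool :=
  [true, false].all fun a => [true, false].all fun b => [true, false].all fun c => [true, false].all fun d =>
    [true, false].all fun e => [true, false].all fun f => P ⟨a, b, c, d, e, f⟩

theorem all_iff (P : B6 → Bool) : all P = true ↔ ∀ x, P x = true := by
  constructor
  · intro h x
    rcases x with ⟨a, b, c, d, e, f⟩
    simp only [all, List.all_eq_true] at h
    exact h a (by cases a <;> simp) b (by cases b <;> simp) c (by cases c <;> simp) d (by cases d <;> simp) e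
      (by cases e <;> simp) f (by cases f <;> simp)
  · intro h
    simp only [all, List.all_eq_true]
    intros
    exact h _

/-- the homomorphism property -/
def hom (t : B6 → B6) : Bool := all fun x => all fun y => bq (t (x * y)) (t x * t y)

theorem hom_imp {t : B6 → B6} (h : hom t = true) (x y : B6) : t (x * y) = t x * t y := by
  rw [hom, all_iff] at h
  have h1 := h x
  rw [all_iff] at h1
  exact (bq_iff _ _).1 (h1 y)

/-- the four automorphisms -/
def th (s t : Bool) (x : B6) : B6 :=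
  ⟨x.a, x.b, cond s x.d x.c, cond s x.c x.d, x.e, (x.f ^^ (s && (x.e ^^ (x.c && x.d)))) ^^ (t && (x.c ^^ x.d))⟩

theorem th_ff (x : B6) : th false false x = x := by
  rcases x with ⟨a, b, c, d, e, f⟩
  cases f <;> rfl

private theorem mul_def (x y : B6) : x * y =
  { a := x.a ^^ y.a
    b := x.b ^^ y.b
    c := x.c ^^ y.c ^^ (x.b && y.a)
    d := x.d ^^ y.d ^^ (x.b && y.a)
    e := x.e ^^ y.e ^^ ((x.d ^^ x.c ^^ x.b) && y.a)
    f := x.f ^^ y.f ^^ (x.d && y.c) ^^ (x.e && y.b) ^^ (x.c && y.a) ^^ (x.d && y.a && y.b) ^^ (x.b && x.c && y.a)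
      ^^ (x.b && y.a && y.c) ^^ (x.c && y.a && y.b) ^^ (x.b && y.a && y.b) ^^ (x.b && y.a) } := rfl

private theorem hom_of {t : B6 → B6} (h : ∀ x y, t (x * y) = t x * t y) : hom t = true :=
  (all_iff _).2 fun x => (all_iff _).2 fun y => (bq_iff _ _).2 (h x y)

theorem th_hom (s t : Bool) (x y : B6) : th s t (x * y) = th s t x * th s t y := by
  have h1 : hom (th true false) = true := hom_of fun ⟨a, b, c, d, e, f⟩ ⟨a', b', c', d', e', f'⟩ => by
    refine B6.ext ?_ ?_ ?_ ?_ ?_ ?_ <;> dsimp only [mul_def, th, cond_true, cond_false] <;> decide +revert +kernel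
  have h2 : hom (th false true) = true := hom_of fun ⟨a, b, c, d, e, f⟩ ⟨a', b', c', d', e', f'⟩ => by
    refine B6.ext ?_ ?_ ?_ ?_ ?_ ?_ <;> dsimp only [mul_def, th, cond_true, cond_false] <;> decide +revert +kernel
  have h3 : ∀ x, th true true x = th true false (th false true x) := by
    intro x
    rcases x with ⟨a, b, c, d, e, f⟩
    cases c <;> cases d <;> cases e <;> cases f <;> rfl
  cases s <;> cases t
  · rw [th_ff, th_ff, th_ff]
  · exact hom_imp h2 x y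
  · exact hom_imp h1 x y
  · rw [h3, h3, h3, hom_imp h2, hom_imp h1]

theorem th_th (s t : Bool) (x : B6) : th s t (th s t x) = x := by
  rcases x with ⟨a, b, c, d, e, f⟩
  cases s <;> cases t <;> cases c <;> cases d <;> cases e <;> cases f <;> rfl

/-- the swap -/
def sw (x : B6) : B6 := ⟨x.a, x.b, x.b ^^ x.c, x.d, x.d ^^ x.e, x.a ^^ x.f⟩

theorem sw_hom : hom sw = true := hom_of fun ⟨a, b, c, d, e, f⟩ ⟨a', b', c', d', e', f'⟩ => by
  refine B6.ext ?_ ?_ ?_ ?_ ?_ ?_ <;> dsimp only [mul_def, sw] <;> decide +revert +kernel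

theorem sw_sw (x : B6) : sw (sw x) = x := by
  rcases x with ⟨a, b, c, d, e, f⟩
  cases a <;> cases b <;> cases c <;> cases d <;> cases e <;> cases f <;> rfl

end B6

namespace B5

/-- the homomorphism property -/
def hom (t : B5 → B5) : Bool := all fun x => all fun y => bq (t (ml x y)) (ml (t x) (t y))

theorem hom_imp {t : B5 → B5} (h : hom t = true) (x y : B5) : t (ml x y) = ml (t x) (t y) := by
  rw [hom, all_iff] at h
  have h1 := h x
  rw [all_iff] at h1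
  exact (bq_iff _ _).1 (h1 y)

private noncomputable def _root_.Cfsg.Agent.KOc05ddeb.k17 : (by first | exact type_of% @Cfsg.Agent.H505.GT.B5.hom | exact Unit : Sort _) := by first | (refine @Subtype.val _ (fun g => @Cfsg.Agent.H505.GT.B5.hom = @g) (@Subtype.mk _ _ (@(fun x0 => @Cfsg.Agent.KOc05ddeb.k2 @(fun x1 => @Cfsg.Agent.KOc05ddeb.k2 @(fun x2 => @Cfsg.Agent.KOc05ddeb.k7 (@x0 (@Cfsg.Agent.H505.GT.B5.ml @x1 @x2)) (@Cfsg.Agent.H505.GT.B5.ml (@x0 @x1) (@x0 @x2)))))) ?_); rewrite [← Cfsg.Agent.KOc05ddeb.e7, ← Cfsg.Agent.KOc05ddeb.e2]; (try delta Cfsg.Agent.H505.GT.B5.hom); (try generalize @Cfsg.Agent.H505.GT.B5.all = g0); (try generalize @Cfsg.Agent.H505.GT.B5.bq = g1); (try generalize @Cfsg.Agent.H505.GT.B5.ml = g2); rfl') | exact @Cfsg.Agent.H505.GT.B5.hom | exact ()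
private theorem _root_.Cfsg.Agent.KOc05ddeb.e17 : (by first | exact @Cfsg.Agent.H505.GT.B5.hom = @_root_.Cfsg.Agent.KOc05ddeb.k17 | exact True : Prop) := by first | (delta _root_.Cfsg.Agent.KOc05ddeb.k17; exact @Subtype.property _ (fun g => @Cfsg.Agent.H505.GT.B5.hom = @g) _) | rfl | trivial

theorem wB_hom : hom wB = true := by (first | (rewrite [Cfsg.Agent.KOc05ddeb.e17, Cfsg.Agent.KOc05ddeb.e16]; decide +kernel) | decide +kernel)

theorem wB_wB (x : B5) : wB (wB x) = x := by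
  rcases x with ⟨a, c, d, e, f⟩
  cases a <;> cases c <;> cases e <;> cases f <;> rfl

theorem io_th (s t : Bool) (x : B5) : io (th s t x) = B6.th s t (io x) := by
  rcases x with ⟨a, c, d, e, f⟩
  cases s <;> cases t <;> rfl

/-- the swap on `Q_b` -/
def sw (x : B5) : B5 := ⟨x.a, x.c, x.d, x.d ^^ x.e, x.a ^^ x.f⟩

theorem io_sw (x : B5) : io (sw x) = B6.sw (io x) := by
  rcases x with ⟨a, c, d, e, f⟩
  cases c <;> rfl

end B5

open B5

section
variable {K : Type u} [Field K] (h : HypG K 2 1)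

/-- automorphisms of `Q_b` from automorphisms of the model -/
noncomputable def mkB (t t' : B5 → B5) (h1 : ∀ x y, t (ml x y) = ml (t x) (t y)) (h2 : ∀ x, t (t' x) = x)
    (h3 : ∀ x, t' (t x) = x) : MulAut (Qb K) where
  toFun g := dB (t ((dBE h).symm g))
  invFun g := dB (t' ((dBE h).symm g))
  left_inv g := by
    obtain ⟨x, rfl⟩ := (dBE h).surjective g
    show dB (t' ((dBE h).symm (dBE h (t ((dBE h).symm (dBE h x)))))) = dBE h x
    rw [Equiv.symm_apply_apply, Equiv.symm_apply_apply, h3]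
    rfl
  right_inv g := by
    obtain ⟨x, rfl⟩ := (dBE h).surjective g
    show dB (t ((dBE h).symm (dBE h (t' ((dBE h).symm (dBE h x)))))) = dBE h x
    rw [Equiv.symm_apply_apply, Equiv.symm_apply_apply, h2]
    rfl
  map_mul' g g' := by
    obtain ⟨x, rfl⟩ := (dBE h).surjective g
    obtain ⟨y, rfl⟩ := (dBE h).surjective g'
    have e : dBE h x * dBE h y = dBE h (ml x y) := (dB_ml h x y).symm
    rw [e, Equiv.symm_apply_apply, Equiv.symm_apply_apply, Equiv.symm_apply_apply, h1, dB_ml h]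

theorem vb_mkB {t t' : B5 → B5} (h1 : ∀ x y, t (ml x y) = ml (t x) (t y)) (h2 : ∀ x, t (t' x) = x)
    (h3 : ∀ x, t' (t x) = x) (x : B5) : vb h (mkB h t t' h1 h2 h3) x = t x := by
  apply vb_eq
  show dB (t ((dBE h).symm (dBE h x))) = dB (t x)
  rw [Equiv.symm_apply_apply]

/-- the Weyl element -/
noncomputable def ww : MulAut (Qb K) := mkB h wB wB (hom_imp wB_hom) wB_wB wB_wB

theorem vb_ww (x : B5) : vb h (ww h) x = wB x := vb_mkB h _ _ _ x

include h in
theorem neg_bt (x : Bool) : -(bt x : K) = bt x := by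
  have h2 := two_eq h
  cases x
  · simp
  · show (-1 : K) = 1
    linear_combination (-1 : K) * h2

theorem ww_isWb : IsWb (ww h) := by
  have h2 := two_eq h
  have key : ∀ g : Qb K, ∃ x : B5, g = dB x ∧ ww h g = dB (wB x) := by
    intro g
    obtain ⟨x, rfl⟩ := dB_surj h g
    exact ⟨x, rfl, by rw [← vb_spec h, vb_ww]⟩
  constructor
  · intro g
    obtain ⟨x, e1, e2⟩ := key g
    rw [e2, e1]
    exact (neg_bt h x.c).symm
  · intro g
    obtain ⟨x, e1, e2⟩ := key g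
    rw [e2, e1]
    rfl
  · intro g
    obtain ⟨x, e1, e2⟩ := key g
    rw [e2, e1]
    show (bt x.d : K) = bt x.d - 2 * bt x.a * bt x.c
    rw [h2]; ring
  · intro g
    obtain ⟨x, e1, e2⟩ := key g
    rw [e2, e1]
    show (bt (x.f ^^ (x.a && x.c)) : K) = - bt x.f + 3 * bt x.a * bt x.c ^ 2
    rw [bt_xor h, bt_and, bt_sq]
    linear_combination (bt x.f - bt x.a * bt x.c) * h2
  · intro g
    obtain ⟨x, e1, e2⟩ := key g
    rw [e2, e1]
    show (bt (x.e ^^ (x.a && x.c)) : K) = bt x.e - 3 * bt x.a ^ 2 * bt x.c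
    rw [bt_xor h, bt_and, bt_sq]
    linear_combination (2 * bt x.a * bt x.c) * h2

theorem isWb_eq {γ : MulAut (Qb K)} (hγ : IsWb γ) : γ = ww h := by
  have hw := ww_isWb h
  refine MulEquiv.ext fun g => ?_
  apply Subtype.ext
  ext1
  · rw [hγ.a, hw.a]
  · have h1 : ((γ g : Qb K) : GU K).b = 0 := (γ g).2
    have h2 : ((ww h g : Qb K) : GU K).b = 0 := (ww h g).2
    rw [h1, h2]
  · rw [hγ.c, hw.c]
  · rw [hγ.d, hw.d]
  · rw [hγ.e, hw.e]
  · rw [hγ.f, hw.f]

/-- the four automorphisms of `GU K` -/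
noncomputable def Th (s t : Bool) : MulAut (GU K) :=
  mkA h (B6.th s t) (B6.th s t) (B6.th_hom s t) (B6.th_th s t) (B6.th_th s t)

theorem Th_dec (s t : Bool) (x : B6) : Th h s t (dec x) = dec (B6.th s t x) := mkA_apply h _ _ _ x

/-- the swap -/
noncomputable def Sw : MulAut (GU K) := mkA h B6.sw B6.sw (B6.hom_imp B6.sw_hom) B6.sw_sw B6.sw_sw

theorem Sw_dec (x : B6) : Sw h (dec x) = dec (B6.sw x) := mkA_apply h _ _ _ x

theorem mem_Qb_dec (x : B6) : (dec x : GU K) ∈ Qb K ↔ x.b = false := by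
  constructor
  · intro hh
    exact bt_inj (K := K) (y := false) hh
  · intro hh
    show (bt x.b : K) = 0
    rw [hh]; rfl

theorem mem_Qa_dec (x : B6) : (dec x : GU K) ∈ Qa K ↔ x.a = false := by
  constructor
  · intro hh
    exact bt_inj (K := K) (y := false) hh
  · intro hh
    show (bt x.a : K) = 0
    rw [hh]; rfl

theorem Th_Qb (s t : Bool) (g : GU K) : g ∈ Qb K ↔ Th h s t g ∈ Qb K := by
  obtain ⟨x, rfl⟩ := dec_surj h g
  rw [Th_dec, mem_Qb_dec, mem_Qb_dec]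
  rfl

theorem Sw_Qb (g : GU K) : g ∈ Qb K ↔ Sw h g ∈ Qb K := by
  obtain ⟨x, rfl⟩ := dec_surj h g
  rw [Sw_dec, mem_Qb_dec, mem_Qb_dec]
  rfl

theorem Sw_Qa (g : GU K) : g ∈ Qa K ↔ Sw h g ∈ Qa K := by
  obtain ⟨x, rfl⟩ := dec_surj h g
  rw [Sw_dec, mem_Qa_dec, mem_Qa_dec]
  rfl

theorem vb_Th (s t : Bool) (x : B5) : vb h (rs (Th h s t) (Th_Qb h s t)) x = th s t x := by
  apply vb_eq
  apply Subtype.ext
  rw [rs_apply, dB_coe, dB_coe, io_th, Th_dec]

theorem vb_Sw (x : B5) : vb h (rs (Sw h) (Sw_Qb h)) x = sw x := by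
  apply vb_eq
  apply Subtype.ext
  rw [rs_apply, dB_coe, dB_coe, io_sw, Sw_dec]

end

end Cfsg.Agent.H505.GT
end

-- part: H505/GT/Gb2
section
/-!
# S5211 (`q = 2`): the automizers of `Q_b` (`StGb2`)
-/

set_option autoImplicit false

namespace Cfsg.Agent.H505.GT

open Cfsg Cfsg.FusionSystem Cfsg.Agent.H756.PU Cfsg.Agent.H779.G2

universe u

open B5

theorem inn_cj (g : B5) : inn (cj g g1) (cj g g3) (cj g g4) = true := by
  rcases g with ⟨a, c, d, e, f⟩
  cases a <;> cases c <;> cases d <;> cases e <;> cases f <;> decide +kernel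

section
variable {K : Type u} [Field K] (h : HypG K 2 1)

/-- acts trivially on the center -/
def KerC (γ : MulAut (Qb K)) : Prop := vb h γ g5 = g5 ∧ vb h γ g6 = g6

theorem ml56 : ml g5 g6 = g56 := rfl

theorem KerC.cen {γ : MulAut (Qb K)} (hγ : KerC h γ) {z : B5} (hz : z = g5 ∨ z = g6 ∨ z = g56) : vb h γ z = z := by
  rcases hz with rfl | rfl | rfl
  · exact hγ.1
  · exact hγ.2
  · rw [← ml56, vb_ml, hγ.1, hγ.2]

theorem KerC.pow_four {γ : MulAut (Qb K)} (hγ : KerC h γ) : γ ^ 4 = 1 := by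
  have k0 := kerCheck_eq
  rw [kerCheck, all_iff] at k0
  have k1 := k0 (vb h γ g1)
  rw [vb_ni1, Bool.not_true, Bool.false_or, all_iff] at k1
  have k4 := k1 (vb h γ g4)
  rw [vb_ni4, ← vb_cm, ← g5_eq, hγ.1, Bool.not_true, (bq_iff g5 g5).2 rfl, Bool.not_true, Bool.false_or, Bool.false_or,
    all_iff] at k4
  have k3 := k4 (vb h γ g3)
  rw [vb_ni3, ← vb_cm, ← g6_eq, hγ.2, ← vb_cm, ← g56_eq, hγ.cen h (z := g56) (Or.inr (Or.inr rfl)), Bool.not_true,
    (bq_iff g6 g6).2 rfl, (bq_iff g56 g56).2 rfl, Bool.not_true, Bool.false_or, Bool.false_or, Bool.false_or] at k3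
  have e : F (vb h γ g1) (vb h γ g3) (vb h γ g4) g5 g6 = vb h γ := by
    funext x
    rw [vb_F h γ x, hγ.1, hγ.2]
  simp only [e, Bool.and_eq_true, bq_iff] at k3
  obtain ⟨⟨q1, q3⟩, q4⟩ := k3
  have e4 : ∀ x, vb h (γ ^ 4) x = vb h γ (vb h γ (vb h γ (vb h γ x))) := by
    intro x
    rw [show γ ^ 4 = γ * (γ * (γ * γ)) by rw [pow_succ', pow_succ', pow_two], vb_mul, vb_mul, vb_mul]
  have e1 : ∀ x, vb h (1 : MulAut (Qb K)) x = x := fun x => vb_eq h rfl
  apply vb_ext h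
  · rw [e4, q1, e1]
  · rw [e4, q3, e1]
  · rw [e4, q4, e1]

theorem vb_inv (γ : MulAut (Qb K)) (x : B5) : vb h γ⁻¹ (vb h γ x) = x := by
  rw [← vb_mul, inv_mul_cancel]
  exact vb_eq h rfl

/-- `x₂` acts as `c2` -/
noncomputable def C2 : MulAut (Qb K) := MulAut.conjNormal (dec y2 : GU K)

theorem C2_mem : (C2 : MulAut (Qb K)) ∈ autInducedBy ⊤ (Qb K) := conj_mem_aut _ _

theorem vb_C2 (x : B5) : vb h C2 x = c2 x := vb_c2 h x

theorem KerC.conj {γ : MulAut (Qb K)} (hγ : KerC h γ) (g : MulAut (Qb K)) : KerC h (g⁻¹ * γ * g) := by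
  constructor
  · rw [vb_mul, vb_mul, hγ.cen h (vb_cen h g (Or.inl rfl)), vb_inv]
  · rw [vb_mul, vb_mul, hγ.cen h (vb_cen h g (Or.inr rfl)), vb_inv]

/-- the elements of `Γ` acting trivially on the center -/
def NN (Γ : Subgroup (MulAut (Qb K))) : Subgroup (MulAut (Qb K)) where
  carrier := {γ | γ ∈ Γ ∧ KerC h γ}
  one_mem' := ⟨one_mem _, vb_eq h rfl, vb_eq h rfl⟩
  mul_mem' := by
    rintro γ δ ⟨hγ, k1, k2⟩ ⟨hδ, k3, k4⟩
    exact ⟨mul_mem hγ hδ, by rw [vb_mul, k3, k1], by rw [vb_mul, k4, k2]⟩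
  inv_mem' := by
    rintro γ ⟨hγ, k1, k2⟩
    refine ⟨_root_.InvMemClass.inv_mem hγ, ?_, ?_⟩
    · conv_lhs => rw [← k1]
      exact vb_inv h γ _
    · conv_lhs => rw [← k2]
      exact vb_inv h γ _

theorem NN_le {Γ : Subgroup (MulAut (Qb K))} (hP : Par2 Γ) {γ : MulAut (Qb K)} (hγ : γ ∈ Γ) (hk : KerC h γ) :
    γ ∈ autInducedBy ⊤ (Qb K) := by
  have hp : IsPGroup 2 (NN h Γ) := by
    rintro ⟨γ, hγ⟩
    refine ⟨2, ?_⟩
    apply Subtype.ext
    exact hγ.2.pow_four h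
  obtain ⟨g, hg, hx⟩ := hP.syl (NN h Γ) (fun _ h => h.1) hp
  have h1 : g⁻¹ * γ * g ∈ NN h Γ := ⟨mul_mem (mul_mem (_root_.InvMemClass.inv_mem hg) hγ) hg, hk.conj h g⟩
  have h2 := hx _ h1
  have e : g * (g⁻¹ * γ * g) * g⁻¹ = γ := by group
  rwa [e] at h2

theorem inner_of_ker {γ : MulAut (Qb K)} (hγ : γ ∈ autInducedBy ⊤ (Qb K)) (hk : KerC h γ) :
    ∃ g : B5, γ = MulAut.conjNormal ((dB g : Qb K) : GU K) := by
  obtain ⟨x, rfl⟩ := (mem_aut_iff _ _).1 hγ
  obtain ⟨y, rfl⟩ := dec_surj h x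
  have h1 : (MulAut.conjNormal (dec y : GU K) : MulAut (Qb K)) (dB g5) = dB g5 := by
    rw [← vb_spec h, hk.1]
  have h2 := congrArg (fun z : Qb K => (z : GU K)) h1
  simp only [MulAut.conjNormal_apply, mul_inv_eq_iff_eq_mul] at h2
  rw [dB_coe, ← dec_mul h, ← dec_mul h] at h2
  have h3 := congrArg B6.f (dec_inj h2)
  have hb : y.b = false := by
    rcases y with ⟨a, b, c, d, e, f⟩
    revert h3
    clear * -
    revert a b c d e f
    decide +kernel
  obtain ⟨g, rfl⟩ := io_surj hb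
  exact ⟨g, rfl⟩

/-- the existence of the good element -/
theorem exists_good {Γ : Subgroup (MulAut (Qb K))} (hP : Par2 Γ) : ∃ γ ∈ Γ, vb h γ g5 = g56 ∧ vb h γ g6 = g5 := by
  have hn : ¬ Γ ≤ autInducedBy ⊤ (Qb K) := by
    intro hle
    exact hP.nn fun γ hγ x hx => mul_mem (mul_mem (hle hγ) hx) (_root_.InvMemClass.inv_mem (hle hγ))
  obtain ⟨δ, hδ, hδP⟩ := SetLike.not_le_iff_exists.1 hn
  have hC : C2 ∈ Γ := hP.indu C2_mem
  have v5 : vb h C2 g5 = g56 := vb_C2 h _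
  have v6 : vb h C2 g6 = g6 := vb_C2 h _
  have v56 : vb h C2 g56 = g5 := vb_C2 h _
  rcases pi_cases h δ with ⟨a, b⟩ | ⟨a, b⟩ | ⟨a, b⟩ | ⟨a, b⟩ | ⟨a, b⟩ | ⟨a, b⟩
  · exact absurd (NN_le h hP hδ ⟨a, b⟩) hδP
  · exfalso
    apply hδP
    have h1 : δ * C2 ∈ autInducedBy ⊤ (Qb K) := by
      refine NN_le h hP (mul_mem hδ hC) ⟨?_, ?_⟩
      · rw [vb_mul, v5, ← ml56, vb_ml, a, b]; rfl
      · rw [vb_mul, v6, b]
    have := mul_mem h1 (_root_.InvMemClass.inv_mem (C2_mem (K := K)))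
    rwa [mul_inv_cancel_right] at this
  · exact ⟨δ, hδ, a, b⟩
  · refine ⟨δ * δ, mul_mem hδ hδ, ?_, ?_⟩
    · rw [vb_mul, a, b]
    · rw [vb_mul, b, ← ml56, vb_ml, a, b]; rfl
  · refine ⟨δ * C2, mul_mem hδ hC, ?_, ?_⟩
    · rw [vb_mul, v5, ← ml56, vb_ml, a, b]; rfl
    · rw [vb_mul, v6, b]
  · refine ⟨C2 * δ, mul_mem hC hδ, ?_, ?_⟩
    · rw [vb_mul, a, v5]
    · rw [vb_mul, b, v56]

theorem vb56 {γ : MulAut (Qb K)} (h5 : vb h γ g5 = g56) (h6 : vb h γ g6 = g5) : vb h γ g56 = g6 := by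
  rw [← ml56, vb_ml, h5, h6]; rfl

theorem eq_closure {Γ : Subgroup (MulAut (Qb K))} (hP : Par2 Γ) {γ : MulAut (Qb K)} (hγ : γ ∈ Γ)
    (h5 : vb h γ g5 = g56) (h6 : vb h γ g6 = g5) :
    Γ = Subgroup.closure ((autInducedBy ⊤ (Qb K) : Set (MulAut (Qb K))) ∪ {γ}) := by
  have v5 : vb h C2 g5 = g56 := vb_C2 h _
  have v6 : vb h C2 g6 = g6 := vb_C2 h _
  have v56 : vb h C2 g56 = g5 := vb_C2 h _
  have h56 := vb56 h h5 h6
  set L := Subgroup.closure ((autInducedBy ⊤ (Qb K) : Set (MulAut (Qb K))) ∪ {γ}) with hL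
  have hPL : autInducedBy ⊤ (Qb K) ≤ L := fun x hx => Subgroup.subset_closure (Or.inl hx)
  have hγL : γ ∈ L := Subgroup.subset_closure (Or.inr rfl)
  have hCL : C2 ∈ L := hPL C2_mem
  have hLΓ : L ≤ Γ := by
    rw [hL, Subgroup.closure_le]
    rintro x (hx | hx)
    · exact hP.indu hx
    · rw [Set.mem_singleton_iff.1 hx]; exact hγ
  have key : ∀ δ ∈ Γ, ∀ w ∈ L, KerC h (w * δ) → δ ∈ L := by
    intro δ hδ w hw hk
    have := hPL (NN_le h hP (mul_mem (hLΓ hw) hδ) hk)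
    have h2 := mul_mem (_root_.InvMemClass.inv_mem hw) this
    rwa [inv_mul_cancel_left] at h2
  refine le_antisymm ?_ hLΓ
  intro δ hδ
  rcases pi_cases h δ with ⟨a, b⟩ | ⟨a, b⟩ | ⟨a, b⟩ | ⟨a, b⟩ | ⟨a, b⟩ | ⟨a, b⟩
  · exact hPL (NN_le h hP hδ ⟨a, b⟩)
  · -- δ : 5 → 56, 6 → 6
    exact key δ hδ C2 hCL ⟨by rw [vb_mul, a, v56], by rw [vb_mul, b, v6]⟩
  · -- δ : 5 → 56, 6 → 5; w : 56 → 5, 5 → 6 : γ²
    exact key δ hδ (γ * γ) (mul_mem hγL hγL) ⟨by rw [vb_mul, vb_mul, a, h56, h6], by rw [vb_mul, vb_mul, b, h5, h56]⟩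
  · -- δ : 5 → 6, 6 → 56 ; w = γ
    exact key δ hδ γ hγL ⟨by rw [vb_mul, a, h6], by rw [vb_mul, b, h56]⟩
  · -- δ : 5 → 6, 6 → 5; w : 6 → 5, 5 → 6
    exact key δ hδ (γ * C2) (mul_mem hγL hCL) ⟨by rw [vb_mul, vb_mul, a, v6, h6], by rw [vb_mul, vb_mul, b, v5, h56]⟩
  · -- δ : 5 → 5, 6 → 56 ; w : 5 → 5, 56 → 6
    exact key δ hδ (C2 * γ) (mul_mem hCL hγL) ⟨by rw [vb_mul, vb_mul, a, h5, v56], by rw [vb_mul, vb_mul, b, h56, v6]⟩

theorem gen_eq : (Gen IsWb ⊥ : Subgroup (MulAut (Qb K))) =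
    Subgroup.closure ((autInducedBy ⊤ (Qb K) : Set (MulAut (Qb K))) ∪ {ww h}) := by
  apply le_antisymm
  · rw [Gen, Subgroup.closure_le]
    rintro x ((hx | hx) | ⟨d, hd, hx⟩)
    · exact Subgroup.subset_closure (Or.inl hx)
    · exact Subgroup.subset_closure (Or.inr (isWb_eq h hx))
    · have hd1 : d = 1 := Subgroup.mem_bot.1 hd
      have : x = 1 := by
        refine MulEquiv.ext fun g => Subtype.ext ?_
        rw [hx g, hd1]; rfl
      rw [this]
      exact one_mem _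
  · rw [Subgroup.closure_le]
    rintro x (hx | hx)
    · exact Subgroup.subset_closure (Or.inl (Or.inl hx))
    · rw [Set.mem_singleton_iff.1 hx]
      exact Subgroup.subset_closure (Or.inl (Or.inr (ww_isWb h)))

/-- the outcome of the finite verification -/
theorem main_check {γ : MulAut (Qb K)} (h5 : vb h γ g5 = g56) (h6 : vb h γ g6 = g5)
    (i1 : ∃ g : B5, C2 * γ * C2 * γ = MulAut.conjNormal ((dB g : Qb K) : GU K))
    (i2 : ∃ g : B5, γ * γ * γ = MulAut.conjNormal ((dB g : Qb K) : GU K)) :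
    (∃ (t : Bool) (g : B5), rs (Th h false t) (Th_Qb h false t) * γ =
      MulAut.conjNormal ((dB g : Qb K) : GU K) * ww h * C2 * rs (Th h false t) (Th_Qb h false t)) ∨
    (∃ (t : Bool) (g : B5), rs (Th h true t) (Th_Qb h true t) * γ =
      MulAut.conjNormal ((dB g : Qb K) : GU K) * C2 * ww h * rs (Th h true t) (Th_Qb h true t)) := by
  have h56 := vb56 h h5 h6
  have k0 := mainCheck_eq
  rw [mainCheck, all_iff] at k0
  have k1 := k0 (vb h γ g1)
  rw [vb_ni1, Bool.not_true, Bool.false_or, all_iff] at k1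
  have k4 := k1 (vb h γ g4)
  rw [vb_ni4, ← vb_cm, ← g5_eq, h5, Bool.not_true, (bq_iff g56 g56).2 rfl, Bool.not_true, Bool.false_or, Bool.false_or,
    all_iff] at k4
  have k3 := k4 (vb h γ g3)
  rw [vb_ni3, ← vb_cm, ← g6_eq, h6, ← vb_cm, ← g56_eq, h56, Bool.not_true,
    (bq_iff g5 g5).2 rfl, (bq_iff g6 g6).2 rfl, Bool.not_true, Bool.false_or, Bool.false_or, Bool.false_or] at k3
  have e : F (vb h γ g1) (vb h γ g3) (vb h γ g4) g56 g5 = vb h γ := by
    funext x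
    rw [vb_F h γ x, h5, h6]
  simp only [e] at k3
  obtain ⟨u, hu⟩ := i1
  obtain ⟨v, hv⟩ := i2
  have r1 : ∀ x, c2 (vb h γ (c2 (vb h γ x))) = cj u x := by
    intro x
    rw [← vb_conj h, ← hu, vb_mul, vb_mul, vb_mul, vb_C2, vb_C2]
  have r2 : ∀ x, vb h γ (vb h γ (vb h γ x)) = cj v x := by
    intro x
    rw [← vb_conj h, ← hv, vb_mul, vb_mul]
  rw [r1, r1, r1, r2, r2, r2, inn_cj, inn_cj, Bool.not_true, Bool.false_or, Bool.false_or, Bool.or_eq_true] at k3
  rcases k3 with k3 | k3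
  · left
    rw [List.any_eq_true] at k3
    obtain ⟨t, -, k⟩ := k3
    obtain ⟨g, k⟩ := any8_imp _ k
    simp only [Bool.and_eq_true, bq_iff] at k
    obtain ⟨⟨q1, q3⟩, q4⟩ := k
    refine ⟨t, g, vb_ext h ?_ ?_ ?_⟩
    · rw [vb_mul, vb_mul, vb_mul, vb_mul, vb_Th, vb_Th, vb_conj, vb_ww, vb_C2, q1]
    · rw [vb_mul, vb_mul, vb_mul, vb_mul, vb_Th, vb_Th, vb_conj, vb_ww, vb_C2, q3]
    · rw [vb_mul, vb_mul, vb_mul, vb_mul, vb_Th, vb_Th, vb_conj, vb_ww, vb_C2, q4]
  · right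
    rw [List.any_eq_true] at k3
    obtain ⟨t, -, k⟩ := k3
    obtain ⟨g, k⟩ := any8_imp _ k
    simp only [Bool.and_eq_true, bq_iff] at k
    obtain ⟨⟨q1, q3⟩, q4⟩ := k
    refine ⟨t, g, vb_ext h ?_ ?_ ?_⟩
    · rw [vb_mul, vb_mul, vb_mul, vb_mul, vb_Th, vb_Th, vb_conj, vb_ww, vb_C2, q1]
    · rw [vb_mul, vb_mul, vb_mul, vb_mul, vb_Th, vb_Th, vb_conj, vb_ww, vb_C2, q3]
    · rw [vb_mul, vb_mul, vb_mul, vb_mul, vb_Th, vb_Th, vb_conj, vb_ww, vb_C2, q4]

/-- the conclusion from a conjugation formula -/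
theorem concl (θ : MulAut (GU K)) (hQ : ∀ g, g ∈ Qb K ↔ θ g ∈ Qb K) {γ p q : MulAut (Qb K)}
    (hp : p ∈ autInducedBy ⊤ (Qb K)) (hq : q ∈ autInducedBy ⊤ (Qb K))
    (hh : rs θ hQ * γ * (rs θ hQ)⁻¹ = p * ww h * q) :
    ConjOn θ (Subgroup.closure ((autInducedBy ⊤ (Qb K) : Set (MulAut (Qb K))) ∪ {γ})) (Gen IsWb ⊥) := by
  rw [gen_eq h]
  apply conjOn_of θ hQ
  · rintro x (hx | hx)
    · exact Subgroup.subset_closure (Or.inl (aut_conj θ hQ hx))
    · rw [Set.mem_singleton_iff.1 hx, hh]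
      exact mul_mem (mul_mem (Subgroup.subset_closure (Or.inl hp)) (Subgroup.subset_closure (Or.inr rfl)))
        (Subgroup.subset_closure (Or.inl hq))
  · rintro x (hx | hx)
    · exact Subgroup.subset_closure (Or.inl (aut_conj' θ hQ hx))
    · rw [Set.mem_singleton_iff.1 hx]
      have e : (rs θ hQ)⁻¹ * ww h * rs θ hQ = ((rs θ hQ)⁻¹ * p⁻¹ * rs θ hQ) * γ * ((rs θ hQ)⁻¹ * q⁻¹ * rs θ hQ) := by
        have e1 : ww h = p⁻¹ * (rs θ hQ * γ * (rs θ hQ)⁻¹) * q⁻¹ := by rw [hh]; group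
        rw [e1]; group
      rw [e]
      exact mul_mem (mul_mem (Subgroup.subset_closure (Or.inl (aut_conj' θ hQ (_root_.InvMemClass.inv_mem hp))))
        (Subgroup.subset_closure (Or.inr rfl))) (Subgroup.subset_closure (Or.inl (aut_conj' θ hQ (_root_.InvMemClass.inv_mem hq))))

end

theorem stGb2 : StGb2.{u} := by
  intro K _ h Γ hP
  obtain ⟨γ, hγ, h5, h6⟩ := exists_good h hP
  have h56 := vb56 h h5 h6
  rw [eq_closure h hP hγ h5 h6]
  have hC : C2 ∈ Γ := hP.indu C2_mem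
  have v5 : vb h C2 g5 = g56 := vb_C2 h _
  have v6 : vb h C2 g6 = g6 := vb_C2 h _
  have v56 : vb h C2 g56 = g5 := vb_C2 h _
  have i1 : ∃ g : B5, C2 * γ * C2 * γ = MulAut.conjNormal ((dB g : Qb K) : GU K) := by
    have hk : KerC h (C2 * γ * C2 * γ) :=
      ⟨by rw [vb_mul, vb_mul, vb_mul, h5, v56, h5, v56], by rw [vb_mul, vb_mul, vb_mul, h6, v5, h56, v6]⟩
    exact inner_of_ker h (NN_le h hP (mul_mem (mul_mem (mul_mem hC hγ) hC) hγ) hk) hk
  have i2 : ∃ g : B5, γ * γ * γ = MulAut.conjNormal ((dB g : Qb K) : GU K) := by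
    have hk : KerC h (γ * γ * γ) := ⟨by rw [vb_mul, vb_mul, h5, h56, h6], by rw [vb_mul, vb_mul, h6, h5, h56]⟩
    exact inner_of_ker h (NN_le h hP (mul_mem (mul_mem hγ hγ) hγ) hk) hk
  rcases main_check h h5 h6 i1 i2 with ⟨t, g, e⟩ | ⟨t, g, e⟩
  · refine ⟨Th h false t, concl h _ (Th_Qb h false t) (p := MulAut.conjNormal ((dB g : Qb K) : GU K))
      (conj_mem_aut _ _) C2_mem ?_⟩
    rw [e, mul_inv_cancel_right]
  · refine ⟨Th h true t, concl h _ (Th_Qb h true t) (p := MulAut.conjNormal ((dB g : Qb K) : GU K) * C2)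
      (mul_mem (conj_mem_aut _ _) C2_mem) (one_mem _) ?_⟩
    rw [e, mul_inv_cancel_right, mul_one]

end Cfsg.Agent.H505.GT
end

-- part: H505/GT/Sw2
section
/-!
# S5211 (`q = 2`): the swap (`StSw2`)
-/

set_option autoImplicit false

namespace Cfsg.Agent.H505.GT

open Cfsg Cfsg.FusionSystem Cfsg.Agent.H756.PU Cfsg.Agent.H779.G2

universe u

open B5

section
variable {K : Type u} [Field K]

/-- the coordinates on `Q_a / Z₁` -/
def cv (g : Qa K) : Fin 4 → K := ![(g : GU K).b, (g : GU K).c, (g : GU K).d, (g : GU K).e]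

theorem linA_iff (M : Matrix (Fin 4) (Fin 4) K) (γ : MulAut (Qa K)) : LinA M γ ↔ ∀ g, cv (γ g) = M.mulVec (cv g) := Iff.rfl

theorem linA_mul {M N : Matrix (Fin 4) (Fin 4) K} {γ δ : MulAut (Qa K)} (h1 : LinA M γ) (h2 : LinA N δ) :
    LinA (M * N) (γ * δ) := by
  rw [linA_iff] at *
  intro g
  rw [← Matrix.mulVec_mulVec, ← h2, ← h1]
  rfl

theorem linA_inv {M N : Matrix (Fin 4) (Fin 4) K} {γ : MulAut (Qa K)} (h1 : LinA M γ) (hN : N * M = 1) :
    LinA N γ⁻¹ := by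
  rw [linA_iff] at *
  intro g
  have h2 := h1 (γ⁻¹ g)
  rw [MulAut.apply_inv_self] at h2
  rw [h2, Matrix.mulVec_mulVec, hN, Matrix.one_mulVec]

theorem cv_ext {g g' : Qa K} (h1 : cv g = cv g') (h2 : (g : GU K).f = (g' : GU K).f) : g = g' := by
  apply Subtype.ext
  ext1
  · have k1 : (g : GU K).a = 0 := g.2
    have k2 : (g' : GU K).a = 0 := g'.2
    rw [k1, k2]
  · exact congrFun h1 0
  · exact congrFun h1 1
  · exact congrFun h1 2
  · exact congrFun h1 3
  · exact h2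

/-- elements of `Q_a` -/
def qa (b c d e f : K) : Qa K := ⟨⟨0, b, c, d, e, f⟩, rfl⟩

theorem qa_eq (g : Qa K) : g = qa (g : GU K).b (g : GU K).c (g : GU K).d (g : GU K).e (g : GU K).f :=
  cv_ext rfl rfl

theorem qa_dec (b c d e f : K) : qa b c d e f = qa b 0 0 0 0 * qa 0 c 0 0 0 * qa 0 0 d 0 0 * qa 0 0 0 e 0 * qa 0 0 0 0 f := by
  apply Subtype.ext
  ext1 <;> simp only [qa, _root_.Subgroup.coe_mul, _root_.Cfsg.Agent.H779.G2.GU.mul_a, _root_.add_zero, _root_.Cfsg.Agent.H779.G2.GU.mul_b, _root_.Cfsg.Agent.H779.G2.GU.mul_c, _root_.zero_add, _root_.MulZeroClass.mul_zero, _root_.Cfsg.Agent.H779.G2.GU.mul_d, _root_.ne_eq, _root_.OfNat.ofNat_ne_zero, _root_.not_false_eq_true, _root_.zero_pow, _root_.Cfsg.Agent.H779.G2.GU.mul_e, _root_.Cfsg.Agent.H779.G2.GU.mul_f, _root_.MulZeroClass.zero_mul, _root_.sub_self, _root_.sub_zero]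

theorem f_mul (g g' : Qa K) : ((g * g' : Qa K) : GU K).f =
    (g : GU K).f + (g' : GU K).f + 3 * (g : GU K).d * (g' : GU K).c - (g : GU K).e * (g' : GU K).b := by
  have k2 : (g' : GU K).a = 0 := g'.2
  rw [Subgroup.coe_mul, GU.mul_f, k2]
  ring

theorem conj_lin (y : GU K) (g : Qa K) (hy : y ∈ Qa K) : cv (MulAut.conjNormal y g) = cv g ∧
    ((MulAut.conjNormal y g : Qa K) : GU K).f = (g : GU K).f + 3 * y.d * (g : GU K).c - y.e * (g : GU K).b
      - 3 * (g : GU K).d * y.c + (g : GU K).e * y.b := by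
  have ha : (g : GU K).a = 0 := g.2
  have hya : y.a = 0 := hy
  set z := (MulAut.conjNormal y g : Qa K) with hz
  have hza : (z : GU K).a = 0 := z.2
  have h1 : (z : GU K) * y = y * g := by
    rw [hz, MulAut.conjNormal_apply]
    group
  have hb := congrArg GU.b h1
  have hc := congrArg GU.c h1
  have hd := congrArg GU.d h1
  have he := congrArg GU.e h1
  have hf := congrArg GU.f h1
  simp only [GU.mul_b, GU.mul_c, GU.mul_d, GU.mul_e, GU.mul_f, ha, hya] at hb hc hd he hf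
  have b1 : (z : GU K).b = (g : GU K).b := by linear_combination hb
  have c1 : (z : GU K).c = (g : GU K).c := by linear_combination hc
  have d1 : (z : GU K).d = (g : GU K).d := by linear_combination hd
  have e1 : (z : GU K).e = (g : GU K).e := by linear_combination he
  refine ⟨?_, ?_⟩
  · rw [cv, cv, b1, c1, d1, e1]
  · rw [b1, c1, d1, e1] at hf
    linear_combination hf

theorem aut_le_of_lin_one (h : HypG K 2 1) {γ : MulAut (Qa K)} (hγ : LinA 1 γ) : γ ∈ autInducedBy ⊤ (Qa K) := by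
  rw [linA_iff] at hγ
  simp only [Matrix.one_mulVec] at hγ
  have h2 := two_eq h
  -- the additive map
  have hφ : ∀ g g' : Qa K, ((γ (g * g') : Qa K) : GU K).f - ((g * g' : Qa K) : GU K).f =
      (((γ g : Qa K) : GU K).f - (g : GU K).f) + (((γ g' : Qa K) : GU K).f - (g' : GU K).f) := by
    intro g g'
    have b1 : ((γ g' : Qa K) : GU K).b = (g' : GU K).b := congrFun (hγ g') 0
    have c1 : ((γ g' : Qa K) : GU K).c = (g' : GU K).c := congrFun (hγ g') 1
    have d1 : ((γ g : Qa K) : GU K).d = (g : GU K).d := congrFun (hγ g) 2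
    have e1 : ((γ g : Qa K) : GU K).e = (g : GU K).e := congrFun (hγ g) 3
    rw [map_mul, f_mul, f_mul, b1, c1, d1, e1]
    ring
  set φ : Qa K → K := fun g => ((γ g : Qa K) : GU K).f - (g : GU K).f with hφd
  have hφm : ∀ g g', φ (g * g') = φ g + φ g' := hφ
  have hφ1 : φ 1 = 0 := by
    have := hφm 1 1
    rw [mul_one] at this
    linear_combination -this
  have q0 : (qa 0 0 0 0 0 : Qa K) = 1 := rfl
  have p1 : ∀ x : K, φ (qa x 0 0 0 0) = x * φ (qa 1 0 0 0 0) := by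
    intro x
    rcases cases01 h x with rfl | rfl
    · rw [q0, hφ1, zero_mul]
    · rw [one_mul]
  have p2 : ∀ x : K, φ (qa 0 x 0 0 0) = x * φ (qa 0 1 0 0 0) := by
    intro x
    rcases cases01 h x with rfl | rfl
    · rw [q0, hφ1, zero_mul]
    · rw [one_mul]
  have p3 : ∀ x : K, φ (qa 0 0 x 0 0) = x * φ (qa 0 0 1 0 0) := by
    intro x
    rcases cases01 h x with rfl | rfl
    · rw [q0, hφ1, zero_mul]
    · rw [one_mul]
  have p4 : ∀ x : K, φ (qa 0 0 0 x 0) = x * φ (qa 0 0 0 1 0) := by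
    intro x
    rcases cases01 h x with rfl | rfl
    · rw [q0, hφ1, zero_mul]
    · rw [one_mul]
  have p5 : ∀ x : K, φ (qa 0 0 0 0 x) = 0 := by
    intro x
    have e1 : (qa 1 0 0 0 0 * qa 0 0 0 x 0 : Qa K) = qa 0 0 0 x 0 * qa 1 0 0 0 0 * qa 0 0 0 0 x := by
      apply Subtype.ext
      ext1 <;> simp only [qa, _root_.Subgroup.coe_mul, _root_.Cfsg.Agent.H779.G2.GU.mul_a, _root_.add_zero, _root_.Cfsg.Agent.H779.G2.GU.mul_b, _root_.zero_add, _root_.Cfsg.Agent.H779.G2.GU.mul_c, _root_.MulZeroClass.mul_zero, _root_.Cfsg.Agent.H779.G2.GU.mul_d, _root_.ne_eq, _root_.OfNat.ofNat_ne_zero, _root_.not_false_eq_true, _root_.zero_pow, _root_.Cfsg.Agent.H779.G2.GU.mul_e, _root_.Cfsg.Agent.H779.G2.GU.mul_f, _root_.sub_self, _root_.mul_one, _root_.one_pow, _root_.zero_sub, _root_.sub_zero, _root_.neg_add_cancel]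
    have e2 := congrArg φ e1
    rw [hφm, hφm, hφm] at e2
    linear_combination -e2
  have hall : ∀ g : Qa K, ((γ g : Qa K) : GU K).f = (g : GU K).f + (g : GU K).b * φ (qa 1 0 0 0 0) +
      (g : GU K).c * φ (qa 0 1 0 0 0) + (g : GU K).d * φ (qa 0 0 1 0 0) + (g : GU K).e * φ (qa 0 0 0 1 0) := by
    intro g
    have e1 : φ g = (g : GU K).b * φ (qa 1 0 0 0 0) + (g : GU K).c * φ (qa 0 1 0 0 0) + (g : GU K).d * φ (qa 0 0 1 0 0) +
        (g : GU K).e * φ (qa 0 0 0 1 0) := by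
      conv_lhs => rw [qa_eq g, qa_dec]
      rw [hφm, hφm, hφm, hφm, p1, p2, p3, p4, p5]
      ring
    have e2 : ((γ g : Qa K) : GU K).f = (g : GU K).f + φ g := by rw [hφd]; ring
    rw [e2, e1]; ring
  rw [mem_aut_iff]
  refine ⟨qa (φ (qa 0 0 0 1 0)) (φ (qa 0 0 1 0 0)) (φ (qa 0 1 0 0 0)) (φ (qa 1 0 0 0 0)) 0, ?_⟩
  refine MulEquiv.ext fun g => ?_
  obtain ⟨k1, k2⟩ := conj_lin _ g
    (qa (φ (qa 0 0 0 1 0)) (φ (qa 0 0 1 0 0)) (φ (qa 0 1 0 0 0)) (φ (qa 1 0 0 0 0)) 0 : Qa K).2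
  apply cv_ext
  · rw [k1, hγ]
  · rw [k2, hall]
    show (g : GU K).f + (g : GU K).b * φ (qa 1 0 0 0 0) + (g : GU K).c * φ (qa 0 1 0 0 0) +
      (g : GU K).d * φ (qa 0 0 1 0 0) + (g : GU K).e * φ (qa 0 0 0 1 0) =
      (g : GU K).f + 3 * φ (qa 0 1 0 0 0) * (g : GU K).c - φ (qa 1 0 0 0 0) * (g : GU K).b
      - 3 * (g : GU K).d * φ (qa 0 0 1 0 0) + (g : GU K).e * φ (qa 0 0 0 1 0)
    linear_combination ((g : GU K).b * φ (qa 1 0 0 0 0) - (g : GU K).c * φ (qa 0 1 0 0 0) +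
      2 * (g : GU K).d * φ (qa 0 0 1 0 0)) * h2

/-- the Weyl element of `Q_a` -/
def wa : MulAut (Qa K) where
  toFun g := qa (g : GU K).e (-(g : GU K).d) (g : GU K).c (-(g : GU K).b)
    ((g : GU K).f + (g : GU K).b * (g : GU K).e - 3 * (g : GU K).c * (g : GU K).d)
  invFun g := qa (-(g : GU K).e) (g : GU K).d (-(g : GU K).c) (g : GU K).b
    ((g : GU K).f + (g : GU K).b * (g : GU K).e - 3 * (g : GU K).c * (g : GU K).d)
  left_inv g := by
    refine cv_ext ?_ ?_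
    · simp only [cv, qa, _root_.neg_neg, _root_.mul_neg, _root_.neg_mul, _root_.sub_neg_eq_add]
    · simp only [qa]; ring
  right_inv g := by
    refine cv_ext ?_ ?_
    · simp only [cv, qa, _root_.neg_neg, _root_.neg_mul, _root_.mul_neg, _root_.sub_neg_eq_add]
    · simp only [qa]; ring
  map_mul' g g' := by
    have ha' : (g' : GU K).a = 0 := g'.2
    apply Subtype.ext
    ext1
    · simp only [qa, _root_.Subgroup.coe_mul, _root_.Cfsg.Agent.H779.G2.GU.mul_e, _root_.Cfsg.Agent.H779.G2.GU.mul_d, _root_.neg_add_rev, _root_.Cfsg.Agent.H779.G2.GU.mul_c, _root_.Cfsg.Agent.H779.G2.GU.mul_b, _root_.Cfsg.Agent.H779.G2.GU.mul_f, _root_.Cfsg.Agent.H779.G2.GU.mul_a, _root_.add_zero]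
    · simp only [qa, ha', _root_.Subgroup.coe_mul, _root_.Cfsg.Agent.H779.G2.GU.mul_e, _root_.MulZeroClass.mul_zero, _root_.add_zero, _root_.ne_eq, _root_.OfNat.ofNat_ne_zero, _root_.not_false_eq_true, _root_.zero_pow, _root_.Cfsg.Agent.H779.G2.GU.mul_d, _root_.neg_add_rev, _root_.Cfsg.Agent.H779.G2.GU.mul_c, _root_.Cfsg.Agent.H779.G2.GU.mul_b, _root_.Cfsg.Agent.H779.G2.GU.mul_f, _root_.MulZeroClass.zero_mul, _root_.sub_zero]
    · simp only [qa, Subgroup.coe_mul, GU.mul_d, GU.mul_c, ha']; ring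
    · simp only [qa, Subgroup.coe_mul, GU.mul_d, GU.mul_c, ha']; ring
    · simp only [qa, Subgroup.coe_mul, GU.mul_e, GU.mul_b, ha']; ring
    · simp only [qa, Subgroup.coe_mul, GU.mul_f, GU.mul_b, GU.mul_c, GU.mul_d, GU.mul_e, ha']; ring

theorem wa_isWa : IsWa (wa : MulAut (Qa K)) :=
  ⟨fun _ => rfl, fun _ => rfl, fun _ => rfl, fun _ => rfl, fun _ => rfl⟩

/-- matrix of the Weyl element -/
def Wm : Matrix (Fin 4) (Fin 4) K := !![0, 0, 0, 1; 0, 0, 1, 0; 0, 1, 0, 0; 1, 0, 0, 0]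
/-- matrix of `x₁` -/
def Um : Matrix (Fin 4) (Fin 4) K := !![1, 0, 0, 0; 1, 1, 0, 0; 1, 0, 1, 0; 1, 1, 1, 1]
/-- matrix of the swap -/
def Sm : Matrix (Fin 4) (Fin 4) K := !![1, 0, 0, 0; 1, 1, 0, 0; 0, 0, 1, 0; 0, 0, 1, 1]

variable (h : HypG K 2 1)

include h in
theorem neg_eq' (x : K) : -x = x := by
  have h2 := two_eq h
  linear_combination (-x) * h2

include h in
theorem linA_wa {γ : MulAut (Qa K)} (hγ : IsWa γ) : LinA Wm γ := by
  intro g
  rw [hγ.b, hγ.c, hγ.d, hγ.e, neg_eq' h, neg_eq' h]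
  funext i
  (revert i; simp only [Wm, Matrix.mulVec, dotProduct, Fin.sum_univ_four, _root_.Fin.forall_fin_succ, _root_.Nat.succ_eq_add_one, Nat.reduceAdd, _root_.Matrix.of_apply, _root_.Matrix.cons_val', _root_.Matrix.cons_val_fin_one, Fin.isValue, _root_.Matrix.cons_val_zero, _root_.Matrix.cons_val_one, _root_.Matrix.cons_val, _root_.MulZeroClass.zero_mul, _root_.add_zero, _root_.one_mul, _root_.zero_add, _root_.Matrix.cons_val_succ, _root_.implies_true, _root_.and_self])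

/-- `x₁` -/
def z1 : GU K := ⟨1, 0, 0, 0, 0, 0⟩

include h in
theorem linA_z1 : LinA Um (MulAut.conjNormal (z1 : GU K) : MulAut (Qa K)) := by
  have h2 := two_eq h
  intro g
  have ha : (g : GU K).a = 0 := g.2
  set z := (MulAut.conjNormal (z1 : GU K) g : Qa K) with hz
  have hza : (z : GU K).a = 0 := z.2
  have h1 : (z : GU K) * z1 = z1 * (g : GU K) := by
    rw [hz, MulAut.conjNormal_apply]
    group
  have hb := congrArg GU.b h1
  have hc := congrArg GU.c h1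
  have hd := congrArg GU.d h1
  have he := congrArg GU.e h1
  simp only [GU.mul_b, GU.mul_c, GU.mul_d, GU.mul_e, ha, z1] at hb hc hd he
  have b1 : (z : GU K).b = (g : GU K).b := by linear_combination hb
  have c1 : (z : GU K).c = (g : GU K).b + (g : GU K).c := by
    rw [b1] at hc; linear_combination hc - (g : GU K).b * h2
  have d1 : (z : GU K).d = (g : GU K).b + (g : GU K).d := by
    rw [b1, c1] at hd; linear_combination hd - (2 * (g : GU K).b + (g : GU K).c) * h2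
  have e1 : (z : GU K).e = (g : GU K).b + (g : GU K).c + (g : GU K).d + (g : GU K).e := by
    rw [b1, c1, d1] at he
    linear_combination he - (4 * (g : GU K).b + 2 * (g : GU K).c + 2 * (g : GU K).d) * h2
  rw [b1, c1, d1, e1]
  funext i
  (revert i; simp only [Um, Matrix.mulVec, dotProduct, Fin.sum_univ_four, _root_.Fin.forall_fin_succ, _root_.Nat.succ_eq_add_one, Nat.reduceAdd, _root_.Matrix.of_apply, _root_.Matrix.cons_val', _root_.Matrix.cons_val_fin_one, Fin.isValue, _root_.Matrix.cons_val_zero, _root_.Matrix.cons_val_one, _root_.Matrix.cons_val, _root_.one_mul, _root_.MulZeroClass.zero_mul, _root_.add_zero, _root_.Matrix.cons_val_succ, _root_.implies_true, _root_.and_self])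

theorem linA_Sw : LinA Sm (rs (Sw h) (Sw_Qa h)) := by
  intro g
  have key : ∃ x : B6, (g : GU K) = dec x := by
    obtain ⟨x, hx⟩ := dec_surj h (g : GU K)
    exact ⟨x, hx.symm⟩
  obtain ⟨x, hx⟩ := key
  rw [rs_apply, hx, Sw_dec]
  have b1 : (dec (B6.sw x) : GU K).b = bt x.b := rfl
  have c1 : (dec (B6.sw x) : GU K).c = bt x.b + bt x.c := bt_xor h _ _
  have d1 : (dec (B6.sw x) : GU K).d = bt x.d := rfl
  have e1 : (dec (B6.sw x) : GU K).e = bt x.d + bt x.e := bt_xor h _ _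
  rw [b1, c1, d1, e1]
  funext i
  (revert i; simp only [Sm, Matrix.mulVec, dotProduct, Fin.sum_univ_four, dec, _root_.Fin.forall_fin_succ, _root_.Nat.succ_eq_add_one, Nat.reduceAdd, _root_.Matrix.of_apply, _root_.Matrix.cons_val', _root_.Matrix.cons_val_fin_one, Fin.isValue, _root_.Matrix.cons_val_zero, _root_.Matrix.cons_val_one, _root_.Matrix.cons_val, _root_.one_mul, _root_.MulZeroClass.zero_mul, _root_.add_zero, _root_.Matrix.cons_val_succ, _root_.zero_add, _root_.implies_true, _root_.and_self])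

include h in
theorem oo : (1 : K) + 1 = 0 := by
  have h2 := two_eq h
  linear_combination h2

include h in
theorem mat_UW : (Um * Wm : Matrix (Fin 4) (Fin 4) K) = R1m * R2m := by
  have := oo h
  ext i j
  (revert i j; simp only [Um, Wm, R1m, R2m, Matrix.mul_apply, Fin.sum_univ_four, _root_.Fin.forall_fin_succ, _root_.Matrix.of_apply, _root_.Matrix.cons_val', _root_.Matrix.cons_val_fin_one, Fin.isValue, _root_.Matrix.cons_val_zero, _root_.Matrix.cons_val_one, _root_.Matrix.cons_val, _root_.MulZeroClass.mul_zero, _root_.add_zero, _root_.mul_one, _root_.zero_add, _root_.Matrix.cons_val_succ, _root_.forall_const, _root_.true_and, _root_.and_self, _root_.right_eq_add, _root_.implies_true])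

include h in
theorem mat_SS : (Sm * Sm : Matrix (Fin 4) (Fin 4) K) = 1 := by
  have := oo h
  ext i j
  (revert i j; simp only [Sm, Matrix.mul_apply, Fin.sum_univ_four, this, _root_.Fin.forall_fin_succ, _root_.Matrix.of_apply, _root_.Matrix.cons_val', _root_.Matrix.cons_val_fin_one, Fin.isValue, _root_.Matrix.cons_val_zero, _root_.Matrix.cons_val_one, _root_.Matrix.cons_val, _root_.mul_one, _root_.MulZeroClass.mul_zero, _root_.add_zero, _root_.Matrix.cons_val_succ, _root_.zero_add, _root_.IsEmpty.forall_iff, _root_.and_true, _root_.Matrix.one_apply_eq, Nat.reduceAdd, _root_.Fin.succ_zero_eq_one, _root_.ne_eq, _root_.zero_ne_one, _root_.not_false_eq_true, _root_.Matrix.one_apply_ne, _root_.Fin.succ_one_eq_two, Fin.reduceEq, Fin.reduceSucc, _root_.and_self, _root_.Fin.succ_ne_zero, _root_.true_and])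

include h in
private theorem exφ : ∃ φ : Matrix (Fin 4) (Fin 4) (ZMod 2) →+* Matrix (Fin 4) (Fin 4) K,
    φ Sm = Sm ∧ φ R1m = R1m ∧ φ R2m = R2m := by
  have h2 : CharP K 2 := CharTwo.of_one_ne_zero_of_two_eq_zero one_ne_zero (two_eq h)
  obtain ⟨f⟩ : Nonempty (ZMod 2 →+* K) := ⟨ZMod.castHom (dvd_refl 2) K⟩
  refine ⟨f.mapMatrix, ?_, ?_, ?_⟩ <;> ext i j <;> fin_cases i <;> fin_cases j <;>
    first | exact f.map_zero | exact f.map_one

include h in
theorem mat_SAS : (Sm * (R1m * R2m) * Sm : Matrix (Fin 4) (Fin 4) K) = (R1m * R2m * R2m) * (R1m * R2m * R2m) := by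
  obtain ⟨φ, h1, h2, h3⟩ := exφ h
  rw [← h1, ← h2, ← h3]
  simp only [← map_mul]
  exact congrArg φ (by decide +kernel)

include h in
theorem mat_SBS : (Sm * (R1m * R2m * R2m) * Sm : Matrix (Fin 4) (Fin 4) K) = (R1m * R2m) * (R1m * R2m) := by
  obtain ⟨φ, h1, h2, h3⟩ := exφ h
  rw [← h1, ← h2, ← h3]
  simp only [← map_mul]
  exact congrArg φ (by decide +kernel)

include h in
theorem mat_A3 : ((R1m * R2m) * ((R1m * R2m) * (R1m * R2m)) : Matrix (Fin 4) (Fin 4) K) = 1 := by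
  obtain ⟨φ, h1, h2, h3⟩ := exφ h
  rw [← h2, ← h3, ← map_one φ]
  simp only [← map_mul]
  exact congrArg φ (by decide +kernel)

include h in
theorem mat_B3 : ((R1m * R2m * R2m) * ((R1m * R2m * R2m) * (R1m * R2m * R2m)) : Matrix (Fin 4) (Fin 4) K) = 1 := by
  obtain ⟨φ, h1, h2, h3⟩ := exφ h
  rw [← h2, ← h3, ← map_one φ]
  simp only [← map_mul]
  exact congrArg φ (by decide +kernel)

theorem conjOn_GenR {A B : Matrix (Fin 4) (Fin 4) K} (hA : A * (A * A) = 1) (hB : B * (B * B) = 1)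
    (h1 : Sm * A * Sm = B * B) (h2 : Sm * B * Sm = A * A) :
    ConjOn (Sw h) (GenR {A} : Subgroup (MulAut (Qa K))) (GenR {B}) := by
  have hS := linA_Sw h
  have hS' : LinA Sm (rs (Sw h) (Sw_Qa h))⁻¹ := linA_inv hS (mat_SS h)
  apply conjOn_of (Sw h) (Sw_Qa h)
  · rintro x (hx | ⟨M, hM, hx⟩)
    · exact Subgroup.subset_closure (Or.inl (aut_conj _ (Sw_Qa h) hx))
    · rw [Set.mem_singleton_iff.1 hM] at hx
      have k1 := linA_mul (linA_mul hS hx) hS'
      rw [h1] at k1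
      have k2 := linA_inv k1 hB
      rw [← inv_mem_iff]
      exact Subgroup.subset_closure (Or.inr ⟨B, rfl, k2⟩)
  · rintro x (hx | ⟨M, hM, hx⟩)
    · exact Subgroup.subset_closure (Or.inl (aut_conj' _ (Sw_Qa h) hx))
    · rw [Set.mem_singleton_iff.1 hM] at hx
      have k1 := linA_mul (linA_mul hS' hx) hS
      rw [h2] at k1
      have k2 := linA_inv k1 hA
      rw [← inv_mem_iff]
      exact Subgroup.subset_closure (Or.inr ⟨A, rfl, k2⟩)

include h in
theorem gen_wa : (Gen IsWa ⊥ : Subgroup (MulAut (Qa K))) = GenR {R1m * R2m} := by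
  have hc : (MulAut.conjNormal (z1 : GU K) : MulAut (Qa K)) ∈ autInducedBy ⊤ (Qa K) := conj_mem_aut _ _
  apply le_antisymm
  · rw [Gen, Subgroup.closure_le]
    rintro x ((hx | hx) | ⟨d, hd, hx⟩)
    · exact Subgroup.subset_closure (Or.inl hx)
    · have k1 := linA_mul (linA_z1 h) (linA_wa h hx)
      rw [mat_UW h] at k1
      have k2 : (MulAut.conjNormal (z1 : GU K) : MulAut (Qa K)) * x ∈ GenR {R1m * R2m} :=
        Subgroup.subset_closure (Or.inr ⟨_, rfl, k1⟩)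
      have k3 := mul_mem (_root_.InvMemClass.inv_mem (Subgroup.subset_closure (Or.inl hc) :
        (MulAut.conjNormal (z1 : GU K) : MulAut (Qa K)) ∈ GenR {R1m * R2m})) k2
      rwa [inv_mul_cancel_left] at k3
    · have hd1 : d = 1 := Subgroup.mem_bot.1 hd
      have : x = 1 := by
        refine MulEquiv.ext fun g => Subtype.ext ?_
        rw [hx g, hd1]; rfl
      rw [this]
      exact one_mem _
  · rw [GenR, Subgroup.closure_le]
    rintro x (hx | ⟨M, hM, hx⟩)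
    · exact Subgroup.subset_closure (Or.inl (Or.inl hx))
    · rw [Set.mem_singleton_iff.1 hM] at hx
      have k1 := linA_mul (linA_z1 h) (linA_wa h wa_isWa)
      rw [mat_UW h] at k1
      have k2 := linA_inv (N := (R1m * R2m) * (R1m * R2m)) k1 (by rw [mul_assoc, mat_A3 h])
      have k3 := linA_mul hx k2
      rw [mat_A3 h] at k3
      have k4 := aut_le_of_lin_one h k3
      have k5 : (MulAut.conjNormal (z1 : GU K) : MulAut (Qa K)) * wa ∈ (Gen IsWa ⊥ : Subgroup (MulAut (Qa K))) :=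
        mul_mem (Subgroup.subset_closure (Or.inl (Or.inl hc))) (Subgroup.subset_closure (Or.inl (Or.inr wa_isWa)))
      have k6 := mul_mem (Subgroup.subset_closure (Or.inl (Or.inl k4)) :
        _ ∈ (Gen IsWa ⊥ : Subgroup (MulAut (Qa K)))) k5
      rwa [inv_mul_cancel_right] at k6

theorem conjOn_ww : ConjOn (Sw h) (Gen IsWb ⊥ : Subgroup (MulAut (Qb K))) (Gen IsWb ⊥) := by
  have k := concl h (Sw h) (Sw_Qb h) (γ := ww h) (p := MulAut.conjNormal ((dB ⟨true, true, true, false, false⟩ : Qb K) : GU K))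
    (q := 1) (conj_mem_aut _ _) (one_mem _) (by
      rw [mul_one, mul_inv_eq_iff_eq_mul]
      apply vb_ext h
      · rw [vb_mul, vb_mul, vb_mul, vb_Sw, vb_Sw, vb_conj, vb_ww, vb_ww]; rfl
      · rw [vb_mul, vb_mul, vb_mul, vb_Sw, vb_Sw, vb_conj, vb_ww, vb_ww]; rfl
      · rw [vb_mul, vb_mul, vb_mul, vb_Sw, vb_Sw, vb_conj, vb_ww, vb_ww]; rfl)
  rwa [← gen_eq h] at k

end

theorem stSw2 : StSw2.{u} := by
  intro K _ h
  exact ⟨⟨Sw h, conjOn_ww h, conjOn_GenR h (mat_A3 h) (mat_B3 h) (mat_SAS h) (mat_SBS h),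
    conjOn_GenR h (mat_B3 h) (mat_A3 h) (mat_SBS h) (mat_SAS h)⟩, Or.inl (gen_wa h)⟩

end Cfsg.Agent.H505.GT
end

private theorem dce_dad3f261251b : _root_.True := by
  try have : _root_.True := by simp only [_root_.Cfsg.Agent.H505.GT.B6.bq.eq_1]
  try have : _root_.True := by simp only [_root_.Cfsg.Agent.H505.GT.Wm.eq_1]
  try have : _root_.True := by simp only [_root_.Cfsg.Agent.H505.GT.rs.congr_simp]
  try have : _root_.True := by simp only [_root_.Cfsg.Agent.H505.GT.z1.eq_1]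
  try have : _root_.True := by simp only [_root_.Cfsg.Agent.H505.GT.B5.F.eq_1]
  try have : _root_.True := by simp only [_root_.Cfsg.Agent.H505.GT.Um.eq_1]
  try have : _root_.True := by simp only [_root_.Cfsg.Agent.H505.GT.B5.hom.eq_1]
  try have : _root_.True := by simp only [_root_.Cfsg.Agent.H505.GT.B5.cm.eq_1]
  try have : _root_.True := by simp only [_root_.Cfsg.Agent.H505.GT.qa.eq_1]
  try have : _root_.True := by simp only [_root_.Cfsg.Agent.H779.G2.Gen.eq_1]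
  try have : _root_.True := by simp only [_root_.Cfsg.Agent.H505.GT.Sm.eq_1]
  try have : _root_.True := by simp only [_root_.Cfsg.Agent.H505.GT.B5.all.eq_1]
  try have : _root_.True := by simp only [_root_.Cfsg.Agent.H505.GT.dec.eq_1]
  try have : _root_.True := by simp only [_root_.Cfsg.Agent.H505.GT.B6.hom.eq_1]
  try have : _root_.True := by simp only [_root_.Cfsg.Agent.H505.GT.B5.cj.eq_1]
  try have : _root_.True := by simp only [_root_.Cfsg.Agent.H505.GT.cv.eq_1]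
  try have : _root_.True := by simp only [_root_.Cfsg.Agent.H505.GT.B5.kerCheck.eq_1]
  try have : _root_.True := by simp only [_root_.Cfsg.Agent.H505.GT.B5.ni.eq_1]
  try have : _root_.True := by simp only [_root_.Cfsg.Agent.H505.GT.vb.congr_simp]
  try have : _root_.True := by simp only [_root_.Cfsg.Agent.H505.GT.B5.mainCheck.eq_1]
  try have : _root_.True := by simp only [_root_.Cfsg.Agent.H505.GT.B6.all.eq_1]
  try have : _root_.True := by simp only [_root_.Cfsg.Agent.H779.G2.R2m.eq_1]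
  try have : _root_.True := by simp only [_root_.Cfsg.Agent.H505.GT.B5.bq.eq_1]
  try have : _root_.True := by simp only [_root_.Cfsg.Agent.H505.GT.ww.congr_simp]
  try have : _root_.True := by simp only [_root_.Cfsg.Agent.H779.G2.R1m.eq_1]
  try have : _root_.True := by simp only [_root_.Cfsg.Agent.H779.G2.GenR.eq_1]
  try have : _root_.True := by simp only [_root_.Cfsg.Agent.H505.GT.B5.any8.eq_1]
  try have : _root_.True := by simp only [_root_.Cfsg.autInducedBy.eq_1]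
  exact _root_.True.intro
end

-- part: H949/GT/Gen
section
prune_inst 0xf01005200c22000000180002000038223200000000480000000002020280884028010800302001001000004400300060021000004000000000000000011c00800000000080080000020000000000000000000000000000000000000000000000000000000
set_option linter.all false
open scoped Cfsg.Agent.FastGrp

-- part: H949/GT/Act
section
/-!
# S5211, the short root parabolic (helper949): the action on `Q_a / Z₁`

`Acts γ M τ m` : `γ` acts on `Q_a / Z₁ = K⁴` as `M τ` and on `Z₁` as `m τ`.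
-/

set_option autoImplicit false

namespace Cfsg.Agent.H949.GT

open Cfsg Cfsg.FusionSystem Cfsg.Agent.H756.PU Cfsg.Agent.H779.G2 Cfsg.Agent.H103.GT Cfsg.Agent.H802 Matrix

universe u

variable {K : Type u} [Field K]

/-- the coordinates on `Q_a / Z₁` -/
def co (g : GU K) : Fin 4 → K := ![g.b, g.c, g.d, g.e]

theorem co_surj (v : Fin 4 → K) : ∃ g : Qa K, co (g : GU K) = v := by
  refine ⟨⟨⟨0, v 0, v 1, v 2, v 3, 0⟩, rfl⟩, ?_⟩
  ext i
  fin_cases i <;> rfl

theorem co_eq_zero {g : Qa K} : co (g : GU K) = 0 ↔ (g : GU K) ∈ Z1 K := by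
  constructor
  · intro h
    exact ⟨g.2, congrFun h 0, congrFun h 1, congrFun h 2, congrFun h 3⟩
  · rintro ⟨-, h1, h2, h3, h4⟩
    ext i
    fin_cases i
    · exact h1
    · exact h2
    · exact h3
    · exact h4

/-- `γ` acts on `Q_a / Z₁` as `M τ` and on `Z₁` as `m τ` -/
structure Acts (γ : MulAut (Qa K)) (M : Matrix (Fin 4) (Fin 4) K) (τ : K ≃+* K) (m : K) : Prop where
  V : ∀ g : Qa K, co ((γ g : Qa K) : GU K) = M.mulVec (fun i => τ (co (g : GU K) i))
  Z : ∀ g : Qa K, (g : GU K) ∈ Z1 K → ((γ g : Qa K) : GU K) ∈ Z1 K ∧ ((γ g : Qa K) : GU K).f = m * τ (g : GU K).f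

theorem exists_acts (hSem : StSem.{u}) {p n : ℕ} (hK : HypG K p n) (h3 : p ≠ 3) (γ : MulAut (Qa K)) :
    ∃ M τ m, m ≠ 0 ∧ Acts γ M τ m := by
  obtain ⟨τ, M, m, hm, h1, h2, h4, h5, h6⟩ := hSem hK h3 γ
  refine ⟨M, τ, m, hm, fun g => ?_, h6⟩
  ext i
  fin_cases i
  · show ((γ g : Qa K) : GU K).b = _
    rw [h1]
    simp only [Matrix.mulVec, dotProduct, Fin.sum_univ_four, co, _root_.Fin.isValue, _root_.Fin.zero_eta, _root_.Matrix.cons_val_zero, _root_.Matrix.cons_val_one, _root_.Matrix.cons_val]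
  · show ((γ g : Qa K) : GU K).c = _
    rw [h2]
    simp only [Matrix.mulVec, dotProduct, Fin.sum_univ_four, co, _root_.Fin.isValue, _root_.Fin.mk_one, _root_.Matrix.cons_val_zero, _root_.Matrix.cons_val_one, _root_.Matrix.cons_val]
  · show ((γ g : Qa K) : GU K).d = _
    rw [h4]
    simp only [Matrix.mulVec, dotProduct, Fin.sum_univ_four, co, _root_.Fin.isValue, _root_.Fin.reduceFinMk, _root_.Matrix.cons_val_zero, _root_.Matrix.cons_val_one, _root_.Matrix.cons_val]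
  · show ((γ g : Qa K) : GU K).e = _
    rw [h5]
    simp only [Matrix.mulVec, dotProduct, Fin.sum_univ_four, co, _root_.Fin.isValue, _root_.Fin.reduceFinMk, _root_.Matrix.cons_val_zero, _root_.Matrix.cons_val_one, _root_.Matrix.cons_val]

theorem Acts.one : Acts (1 : MulAut (Qa K)) 1 (RingEquiv.refl K) 1 where
  V g := by
    rw [Matrix.one_mulVec]
    rfl
  Z g hg := ⟨hg, by simp⟩

theorem Acts.mul {γ γ' : MulAut (Qa K)} {M M' : Matrix (Fin 4) (Fin 4) K} {τ τ' : K ≃+* K} {m m' : K}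
    (h : Acts γ M τ m) (h' : Acts γ' M' τ' m') : Acts (γ * γ') (M * M'.map τ) (τ'.trans τ) (m * τ m') where
  V g := by
    rw [MulAut.mul_apply, h.V, h'.V, ← Matrix.mulVec_mulVec]
    congr 1
    ext i
    simp only [Matrix.mulVec, dotProduct, map_sum, map_mul, Matrix.map_apply, RingEquiv.coe_trans, Function.comp_apply]
  Z g hg := by
    obtain ⟨h1, h2⟩ := h'.Z g hg
    obtain ⟨h3, h4⟩ := h.Z _ h1
    refine ⟨h3, ?_⟩
    rw [MulAut.mul_apply, h4, h2]
    simp only [map_mul, RingEquiv.coe_trans, Function.comp_apply]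
    ring

/-- `K`-linear, trivial on `Z₁` -/
theorem Acts.mul' {γ γ' : MulAut (Qa K)} {M M' : Matrix (Fin 4) (Fin 4) K} {m m' : K}
    (h : Acts γ M (RingEquiv.refl K) m) (h' : Acts γ' M' (RingEquiv.refl K) m') :
    Acts (γ * γ') (M * M') (RingEquiv.refl K) (m * m') := by
  have h1 := h.mul h'
  have e1 : M'.map (RingEquiv.refl K) = M' := by
    ext i j
    rfl
  have e2 : (RingEquiv.refl K).trans (RingEquiv.refl K) = RingEquiv.refl K := rfl
  rw [e1, e2] at h1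
  exact h1

theorem Acts.uniq_lin {γ : MulAut (Qa K)} {M M' : Matrix (Fin 4) (Fin 4) K} {m m' : K}
    (h : Acts γ M (RingEquiv.refl K) m) (h' : Acts γ M' (RingEquiv.refl K) m') : M = M' := by
  ext i j
  obtain ⟨g, hg⟩ := co_surj (K := K) (Pi.single j 1)
  have h1 := (h.V g).symm.trans (h'.V g)
  have h2 := congrFun h1 i
  rw [hg] at h2
  simpa only [Matrix.mulVec, dotProduct, Pi.single_apply, apply_ite, _root_.RingEquiv.refl_apply, _root_.mul_one, _root_.MulZeroClass.mul_zero, _root_.Finset.sum_ite_eq', _root_.Finset.mem_univ, ↓ _root_.reduceIte] using h2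

theorem Acts.uniq {γ : MulAut (Qa K)} {M M' : Matrix (Fin 4) (Fin 4) K} {τ τ' : K ≃+* K} {m m' : K}
    (h : Acts γ M τ m) (h' : Acts γ M' τ' m') (i₀ j₀ : Fin 4) (h0 : M i₀ j₀ ≠ 0) : M = M' ∧ τ = τ' := by
  have key : ∀ (c : K) (i j : Fin 4), M i j * τ c = M' i j * τ' c := by
    intro c i j
    obtain ⟨g, hg⟩ := co_surj (K := K) (Pi.single j c)
    have h1 := (h.V g).symm.trans (h'.V g)
    have h2 := congrFun h1 i
    rw [hg] at h2
    have h3 : ∀ (σ : K ≃+* K) (N : Matrix (Fin 4) (Fin 4) K),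
        N.mulVec (fun k => σ ((Pi.single j c : Fin 4 → K) k)) i = N i j * σ c := by
      intro σ N
      have : (fun k => σ ((Pi.single j c : Fin 4 → K) k)) = Pi.single j (σ c) := by
        ext k
        by_cases hk : k = j
        · subst hk
          simp
        · simp [Pi.single_eq_of_ne hk]
      rw [this]
      simp
    rw [h3, h3] at h2
    exact h2
  have hM : M = M' := by
    ext i j
    have := key 1 i j
    simpa using this
  refine ⟨hM, ?_⟩
  ext c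
  have := key c i₀ j₀
  rw [← hM] at this
  exact mul_left_cancel₀ h0 this

/-- inverses of linear elements -/
theorem Acts.inv {γ : MulAut (Qa K)} {M M' : Matrix (Fin 4) (Fin 4) K} {τ τ' : K ≃+* K} {m m' : K}
    (h : Acts γ M τ m) (h' : Acts γ⁻¹ M' τ' m') : M * M'.map τ = 1 ∧ τ'.trans τ = RingEquiv.refl K := by
  have h1 := h.mul h'
  rw [mul_inv_cancel] at h1
  obtain ⟨h2, h3⟩ := Acts.one.uniq h1 0 0 (by simp)
  exact ⟨h2.symm, h3.symm⟩

/-- the action of `Aut_S(Q_a)` -/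
theorem acts_conj {x : GU K} {α : MulAut (Qa K)} (hα : IsC x α) : Acts α (Xm x.a) (RingEquiv.refl K) 1 where
  V g := by
    have hg : (g : GU K).a = 0 := g.2
    rw [hα g]
    ext i
    fin_cases i
    · simp only [co, Xm, Matrix.mulVec, dotProduct, Fin.sum_univ_four, _root_.Cfsg.Agent.H779.G2.GU.mul_b, _root_.Cfsg.Agent.H779.G2.GU.inv_b, _root_.add_neg_cancel_comm, _root_.Cfsg.Agent.H779.G2.GU.mul_c, _root_.Cfsg.Agent.H779.G2.GU.inv_c, _root_.Cfsg.Agent.H779.G2.GU.inv_a, _root_.mul_neg, _root_.Cfsg.Agent.H779.G2.GU.mul_d, _root_.Cfsg.Agent.H779.G2.GU.inv_d, _root_.even_two, _root_.Even.neg_pow, _root_.Cfsg.Agent.H779.G2.GU.mul_e, _root_.Cfsg.Agent.H779.G2.GU.inv_e, _root_.Fin.zero_eta, _root_.Fin.isValue, _root_.Matrix.cons_val_zero, _root_.neg_mul, _root_.Matrix.of_apply, _root_.Matrix.cons_val', _root_.Matrix.cons_val_fin_one, _root_.RingEquiv.refl_apply, _root_.one_mul, _root_.Matrix.cons_val_one, _root_.MulZeroClass.zero_mul,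 _root_.add_zero, _root_.Matrix.cons_val]
    · simp only [co, Xm, Matrix.mulVec, dotProduct, Fin.sum_univ_four, hg, _root_.Cfsg.Agent.H779.G2.GU.mul_b, _root_.Cfsg.Agent.H779.G2.GU.inv_b, _root_.add_neg_cancel_comm, _root_.Cfsg.Agent.H779.G2.GU.mul_c, _root_.MulZeroClass.mul_zero, _root_.add_zero, _root_.Cfsg.Agent.H779.G2.GU.inv_c, _root_.Cfsg.Agent.H779.G2.GU.inv_a, _root_.mul_neg, _root_.Cfsg.Agent.H779.G2.GU.mul_d, _root_.ne_eq, _root_.OfNat.ofNat_ne_zero, _root_.not_false_eq_true, _root_.zero_pow, _root_.Cfsg.Agent.H779.G2.GU.inv_d, _root_.even_two, _root_.Even.neg_pow, _root_.Cfsg.Agent.H779.G2.GU.mul_e, _root_.Cfsg.Agent.H779.G2.GU.inv_e, _root_.Fin.mk_one, _root_.Fin.isValue, _root_.Matrix.cons_val_one, _root_.Matrix.cons_val_zero, _root_.neg_mul, _root_.Matrix.of_apply, _root_.Matrix.cons_val', _root_.Matrix.cons_val_fin_one, _root_.RingEquiv.refl_apply, _root_.one_mul, _root_.Matrix.cons_val, _root_.MulZeroClass.zero_mul]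
      ring
    · simp only [co, Xm, Matrix.mulVec, dotProduct, Fin.sum_univ_four, hg, _root_.Cfsg.Agent.H779.G2.GU.mul_b, _root_.Cfsg.Agent.H779.G2.GU.inv_b, _root_.add_neg_cancel_comm, _root_.Cfsg.Agent.H779.G2.GU.mul_c, _root_.MulZeroClass.mul_zero, _root_.add_zero, _root_.Cfsg.Agent.H779.G2.GU.inv_c, _root_.Cfsg.Agent.H779.G2.GU.inv_a, _root_.mul_neg, _root_.Cfsg.Agent.H779.G2.GU.mul_d, _root_.ne_eq, _root_.OfNat.ofNat_ne_zero, _root_.not_false_eq_true, _root_.zero_pow, _root_.Cfsg.Agent.H779.G2.GU.inv_d, _root_.even_two, _root_.Even.neg_pow, _root_.Cfsg.Agent.H779.G2.GU.mul_e, _root_.Cfsg.Agent.H779.G2.GU.inv_e, _root_.Fin.reduceFinMk, _root_.Matrix.cons_val, _root_.neg_mul, _root_.Matrix.of_apply, _root_.Fin.isValue, _root_.Matrix.cons_val', _root_.Matrix.cons_val_fin_one, _root_.Matrix.cons_val_one, _root_.Matrix.cons_val_zero, _root_.RingEquiv.refl_apply, _root_.one_mul, _root_.MulZeroClass.zero_mul]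
      ring
    · simp only [co, Xm, Matrix.mulVec, dotProduct, Fin.sum_univ_four, hg, _root_.Cfsg.Agent.H779.G2.GU.mul_b, _root_.Cfsg.Agent.H779.G2.GU.inv_b, _root_.add_neg_cancel_comm, _root_.Cfsg.Agent.H779.G2.GU.mul_c, _root_.MulZeroClass.mul_zero, _root_.add_zero, _root_.Cfsg.Agent.H779.G2.GU.inv_c, _root_.Cfsg.Agent.H779.G2.GU.inv_a, _root_.mul_neg, _root_.Cfsg.Agent.H779.G2.GU.mul_d, _root_.ne_eq, _root_.OfNat.ofNat_ne_zero, _root_.not_false_eq_true, _root_.zero_pow, _root_.Cfsg.Agent.H779.G2.GU.inv_d, _root_.even_two, _root_.Even.neg_pow, _root_.Cfsg.Agent.H779.G2.GU.mul_e, _root_.Cfsg.Agent.H779.G2.GU.inv_e, _root_.Fin.reduceFinMk, _root_.Matrix.cons_val, _root_.neg_mul, _root_.Matrix.of_apply, _root_.Fin.isValue, _root_.Matrix.cons_val', _root_.Matrix.cons_val_fin_one, _root_.Matrix.cons_val_one, _root_.RingEquiv.refl_apply, _root_.Matrix.cons_val_zero, _root_.one_mul]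
      ring
  Z g hg := by
    obtain ⟨h1, h2, h3, h4, h5⟩ := hg
    rw [hα g]
    refine ⟨normal_Z1.conj_mem _ ⟨h1, h2, h3, h4, h5⟩ x, ?_⟩
    rw [cj_f, h1, h2, h3, h4, h5]
    simp

/-- the action of torus elements -/
theorem acts_tor {d : MulAut (GU K)} {s t : K} {τ : K ≃+* K} (hd : IsTor d s t τ) {γ : MulAut (Qa K)} (hγ : IsR d γ) :
    Acts γ (Matrix.diagonal ![t, s * t, s ^ 2 * t, s ^ 3 * t]) τ (s ^ 3 * t ^ 2) where
  V g := by
    rw [hγ g]
    ext i
    rw [Matrix.mulVec_diagonal]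
    fin_cases i
    · simp [co, hd.b]
    · simp [co, hd.c]
    · simp [co, hd.d]
    · simp [co, hd.e]
  Z g hg := by
    obtain ⟨h1, h2, h3, h4, h5⟩ := hg
    rw [hγ g]
    refine ⟨⟨?_, ?_, ?_, ?_, ?_⟩, hd.f _⟩
    · rw [hd.a, h1, map_zero, mul_zero]
    · rw [hd.b, h2, map_zero, mul_zero]
    · rw [hd.c, h3, map_zero, mul_zero]
    · rw [hd.d, h4, map_zero, mul_zero]
    · rw [hd.e, h5, map_zero, mul_zero]

/-- the commutator form -/
theorem comm_form (g h : Qa K) : ((g * h * g⁻¹ * h⁻¹ : Qa K) : GU K) ∈ Z1 K ∧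
    ((g * h * g⁻¹ * h⁻¹ : Qa K) : GU K).f = co (g : GU K) ⬝ᵥ (Om.mulVec (co (h : GU K))) := by
  have hg : (g : GU K).a = 0 := g.2
  have hh : (h : GU K).a = 0 := h.2
  refine ⟨com_Qa _ g.2 _ h.2, ?_⟩
  show ((g : GU K) * (h : GU K) * (g : GU K)⁻¹ * (h : GU K)⁻¹).f = _
  rw [cm_f, hg, hh]
  simp only [co, Om, Matrix.mulVec, dotProduct, Fin.sum_univ_four, _root_.MulZeroClass.mul_zero, _root_.MulZeroClass.zero_mul, _root_.ne_eq, _root_.OfNat.ofNat_ne_zero, _root_.not_false_eq_true, _root_.zero_pow, _root_.sub_self, _root_.add_zero, _root_.zero_add, _root_.sub_zero, _root_.Matrix.of_apply, _root_.Matrix.cons_val', _root_.Matrix.cons_val_fin_one, _root_.Fin.isValue, _root_.Matrix.cons_val_zero, _root_.Matrix.cons_val_one, _root_.Matrix.cons_val, _root_.one_mul, _root_.neg_mul, _root_.mul_neg]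
  ring

/-- `γ` multiplies the form by `m` -/
theorem Acts.form {γ : MulAut (Qa K)} {M : Matrix (Fin 4) (Fin 4) K} {τ : K ≃+* K} {m : K} (h : Acts γ M τ m) :
    M.transpose * Om * M = m • (Om : Matrix (Fin 4) (Fin 4) K) := by
  have key : ∀ v w : Fin 4 → K, (M.mulVec v) ⬝ᵥ (Om.mulVec (M.mulVec w)) = m * (v ⬝ᵥ (Om.mulVec w)) := by
    intro v w
    obtain ⟨g, hg⟩ := co_surj (K := K) (fun i => τ.symm (v i))
    obtain ⟨g', hg'⟩ := co_surj (K := K) (fun i => τ.symm (w i))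
    have h1 := comm_form g g'
    have h2 := comm_form (γ g) (γ g')
    have h3 := h.Z _ h1.1
    have e1 : γ (g * g' * g⁻¹ * g'⁻¹) = γ g * γ g' * (γ g)⁻¹ * (γ g')⁻¹ := by
      rw [map_mul, map_mul, map_mul, map_inv, map_inv]
    rw [e1, h2.2, h1.2, h.V, h.V, hg, hg'] at h3
    have e2 : (fun i => τ ((fun i => τ.symm (v i)) i)) = v := by
      ext i
      simp
    have e3 : (fun i => τ ((fun i => τ.symm (w i)) i)) = w := by
      ext i
      simp
    rw [e2, e3] at h3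
    have hτ3 : τ 3 = 3 := map_ofNat τ 3
    rw [h3.2]
    congr 1
    simp only [dotProduct, Matrix.mulVec, Fin.sum_univ_four, Om, hτ3, _root_.Matrix.of_apply, _root_.Matrix.cons_val', _root_.Matrix.cons_val_fin_one, _root_.Fin.isValue, _root_.Matrix.cons_val_zero, _root_.Matrix.cons_val_one, _root_.Matrix.cons_val, _root_.MulZeroClass.zero_mul, _root_.add_zero, _root_.one_mul, _root_.zero_add, _root_.neg_mul, _root_.mul_neg, _root_.map_add, _root_.map_mul, _root_.RingEquiv.apply_symm_apply, _root_.map_neg]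
  ext i j
  have h1 := key (Pi.single i 1) (Pi.single j 1)
  rw [← Matrix.vecMul_transpose, ← Matrix.dotProduct_mulVec, Matrix.mulVec_mulVec, Matrix.mulVec_mulVec] at h1
  simpa using h1

end Cfsg.Agent.H949.GT
end

-- part: H949/GT/Mat
section
/-!
# S5211, the short root parabolic (helper949): matrices
-/

set_option autoImplicit false

namespace Cfsg.Agent.H949.GT

open Cfsg.Agent.H779.G2 Matrix

universe u

variable {K : Type u} [Field K]

theorem dl_eq (g : Kˣ) (j : Fin 4) :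
    (![(g : K) ^ 2, (g : K), 1, (g : K)⁻¹] : Fin 4 → K) j = ((g ^ (2 - ((j : ℕ) : ℤ)) : Kˣ) : K) := by
  fin_cases j
  · simp [zpow_ofNat]
  · simp
  · simp
  · simp

theorem zpow_small {G : Type*} [Group G] {g : G} (hord : 7 ≤ orderOf g) {k : ℤ} (h : g ^ k = 1) (h1 : -7 < k) (h2 : k < 7) :
    k = 0 := by
  have h3 : (orderOf g : ℤ) ∣ k := orderOf_dvd_iff_zpow_eq_one.2 h
  by_contra hk
  have h4 := Int.le_of_dvd (abs_pos.2 hk) ((dvd_abs _ _).2 h3)
  have h5 : |k| < 7 := abs_lt.2 ⟨h1, h2⟩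
  omega

/-- a matrix conjugating a geometric progression of large order into a geometric progression -/
theorem mono {g : Kˣ} (hord : 7 ≤ orderOf g) {W : Matrix (Fin 4) (Fin 4) K} (hW : IsUnit W) {a s : K} (h : W * diagonal ![(g : K) ^ 2, (g : K), 1, (g : K)⁻¹] =
      diagonal ![a, s * a, s ^ 2 * a, s ^ 3 * a] * W) :
    (∀ i j, i ≠ j → W i j = 0) ∨ (∀ i j : Fin 4, (i : ℕ) + (j : ℕ) ≠ 3 → W i j = 0) := by
  have hdet : W.det ≠ 0 := by
    have := (Matrix.isUnit_iff_isUnit_det W).1 hW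
    exact this.ne_zero
  -- entries
  have hent : ∀ i j, W i j ≠ 0 → ((g ^ (2 - ((j : ℕ) : ℤ)) : Kˣ) : K) = s ^ (i : ℕ) * a := by
    intro i j hij
    have h1 := congrFun (congrFun h i) j
    rw [Matrix.mul_diagonal, Matrix.diagonal_mul, dl_eq, mul_comm] at h1
    have h2 := mul_right_cancel₀ hij h1
    rw [h2]
    fin_cases i <;> simp
  have hrow : ∀ i, ∃ j, W i j ≠ 0 := by
    intro i
    by_contra hcon
    push Not at hcon
    exact hdet (Matrix.det_eq_zero_of_row_eq_zero i hcon)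
  choose j hj using hrow
  have huniq : ∀ i j', W i j' ≠ 0 → j' = j i := by
    intro i j' hj'
    have h1 := (hent i j' hj').trans (hent i (j i) (hj i)).symm
    have h2 : g ^ (2 - ((j' : ℕ) : ℤ)) = g ^ (2 - ((j i : ℕ) : ℤ)) := Units.ext h1
    have h3 : g ^ ((2 - ((j' : ℕ) : ℤ)) - (2 - ((j i : ℕ) : ℤ))) = 1 := by
      rw [_root_.zpow_sub, h2, mul_inv_cancel]
    have h4 := zpow_small hord h3 (by omega) (by omega)
    ext
    omega
  have hap : ∀ i₀ i₁ i₂ : Fin 4, (i₀ : ℕ) + (i₂ : ℕ) = 2 * (i₁ : ℕ) →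
      ((j i₀ : ℕ) : ℤ) + ((j i₂ : ℕ) : ℤ) = 2 * ((j i₁ : ℕ) : ℤ) := by
    intro i₀ i₁ i₂ hi
    have h0 := hent i₀ _ (hj i₀)
    have h1 := hent i₁ _ (hj i₁)
    have h2 := hent i₂ _ (hj i₂)
    have h3 : ((g ^ (2 - ((j i₀ : ℕ) : ℤ)) * g ^ (2 - ((j i₂ : ℕ) : ℤ)) : Kˣ) : K) =
        ((g ^ (2 - ((j i₁ : ℕ) : ℤ)) * g ^ (2 - ((j i₁ : ℕ) : ℤ)) : Kˣ) : K) := by
      rw [Units.val_mul, Units.val_mul, h0, h1, h2]
      have : s ^ (i₀ : ℕ) * a * (s ^ (i₂ : ℕ) * a) = s ^ ((i₀ : ℕ) + (i₂ : ℕ)) * a ^ 2 := by ring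
      rw [this, hi]
      ring
    have h4 := Units.ext h3
    rw [← _root_.zpow_add, ← _root_.zpow_add] at h4
    have h5 : g ^ ((2 - ((j i₀ : ℕ) : ℤ) + (2 - ((j i₂ : ℕ) : ℤ))) - (2 - ((j i₁ : ℕ) : ℤ) + (2 - ((j i₁ : ℕ) : ℤ)))) = 1 := by
      rw [_root_.zpow_sub, h4, mul_inv_cancel]
    have h6 := zpow_small hord h5 (by omega) (by omega)
    omega
  have e1 := hap 0 1 2 rfl
  have e2 := hap 1 2 3 rfl
  have hz : ∀ i j', j' ≠ j i → W i j' = 0 := fun i j' hne => by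
    by_contra hcon
    exact hne (huniq i j' hcon)
  have hcases : ((j 0 : ℕ) = j 1 ∧ (j 1 : ℕ) = j 2 ∧ (j 2 : ℕ) = j 3) ∨
      ((j 0 : ℕ) = 0 ∧ (j 1 : ℕ) = 1 ∧ (j 2 : ℕ) = 2 ∧ (j 3 : ℕ) = 3) ∨
      ((j 0 : ℕ) = 3 ∧ (j 1 : ℕ) = 2 ∧ (j 2 : ℕ) = 1 ∧ (j 3 : ℕ) = 0) := by
    have b0 := (j 0).2
    have b1 := (j 1).2
    have b2 := (j 2).2
    have b3 := (j 3).2
    omega
  rcases hcases with ⟨h0, h1, h2⟩ | ⟨h0, h1, h2, h3⟩ | ⟨h0, h1, h2, h3⟩
  · exfalso
    obtain ⟨c, hc⟩ : ∃ c : Fin 4, c ≠ j 0 := exists_ne _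
    refine hdet (Matrix.det_eq_zero_of_column_eq_zero c fun i => hz i c ?_)
    have : j i = j 0 := by
      ext
      fin_cases i
      · rfl
      · exact h0.symm
      · exact (h0.trans h1).symm
      · exact (h0.trans (h1.trans h2)).symm
    rw [this]
    exact hc
  · left
    intro i j' hij
    refine hz i j' fun h4 => hij ?_
    rw [h4]
    ext
    fin_cases i
    · exact h0.symm
    · exact h1.symm
    · exact h2.symm
    · exact h3.symm
  · right
    intro i j' hij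
    refine hz i j' fun h4 => hij ?_
    rw [h4]
    fin_cases i
    · show 0 + (j 0 : ℕ) = 3
      omega
    · show 1 + (j 1 : ℕ) = 3
      (clear * - h1; omega)
    · show 2 + (j 2 : ℕ) = 3
      omega
    · show 3 + (j 3 : ℕ) = 3
      omega

/-- the standard Weyl matrix -/
def Wm : Matrix (Fin 4) (Fin 4) K := !![0, 0, 0, 1; 0, 0, -1, 0; 0, 1, 0, 0; -1, 0, 0, 0]

/-- the antidiagonal matrix -/
def ad (x y z t : K) : Matrix (Fin 4) (Fin 4) K := !![0, 0, 0, x; 0, 0, y, 0; 0, z, 0, 0; t, 0, 0, 0]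

theorem Wm_eq : (Wm : Matrix (Fin 4) (Fin 4) K) = ad 1 (-1) 1 (-1) := rfl

/-- an antidiagonal matrix -/
theorem eq_ad {W : Matrix (Fin 4) (Fin 4) K} (h : ∀ i j : Fin 4, (i : ℕ) + (j : ℕ) ≠ 3 → W i j = 0) :
    W = ad (W 0 3) (W 1 2) (W 2 1) (W 3 0) := by
  ext i j
  fin_cases i <;> fin_cases j
  all_goals first
    | exact h _ _ (by decide)
    | rfl

theorem ad_mul_inv {x y z t : K} (hx : x ≠ 0) (hy : y ≠ 0) (hz : z ≠ 0) (ht : t ≠ 0) :
    ad x y z t * ad t⁻¹ z⁻¹ y⁻¹ x⁻¹ = 1 := by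
  ext i j
  (revert i j; simp only [ad, Matrix.mul_apply, Fin.sum_univ_four, hx, hy, hz, ht, _root_.Fin.forall_fin_succ, _root_.Matrix.of_apply, _root_.Matrix.cons_val', _root_.Matrix.cons_val_fin_one, Fin.isValue, _root_.Matrix.cons_val_zero, _root_.Matrix.cons_val_one, _root_.Matrix.cons_val, _root_.MulZeroClass.mul_zero, _root_.add_zero, _root_.zero_add, _root_.Matrix.cons_val_succ, _root_.IsEmpty.forall_iff, _root_.and_true, _root_.ne_eq, _root_.not_false_eq_true, _root_.mul_inv_cancel₀, _root_.Matrix.one_apply_eq, _root_.MulZeroClass.zero_mul, Nat.reduceAdd, _root_.Fin.succ_zero_eq_one, _root_.zero_ne_one, _root_.Matrix.one_apply_ne, _root_.Fin.succ_one_eq_two, Fin.reduceEq, Fin.reduceSucc, _root_.and_self, _root_.Fin.succ_ne_zero, _root_.mul_eq_zero, _root_.inv_eq_zero, _root_.or_false, _root_.true_and])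

/-- `diag(t², t, 1, t⁻¹)` -/
def dl (t : K) : Matrix (Fin 4) (Fin 4) K := diagonal ![t ^ 2, t, 1, t⁻¹]

theorem dl_mul_inv {t : K} (ht : t ≠ 0) : dl t * dl t⁻¹ = 1 := by
  rw [dl, dl, Matrix.diagonal_mul_diagonal, ← Matrix.diagonal_one]
  congr 1
  ext i
  fin_cases i
  · simp [ht]
  · simp [ht]
  · simp
  · simp [ht]

theorem dl_ad {t' : K} (ht' : t' ≠ 0) (x y z t : K) :
    dl t' * ad x y z t * dl t'⁻¹ = ad (t' ^ 3 * x) (t' * y) (t'⁻¹ * z) (t'⁻¹ ^ 3 * t) := by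
  ext i j
  (revert i j; simp only [dl, ad, Matrix.mul_apply, Matrix.diagonal_apply, _root_.Fin.forall_fin_succ, _root_.inv_pow, _root_.inv_inv, _root_.Matrix.of_apply, _root_.Matrix.cons_val', _root_.Matrix.cons_val_fin_one, _root_.ite_mul, _root_.MulZeroClass.zero_mul, _root_.Finset.sum_ite_eq, _root_.Finset.mem_univ, ↓reduceIte, _root_.mul_ite, _root_.MulZeroClass.mul_zero, _root_.Finset.sum_ite_eq', Fin.isValue, _root_.Matrix.cons_val_zero, _root_.Matrix.cons_val_succ, _root_.mul_one, _root_.forall_const, _root_.one_mul, _root_.and_true, _root_.true_and]) <;> (repeat' with_reducible apply And.intro)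
  all_goals first
    | done
    | (field_simp)

theorem dl_Wm {u : K} (hu : u ≠ 0) :
    dl u * (ad 1 (-1) 1 (-1) * dl u⁻¹ * ad (-1) 1 (-1) 1) = diagonal ![u ^ 3, u, u⁻¹, u⁻¹ ^ 3] := by
  have h : dl u * (ad 1 (-1) 1 (-1) * dl u⁻¹ * ad (-1) 1 (-1) 1) =
      (dl u * ad 1 (-1) 1 (-1) * dl u⁻¹) * ad (-1) 1 (-1) 1 := by
    simp only [Matrix.mul_assoc]
  rw [h, dl_ad hu]
  ext i j
  (revert i j; simp only [ad, Matrix.mul_apply, Fin.sum_univ_four, _root_.Fin.forall_fin_succ, _root_.mul_one, _root_.mul_neg, _root_.inv_pow, _root_.Matrix.of_apply, _root_.Matrix.cons_val', _root_.Matrix.cons_val_fin_one, Fin.isValue, _root_.Matrix.cons_val_zero, _root_.Matrix.cons_val_one, _root_.Matrix.cons_val, _root_.Nat.succ_eq_add_one, Nat.reduceAdd, _root_.MulZeroClass.mul_zero, _root_.add_zero, _root_.zero_add, _root_.Matrix.cons_val_succ, _root_.Fin.succ_zero_eq_one, _root_.Fin.succ_one_eq_two, Fin.reduceSucc, _root_.IsEmpty.forall_iff,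 _root_.and_true, _root_.Matrix.diagonal_apply_eq, _root_.neg_zero, _root_.ne_eq, _root_.zero_ne_one, _root_.not_false_eq_true, _root_.Matrix.diagonal_apply_ne, Fin.reduceEq, _root_.and_self, _root_.Fin.succ_ne_zero, _root_.neg_neg, _root_.true_and])

/-- the isometry condition -/
theorem ad_form {x y z t : K} (h3 : (3 : K) ≠ 0) (h : (ad x y z t).transpose * Om * ad x y z t = Om) :
    t * x = -1 ∧ z * y = -1 := by
  constructor
  · have h1 := congrFun (congrFun h 0) 3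
    simp [ad, Om, Matrix.mul_apply, Fin.sum_univ_four] at h1
    linear_combination -h1
  · have h1 := congrFun (congrFun h 1) 2
    simp only [ad, Om, Matrix.mul_apply, Fin.sum_univ_four, _root_.Fin.isValue, _root_.Matrix.transpose_apply, _root_.Matrix.of_apply, _root_.Matrix.cons_val', _root_.Matrix.cons_val_one, _root_.Matrix.cons_val_zero, _root_.Matrix.cons_val_fin_one, _root_.MulZeroClass.zero_mul, _root_.add_zero, _root_.Matrix.cons_val, _root_.zero_add, _root_.MulZeroClass.mul_zero] at h1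
    have h2 : 3 * (z * y + 1) = 0 := by linear_combination h1
    have h4 := (mul_eq_zero.1 h2).resolve_left h3
    linear_combination h4

theorem form_ad {x y z t : K} (h1 : t * x = -1) (h2 : z * y = -1) :
    (ad x y z t).transpose * Om * ad x y z t = Om := by
  ext i j
  (revert i j; simp only [ad, Om, Matrix.mul_apply, Fin.sum_univ_four, _root_.Fin.forall_fin_succ, _root_.Matrix.transpose_apply, _root_.Matrix.of_apply, _root_.Matrix.cons_val', _root_.Matrix.cons_val_fin_one, Fin.isValue, _root_.Matrix.cons_val_zero, _root_.Matrix.cons_val_one, _root_.Matrix.cons_val, _root_.MulZeroClass.mul_zero, _root_.add_zero, _root_.mul_neg, _root_.mul_one, _root_.zero_add, _root_.neg_mul, _root_.neg_zero, _root_.Matrix.cons_val_succ, _root_.forall_const, _root_.MulZeroClass.zero_mul, _root_.and_true, _root_.true_and]) <;> (repeat' with_reducible apply And.intro)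
  · linear_combination -h1
  · linear_combination 3 * h2
  · linear_combination (-3) * h2
  · linear_combination h1

theorem Xm_inj {a b : K} (h : (Xm a : Matrix (Fin 4) (Fin 4) K) = Xm b) : a = b := by
  have h1 := congrFun (congrFun h 1) 0
  simpa [Xm] using h1

theorem Xm_zero : (Xm 0 : Matrix (Fin 4) (Fin 4) K) = 1 := by
  ext i j
  (revert i j; simp only [Xm, _root_.Fin.forall_fin_succ, _root_.neg_zero, _root_.ne_eq, _root_.OfNat.ofNat_ne_zero, _root_.not_false_eq_true, _root_.zero_pow, _root_.MulZeroClass.mul_zero, _root_.Matrix.of_apply, _root_.Matrix.cons_val', _root_.Matrix.cons_val_fin_one, Fin.isValue, _root_.Matrix.cons_val_zero, _root_.Matrix.cons_val_succ, _root_.IsEmpty.forall_iff, _root_.and_true, _root_.Matrix.one_apply_eq, Nat.reduceAdd, _root_.Fin.succ_zero_eq_one, _root_.zero_ne_one, _root_.Matrix.one_apply_ne, _root_.Fin.succ_one_eq_two, Fin.reduceEq, Fin.reduceSucc, _root_.and_self, _root_.Fin.succ_ne_zero,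 _root_.true_and])

end Cfsg.Agent.H949.GT
end

-- part: H949/GT/Rank
section
/-!
# Rank one property of a Sylow subgroup (S5211, helper949)

`R1 T` : `T` is transitive on its other conjugates, and for every other conjugate `T'` some `x y x`, `x ∈ T`, `y ∈ T'`, swaps
`T` and `T'`.
-/

set_option autoImplicit false

namespace Cfsg.Agent.H949.GT

open Cfsg.Agent.EvenType

/-- the rank one property -/
structure R1 {G : Type*} [Group G] (T : Subgroup G) : Prop where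
  trans : ∀ a b : G, a ∉ Subgroup.normalizer (T : Set G) → b ∉ Subgroup.normalizer (T : Set G) →
    ∃ x ∈ T, b⁻¹ * x * a ∈ Subgroup.normalizer (T : Set G)
  weyl : ∀ a : G, a ∉ Subgroup.normalizer (T : Set G) → ∃ x ∈ T, ∃ y ∈ T,
    a⁻¹ * (x * (a * y * a⁻¹) * x) ∈ Subgroup.normalizer (T : Set G) ∧
      x * (a * y * a⁻¹) * x * a ∈ Subgroup.normalizer (T : Set G)

theorem R1.of_sylow {G : Type*} [Group G] {p : ℕ} [Fact p.Prime] (P : Sylow p G)
    (h1 : ∀ P' P'' : Sylow p G, P' ≠ P → P'' ≠ P → ∃ x ∈ (P : Subgroup G),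
      (P' : Subgroup G).map (MulAut.conj x).toMonoidHom = P'')
    (h2 : ∀ P' : Sylow p G, P' ≠ P → ∃ x y : G, x ∈ (P : Subgroup G) ∧ x ≠ 1 ∧ y ∈ (P' : Subgroup G) ∧
      (P : Subgroup G).map (MulAut.conj (x * y * x)).toMonoidHom = P' ∧
      (P' : Subgroup G).map (MulAut.conj (x * y * x)).toMonoidHom = P) : R1 (P : Subgroup G) := by
  have hsm : ∀ a : G, ((a • P : Sylow p G) : Subgroup G) = (P : Subgroup G).map (MulAut.conj a).toMonoidHom := by
    intro a
    rw [Sylow.coe_subgroup_smul]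
    rfl
  have hne : ∀ a : G, a ∉ Subgroup.normalizer ((P : Subgroup G) : Set G) → a • P ≠ P := by
    intro a ha h
    apply ha
    rw [StrongP.mem_norm, ← hsm, h]
  refine ⟨fun a b ha hb => ?_, fun a ha => ?_⟩
  · obtain ⟨x, hx, h⟩ := h1 (a • P) (b • P) (hne a ha) (hne b hb)
    refine ⟨x, hx, ?_⟩
    rw [StrongP.mem_norm, StrongP.map_conj_mul, StrongP.map_conj_mul, ← hsm, h, hsm, ← StrongP.map_conj_mul,
      inv_mul_cancel, StrongP.map_conj_one]
  · obtain ⟨x, y, hx, -, hy, h3, h4⟩ := h2 (a • P) (hne a ha)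
    rw [hsm, StrongP.mem_map_conj] at hy
    have e : a * (a⁻¹ * y * a) * a⁻¹ = y := by group
    refine ⟨x, hx, a⁻¹ * y * a, hy, ?_, ?_⟩
    · rw [e, StrongP.mem_norm, StrongP.map_conj_mul, h3, hsm, ← StrongP.map_conj_mul, inv_mul_cancel,
        StrongP.map_conj_one]
    · rw [e, StrongP.mem_norm, StrongP.map_conj_mul, ← hsm, h4]

theorem mem_norm_comap {A B : Type*} [Group A] [Group B] (f : A →* B) (hf : Function.Surjective f) (T : Subgroup B)
    (a : A) : a ∈ Subgroup.normalizer ((T.comap f : Subgroup A) : Set A) ↔ f a ∈ Subgroup.normalizer (T : Set B) := by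
  rw [Subgroup.mem_normalizer_iff, Subgroup.mem_normalizer_iff]
  constructor
  · intro h y
    obtain ⟨x, rfl⟩ := hf y
    have := h x
    rwa [Subgroup.mem_comap, Subgroup.mem_comap, map_mul, map_mul, map_inv] at this
  · intro h x
    rw [Subgroup.mem_comap, Subgroup.mem_comap, map_mul, map_mul, map_inv]
    exact h (f x)

theorem R1.comap {A B : Type*} [Group A] [Group B] (f : A →* B) (hf : Function.Surjective f) {T : Subgroup B}
    (h : R1 T) : R1 (T.comap f) := by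
  refine ⟨fun a b ha hb => ?_, fun a ha => ?_⟩
  · rw [mem_norm_comap f hf] at ha hb
    obtain ⟨x, hx, h1⟩ := h.trans _ _ ha hb
    obtain ⟨x, rfl⟩ := hf x
    refine ⟨x, hx, ?_⟩
    rw [mem_norm_comap f hf, map_mul, map_mul, map_inv]
    exact h1
  · rw [mem_norm_comap f hf] at ha
    obtain ⟨x, hx, y, hy, h1, h2⟩ := h.weyl _ ha
    obtain ⟨x, rfl⟩ := hf x
    obtain ⟨y, rfl⟩ := hf y
    refine ⟨x, hx, y, hy, ?_, ?_⟩
    · rw [mem_norm_comap f hf]
      simpa only [map_mul, map_inv] using h1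
    · rw [mem_norm_comap f hf]
      simpa only [map_mul, map_inv] using h2

/-- from a normal subgroup to the whole group (Frattini) -/
theorem R1.extend {G : Type*} [Group G] [Finite G] {p : ℕ} [Fact p.Prime] (A : Subgroup G)
    (hA : ∀ g : G, ∀ x ∈ A, g * x * g⁻¹ ∈ A) (T : Sylow p G) (hTA : (T : Subgroup G) ≤ A)
    (h : R1 ((T : Subgroup G).subgroupOf A)) : R1 (T : Subgroup G) := by
  -- Frattini
  have hfr : ∀ g : G, ∃ a : A, ∃ n ∈ Subgroup.normalizer ((T : Subgroup G) : Set G), g = a * n := by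
    intro g
    have hsm : ((g • T : Sylow p G) : Subgroup G) = (T : Subgroup G).map (MulAut.conj g).toMonoidHom := by
      rw [Sylow.coe_subgroup_smul]
      rfl
    have h2 : ((g • T : Sylow p G) : Subgroup G) ≤ A := by
      rw [hsm]
      rintro _ ⟨x, hx, rfl⟩
      exact hA g x (hTA hx)
    obtain ⟨b, hb, hT⟩ := StrongP.sylow_conj_in (Y := A) T (g • T) hTA h2
    refine ⟨⟨b, hb⟩, b⁻¹ * g, ?_, by group⟩
    rw [StrongP.mem_norm, StrongP.map_conj_mul, ← hsm, ← hT, ← StrongP.map_conj_mul, inv_mul_cancel,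
      StrongP.map_conj_one]
  have hmem : ∀ a : A, a ∈ Subgroup.normalizer (((T : Subgroup G).subgroupOf A : Subgroup A) : Set A) ↔
      (a : G) ∈ Subgroup.normalizer ((T : Subgroup G) : Set G) := by
    intro a
    rw [Subgroup.mem_normalizer_iff, Subgroup.mem_normalizer_iff]
    constructor
    · intro h1 x
      constructor
      · intro hx
        exact (h1 ⟨x, hTA hx⟩).1 hx
      · intro hx
        have h2 : x ∈ A := by
          have := A.mul_mem (A.mul_mem (A.inv_mem a.2) (hTA hx)) a.2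
          have e : (a : G)⁻¹ * (a * x * (a : G)⁻¹) * a = x := by group
          rwa [e] at this
        exact (h1 ⟨x, h2⟩).2 hx
    · intro h1 x
      exact h1 x
  refine ⟨fun g g' hg hg' => ?_, fun g hg => ?_⟩
  · obtain ⟨a, n, hn, rfl⟩ := hfr g
    obtain ⟨b, m, hm, rfl⟩ := hfr g'
    have ha : a ∉ Subgroup.normalizer (((T : Subgroup G).subgroupOf A : Subgroup A) : Set A) := fun h1 =>
      hg (Subgroup.mul_mem _ ((hmem a).1 h1) hn)
    have hb : b ∉ Subgroup.normalizer (((T : Subgroup G).subgroupOf A : Subgroup A) : Set A) := fun h1 =>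
      hg' (Subgroup.mul_mem _ ((hmem b).1 h1) hm)
    obtain ⟨x, hx, h1⟩ := h.trans a b ha hb
    refine ⟨x, hx, ?_⟩
    have h2 := (hmem _).1 h1
    have e : ((b : G) * m)⁻¹ * x * (a * n) = m⁻¹ * ((b⁻¹ * x * a : A) : G) * n := by
      simp only [Subgroup.coe_mul, Subgroup.coe_inv]
      group
    rw [e]
    exact Subgroup.mul_mem _ (Subgroup.mul_mem _ (Subgroup.inv_mem _ hm) h2) hn
  · obtain ⟨a, n, hn, rfl⟩ := hfr g
    have ha : a ∉ Subgroup.normalizer (((T : Subgroup G).subgroupOf A : Subgroup A) : Set A) := fun h1 =>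
      hg (Subgroup.mul_mem _ ((hmem a).1 h1) hn)
    obtain ⟨x, hx, y, hy, h1, h2⟩ := h.weyl a ha
    have hy' : n⁻¹ * (y : G) * n ∈ (T : Subgroup G) := by
      have h3 := Subgroup.inv_mem _ hn
      have := (Subgroup.mem_normalizer_iff.1 h3 (y : G)).1 hy
      rwa [inv_inv] at this
    refine ⟨x, hx, n⁻¹ * y * n, hy', ?_, ?_⟩
    · have e : ((a : G) * n)⁻¹ * (x * (a * n * (n⁻¹ * y * n) * ((a : G) * n)⁻¹) * x) =
          n⁻¹ * ((a⁻¹ * (x * (a * y * a⁻¹) * x) : A) : G) := by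
        simp only [Subgroup.coe_mul, Subgroup.coe_inv]
        group
      rw [e]
      exact Subgroup.mul_mem _ (Subgroup.inv_mem _ hn) ((hmem _).1 h1)
    · have e : (x : G) * (a * n * (n⁻¹ * y * n) * ((a : G) * n)⁻¹) * x * (a * n) =
          ((x * (a * y * a⁻¹) * x * a : A) : G) * n := by
        simp only [Subgroup.coe_mul, Subgroup.coe_inv]
        group
      rw [e]
      exact Subgroup.mul_mem _ ((hmem _).1 h2) hn

end Cfsg.Agent.H949.GT
end

-- part: H302/PU/InvSyl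
section
/-!
# A `D`-invariant Sylow subgroup opposite to `P` (S5258, rank one parts)
-/

set_option autoImplicit false

namespace Cfsg.Agent.H302.PU

/-- If `P` is transitive on the other Sylow `p`-subgroups, a `p'`-group `D` normalizing `P` normalizes another one. -/
theorem exists_inv_sylow {G : Type*} [Group G] [Finite G] {p : ℕ} [Fact p.Prime] (P : Sylow p G) (D : Subgroup G)
    (hD : D ≤ Subgroup.normalizer ((P : Subgroup G) : Set G)) (hDp : (Nat.card D).Coprime p)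
    (h1 : ∀ P' P'' : Sylow p G, P' ≠ P → P'' ≠ P → ∃ x ∈ (P : Subgroup G),
      (P' : Subgroup G).map (MulAut.conj x).toMonoidHom = P'')
    (hn : ¬ (P : Subgroup G).Normal) :
    ∃ P' : Sylow p G, P' ≠ P ∧ D ≤ Subgroup.normalizer ((P' : Subgroup G) : Set G) := by
  -- another Sylow subgroup
  obtain ⟨P', hP'⟩ : ∃ P' : Sylow p G, P' ≠ P := by
    by_contra hcon
    push Not at hcon
    apply hn
    have h2 : Subsingleton (Sylow p G) := ⟨fun a b => (hcon a).trans (hcon b).symm⟩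
    exact P.normal_of_subsingleton
  have hne : ∀ d ∈ Subgroup.normalizer ((P : Subgroup G) : Set G), d • P' ≠ P := by
    intro d hd h2
    apply hP'
    have h3 : d • P = P := Sylow.smul_eq_iff_mem_normalizer.2 hd
    exact (MulAction.injective d) (h2.trans h3.symm)
  have hsolv : Group.IsSolvable (P : Subgroup G) := by
    have := (P.isPGroup' : IsPGroup p (P : Subgroup G)).isNilpotent
    infer_instance
  obtain ⟨n, hn'⟩ := IsPGroup.iff_card.1 P.isPGroup'
  obtain ⟨k, hk, hfix⟩ := Cfsg.Agent.Solvable.Glauberman.exists_smul_fixed D (P : Subgroup G) hD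
    (by rw [hn']; exact hDp.pow_right n) (Or.inr hsolv) (X := Sylow p G) P' (by
      intro a ha
      obtain ⟨x, hx, hx2⟩ := h1 P' (a • P') hP' (hne a (hD ha))
      refine ⟨x, hx, ?_⟩
      symm
      apply Sylow.ext
      rw [← hx2]
      rfl)
  refine ⟨k • P', hne k (Subgroup.le_normalizer hk), fun d hd => ?_⟩
  exact Sylow.smul_eq_iff_mem_normalizer.1 (hfix d hd)

end Cfsg.Agent.H302.PU
end

-- part: H949/GT/ParT
section
/-!
# S5211, the short root parabolic (helper949): tools for `Par p (Q_a) Γ D`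
-/

set_option autoImplicit false

namespace Cfsg.Agent.H949.GT

open Cfsg Cfsg.FusionSystem Cfsg.Agent.H756.PU Cfsg.Agent.H779.G2 Cfsg.Agent.H103.GT Cfsg.Agent.H802 Matrix

universe u

variable {K : Type u} [Field K] {p n : ℕ}

theorem Acts.isUnit {γ : MulAut (Qa K)} {M : Matrix (Fin 4) (Fin 4) K} {τ : K ≃+* K} {m : K} (h : Acts γ M τ m) :
    IsUnit M := by
  rw [← Matrix.mulVec_surjective_iff_isUnit]
  intro v
  obtain ⟨g, hg⟩ := co_surj (K := K) v
  refine ⟨fun i => τ (co ((γ⁻¹ g : Qa K) : GU K) i), ?_⟩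
  rw [← h.V, MulAut.apply_inv_self, hg]

theorem Acts.lin_inv {γ : MulAut (Qa K)} {M : Matrix (Fin 4) (Fin 4) K} {m : K} (h : Acts γ M (RingEquiv.refl K) m)
    (hm : m ≠ 0) : Acts γ⁻¹ M⁻¹ (RingEquiv.refl K) m⁻¹ := by
  have hu : IsUnit M.det := (Matrix.isUnit_iff_isUnit_det M).1 h.isUnit
  have hV : ∀ g : Qa K, co ((γ⁻¹ g : Qa K) : GU K) = M⁻¹.mulVec (co (g : GU K)) := by
    intro g
    have h1 := h.V (γ⁻¹ g)
    rw [MulAut.apply_inv_self] at h1
    rw [h1]
    show _ = M⁻¹.mulVec (M.mulVec (co ((γ⁻¹ g : Qa K) : GU K)))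
    rw [Matrix.mulVec_mulVec, Matrix.nonsing_inv_mul _ hu, Matrix.one_mulVec]
  refine ⟨hV, fun g hg => ?_⟩
  have h1 : ((γ⁻¹ g : Qa K) : GU K) ∈ Z1 K := by
    rw [← co_eq_zero, hV, co_eq_zero.2 hg, Matrix.mulVec_zero]
  refine ⟨h1, ?_⟩
  have h2 := (h.Z _ h1).2
  rw [MulAut.apply_inv_self] at h2
  rw [h2]
  show _ = m⁻¹ * (m * ((γ⁻¹ g : Qa K) : GU K).f)
  rw [inv_mul_cancel_left₀ hm]

section

variable {Γ : Subgroup (MulAut (Qa K))} {D : Subgroup (MulAut (GU K))}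

instance finite_aut [Finite K] : Finite (MulAut (Qa K)) := inferInstance

/-- `Aut_S(Q)` as a Sylow subgroup of `Γ` -/
theorem exists_sylowP (hK : HypG K p n) (hP : Par p (Qa K) Γ D) :
    haveI : Fact p.Prime := ⟨hK.pp⟩
    ∃ T : Sylow p Γ, (T : Subgroup Γ) = (autInducedBy ⊤ (Qa K)).subgroupOf Γ := by
  have hfin := hK.fin
  have hfp : Fact p.Prime := ⟨hK.pp⟩
  have hG0 : IsPGroup p (⊤ : Subgroup (GU K)) := (stGrp hK).2.1
  have hG : IsPGroup p ↥((autInducedBy ⊤ (Qa K)).subgroupOf Γ) :=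
    (isPGroup_autInducedBy hG0 (Qa K)).comap_of_injective Γ.subtype Γ.subtype_injective
  refine ⟨⟨(autInducedBy ⊤ (Qa K)).subgroupOf Γ, hG, fun {Q} hQ hle => ?_⟩, rfl⟩
  refine (Subgroup.eq_of_le_of_card_ge hle ?_).symm
  obtain ⟨g, hg, hgQ⟩ := hP.syl (Q.map Γ.subtype) (Subgroup.map_subtype_le Q) (hQ.map _)
  have hmap : (Q.map Γ.subtype).map (MulAut.conj g).toMonoidHom ≤ autInducedBy ⊤ (Qa K) := by
    rintro _ ⟨x, hx, rfl⟩
    exact hgQ x hx
  have h1 := Subgroup.card_le_of_le hmap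
  rw [Subgroup.card_map_of_injective (MulAut.conj g).injective,
    Subgroup.card_map_of_injective Γ.subtype_injective] at h1
  refine h1.trans (le_of_eq ?_)
  have := Subgroup.card_map_of_injective (K := (autInducedBy ⊤ (Qa K)).subgroupOf Γ) (f := Γ.subtype)
    Γ.subtype_injective
  rw [← this, Subgroup.subgroupOf_map_subtype, inf_eq_left.2 hP.indu]

/-- `Aut_S(Q)` inside `Γ` -/
def TG (Γ : Subgroup (MulAut (Qa K))) : Subgroup Γ := (autInducedBy ⊤ (Qa K)).subgroupOf Γ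

theorem mem_TG {γ : Γ} : γ ∈ TG Γ ↔ ∃ x : GU K, IsC x γ.1 := by
  rw [TG, Subgroup.mem_subgroupOf, mem_autInducedBy_iff]
  exact ⟨fun ⟨g, _, h⟩ => ⟨g, h⟩, fun ⟨g, h⟩ => ⟨g, trivial, h⟩⟩

theorem normAut_iff (hK : HypG K p n) (hP : Par p (Qa K) Γ D) (γ : Γ) :
    NormAut ⊤ γ.1 ↔ γ ∈ Subgroup.normalizer ((TG Γ : Subgroup Γ) : Set Γ) := by
  have hfin := hK.fin
  constructor
  · intro h
    have h1 : (TG Γ).map (MulAut.conj γ).toMonoidHom ≤ TG Γ := by
      rintro _ ⟨x, hx, rfl⟩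
      exact h x.1 hx
    rw [EvenType.StrongP.mem_norm]
    exact Subgroup.eq_of_le_of_card_ge h1 (by rw [Subgroup.card_map_of_injective (MulAut.conj γ).injective])
  · intro h x hx
    exact (Subgroup.mem_normalizer_iff.1 h ⟨x, hP.indu hx⟩).1 hx

theorem three_ne (hK : HypG K p n) (h3 : p ≠ 3) : (3 : K) ≠ 0 := by
  have := hK.char
  intro h
  have h1 : ((3 : ℕ) : K) = 0 := by exact_mod_cast h
  rw [CharP.cast_eq_zero_iff K p] at h1
  exact h3 ((Nat.prime_dvd_prime_iff_eq hK.pp Nat.prime_three).1 h1)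

/-- the elements of `D` -/
theorem exists_isTor (hK : HypG K p n) (h3 : p ≠ 3) (hP : Par p (Qa K) Γ D) {d : MulAut (GU K)} (hd : d ∈ D) :
    ∃ s t τ, IsTor d s t τ := by
  have hfin := hK.fin
  rcases mem_TT (hP.D_le hd) with h | ⟨s, t, τ, α', ρ, -, hρ, -⟩
  · exact h
  · exact absurd hρ.three (three_ne hK h3)

/-- the restrictions of the elements of `D` -/
def DG (Γ : Subgroup (MulAut (Qa K))) (D : Subgroup (MulAut (GU K))) : Subgroup Γ where
  carrier := {γ | ∃ d ∈ D, IsR d γ.1}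
  one_mem' := ⟨1, D.one_mem, fun _ => rfl⟩
  mul_mem' := by
    rintro γ γ' ⟨d, hd, h⟩ ⟨d', hd', h'⟩
    refine ⟨d * d', D.mul_mem hd hd', fun e => ?_⟩
    show (((γ.1 (γ'.1 e)) : Qa K) : GU K) = d (d' e)
    rw [h, h']
  inv_mem' := by
    rintro γ ⟨d, hd, h⟩
    refine ⟨d⁻¹, D.inv_mem hd, fun e => ?_⟩
    have h1 := h (γ.1⁻¹ e)
    rw [MulAut.apply_inv_self] at h1
    show ((γ.1⁻¹ e : Qa K) : GU K) = d⁻¹ e
    rw [h1, MulAut.inv_apply_self]

theorem conj_isR {d : MulAut (GU K)} {γ α : MulAut (Qa K)} (hγ : IsR d γ) {x : GU K} (hα : IsC x α) :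
    IsC (d x) (γ * α * γ⁻¹) := by
  intro e
  show ((γ (α (γ⁻¹ e)) : Qa K) : GU K) = _
  rw [hγ, hα, map_mul, map_mul, map_inv, ← hγ, MulAut.apply_inv_self]

theorem DG_le (hK : HypG K p n) (hP : Par p (Qa K) Γ D) :
    DG Γ D ≤ Subgroup.normalizer ((TG Γ : Subgroup Γ) : Set Γ) := by
  rintro γ ⟨d, hd, hγ⟩
  rw [← normAut_iff hK hP]
  intro x hx
  obtain ⟨g, -, hg⟩ := (mem_autInducedBy_iff _ _ _).1 hx
  exact (mem_autInducedBy_iff _ _ _).2 ⟨d g, trivial, conj_isR hγ hg⟩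

theorem DG_coprime (hK : HypG K p n) (hP : Par p (Qa K) Γ D) : (Nat.card (DG Γ D)).Coprime p := by
  have hfin := hK.fin
  have hfp : Fact p.Prime := ⟨hK.pp⟩
  rw [Nat.coprime_comm, Nat.Prime.coprime_iff_not_dvd hK.pp]
  intro h
  obtain ⟨⟨γ, d, hd, hγ⟩, ho⟩ := exists_prime_orderOf_dvd_card' (G := ↥(DG Γ D)) p h
  have h1 : orderOf γ = p := by rw [← ho]; exact (Subgroup.orderOf_mk _ _).symm
  have h2 : ∀ k : ℕ, IsR (d ^ k) ((γ ^ k : Γ) : MulAut (Qa K)) := by
    intro k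
    induction k with
    | zero => exact fun _ => rfl
    | succ k ih =>
      intro e
      rw [pow_succ, pow_succ]
      show ((((γ ^ k : Γ) : MulAut (Qa K)) (γ.1 e) : Qa K) : GU K) = (d ^ k) (d e)
      rw [ih, hγ]
  have h3 : γ ^ orderOf d = 1 := by
    apply Subtype.ext
    apply MulEquiv.ext
    intro e
    apply Subtype.ext
    rw [h2, pow_orderOf_eq_one]
    rfl
  have h4 : p ∣ orderOf d := by
    rw [← h1]
    exact orderOf_dvd_of_pow_eq_one h3
  have h5 : p ∣ Nat.card D := by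
    refine h4.trans ?_
    have : orderOf (⟨d, hd⟩ : D) = orderOf d := Subgroup.orderOf_mk _ _
    rw [← this]
    exact orderOf_dvd_natCard _
  exact (Nat.Prime.coprime_iff_not_dvd hK.pp).1 (Nat.coprime_comm.1 hP.D_cop) h5

/-- `N_Γ(Aut_S(Q)) = Aut_S(Q) D` -/
theorem norm_dec (hP : Par p (Qa K) Γ D) (hK : HypG K p n) {γ : Γ}
    (hγ : γ ∈ Subgroup.normalizer ((TG Γ : Subgroup Γ) : Set Γ)) :
    ∃ c ∈ TG Γ, ∃ δ ∈ DG Γ D, γ = c * δ := by
  obtain ⟨x, d, hd, h⟩ := hP.norm γ.1 γ.2 ((normAut_iff hK hP γ).2 hγ)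
  have hc : IsC x (MulAut.conjNormal x : MulAut (Qa K)) := fun e => MulAut.conjNormal_apply x e
  have hcΓ : (MulAut.conjNormal x : MulAut (Qa K)) ∈ Γ :=
    hP.indu ((mem_autInducedBy_iff _ _ _).2 ⟨x, trivial, hc⟩)
  refine ⟨⟨_, hcΓ⟩, mem_TG.2 ⟨x, hc⟩, (⟨_, hcΓ⟩ : Γ)⁻¹ * γ, ⟨d, hd, fun e => ?_⟩, by rw [mul_inv_cancel_left]⟩
  show (((MulAut.conjNormal x : MulAut (Qa K))⁻¹ (γ.1 e) : Qa K) : GU K) = d e
  rw [← map_inv, MulAut.conjNormal_apply, h, inv_inv]
  group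

theorem inn_acts {α : MulAut (Qa K)} (hα : α ∈ Inn (Qa K)) : Acts α 1 (RingEquiv.refl K) 1 := by
  obtain ⟨x, rfl⟩ := hα
  have h1 : IsC (x : GU K) (MulAut.conj x) := fun _ => rfl
  have h2 := acts_conj h1
  have h3 : (x : GU K).a = 0 := x.2
  rw [h3, Xm_zero] at h2
  exact h2

end

end Cfsg.Agent.H949.GT
end

-- part: H949/GT/End
section
/-!
# S5211, the short root parabolic (helper949): the end game

`endgame` : from the rank one property of `Aut_S(Q_a)` in `Γ` (any `p ≠ 3`, `q ≥ 8`) : the standard Weyl element on `Q_a / Z₁`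
and the torus `(t², t⁻³)`.
-/

set_option autoImplicit false

namespace Cfsg.Agent.H949.GT

open Cfsg Cfsg.FusionSystem Cfsg.Agent.H756.PU Cfsg.Agent.H779.G2 Cfsg.Agent.H103.GT Cfsg.Agent.H802 Matrix

universe u

variable {K : Type u} [Field K] {p n : ℕ}

theorem isTor_unique {α β : MulAut (GU K)} {s t : K} {τ : K ≃+* K} (h : IsTor α s t τ) (h' : IsTor β s t τ) : α = β :=
  ext_aut fun g => ⟨by rw [h.a, h'.a], by rw [h.b, h'.b], by rw [h.c, h'.c], by rw [h.d, h'.d], by rw [h.e, h'.e],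
    by rw [h.f, h'.f]⟩

theorem exists_isR {α : MulAut (GU K)} {s t : K} {τ : K ≃+* K} (h : IsTor α s t τ) : ∃ γ : MulAut (Qa K), IsR α γ := by
  have h1 : ∀ g : Qa K, α g ∈ Qa K := fun g => by
    have hg : (g : GU K).a = 0 := g.2
    show (α g).a = 0
    rw [h.a, hg, map_zero, mul_zero]
  have h2 : ∀ g : Qa K, α.symm g ∈ Qa K := fun g => by
    have hg : (g : GU K).a = 0 := g.2
    show (α.symm g).a = 0
    have h3 := h.a (α.symm g)
    rw [MulEquiv.apply_symm_apply, hg] at h3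
    have h4 := (mul_eq_zero.1 h3.symm).resolve_left h.ne1
    exact (map_eq_zero_iff τ τ.injective).1 h4
  exact ⟨{ toFun := fun g => ⟨α g, h1 g⟩
           invFun := fun g => ⟨α.symm g, h2 g⟩
           left_inv := fun g => Subtype.ext (α.symm_apply_apply _)
           right_inv := fun g => Subtype.ext (α.apply_symm_apply _)
           map_mul' := fun g g' => Subtype.ext (map_mul α _ _) }, fun _ => rfl⟩

theorem Acts.uniq_m {γ : MulAut (Qa K)} {M M' : Matrix (Fin 4) (Fin 4) K} {τ τ' : K ≃+* K} {m m' : K}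
    (h : Acts γ M τ m) (h' : Acts γ M' τ' m') : m = m' := by
  let g : Qa K := ⟨⟨0, 0, 0, 0, 0, 1⟩, rfl⟩
  have hg : (g : GU K) ∈ Z1 K := ⟨rfl, rfl, rfl, rfl, rfl⟩
  have h1 := (h.Z g hg).2
  have h2 := (h'.Z g hg).2
  have h3 : (g : GU K).f = 1 := rfl
  rw [h3, map_one, mul_one] at h1 h2
  rw [← h1, h2]

theorem map_refl (M : Matrix (Fin 4) (Fin 4) K) : M.map (RingEquiv.refl K) = M := by
  ext i j
  rfl

/-- conjugates of linear elements -/
theorem conj_lin {γ y : MulAut (Qa K)} {M M' Y : Matrix (Fin 4) (Fin 4) K} {τ τ' : K ≃+* K} {m m' : K}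
    (h : Acts γ M τ m) (h' : Acts γ⁻¹ M' τ' m') (hy : Acts y Y (RingEquiv.refl K) 1) :
    ∃ Y', Acts (γ * y * γ⁻¹) Y' (RingEquiv.refl K) 1 := by
  have h1 := (h.mul hy).mul h'
  have h2 := (h.inv h').2
  have h3 := h.mul h'
  rw [mul_inv_cancel] at h3
  have h4 := h3.uniq_m Acts.one
  have e1 : τ'.trans ((RingEquiv.refl K).trans τ) = RingEquiv.refl K := h2
  have e2 : m * τ 1 * ((RingEquiv.refl K).trans τ) m' = 1 := by
    rw [map_one, mul_one]
    exact h4
  rw [e1, e2] at h1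
  exact ⟨_, h1⟩

/-- `γ` preserves `Z₂` -/
def PZ (γ : MulAut (Qa K)) : Prop := ∀ e : Qa K, (e : GU K) ∈ Z2 K → ((γ e : Qa K) : GU K) ∈ Z2 K

theorem PZ.mul {γ γ' : MulAut (Qa K)} (h : PZ γ) (h' : PZ γ') : PZ (γ * γ') := fun e he => h _ (h' e he)

theorem PZ.of_acts {γ : MulAut (Qa K)} {M : Matrix (Fin 4) (Fin 4) K} {τ : K ≃+* K} {m : K} (h : Acts γ M τ m)
    (hM : ∀ i : Fin 4, i ≠ 3 → M i 3 = 0) : PZ γ := by
  rintro e ⟨h1, h2, h3, h4⟩
  have hco : ∀ i : Fin 4, i ≠ 3 → co ((γ e : Qa K) : GU K) i = 0 := by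
    intro i hi
    rw [h.V, Matrix.mulVec, dotProduct, Fin.sum_univ_four, hM i hi]
    simp [co, h2, h3, h4]
  exact ⟨(γ e).2, hco 0 (by decide), hco 1 (by decide), hco 2 (by decide)⟩

variable {Γ : Subgroup (MulAut (Qa K))} {D : Subgroup (MulAut (GU K))}

theorem acts_TG {c : Γ} (hc : c ∈ TG Γ) : ∃ a, Acts c.1 (Xm a) (RingEquiv.refl K) 1 := by
  obtain ⟨x, hx⟩ := mem_TG.1 hc
  exact ⟨x.a, acts_conj hx⟩

theorem acts_DG (hK : HypG K p n) (h3 : p ≠ 3) (hP : Par p (Qa K) Γ D) {δ : Γ} (hδ : δ ∈ DG Γ D) :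
    ∃ d ∈ D, ∃ s t τ, IsTor d s t τ ∧ IsR d δ.1 ∧
      Acts δ.1 (Matrix.diagonal ![t, s * t, s ^ 2 * t, s ^ 3 * t]) τ (s ^ 3 * t ^ 2) := by
  obtain ⟨d, hd, hr⟩ := hδ
  obtain ⟨s, t, τ, h⟩ := exists_isTor hK h3 hP hd
  exact ⟨d, hd, s, t, τ, h, hr, acts_tor h hr⟩

theorem PZ_norm (hK : HypG K p n) (h3 : p ≠ 3) (hP : Par p (Qa K) Γ D) {γ : Γ}
    (hγ : γ ∈ Subgroup.normalizer ((TG Γ : Subgroup Γ) : Set Γ)) : PZ γ.1 := by
  obtain ⟨c, hc, δ, hδ, rfl⟩ := norm_dec hP hK hγ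
  obtain ⟨a, ha⟩ := acts_TG hc
  obtain ⟨d, -, s, t, τ, -, -, h⟩ := acts_DG hK h3 hP hδ
  refine PZ.mul (γ := c.1) (γ' := δ.1) (PZ.of_acts ha ?_) (PZ.of_acts h ?_)
  · intro i hi
    fin_cases i
    · rfl
    · rfl
    · rfl
    · exact absurd rfl hi
  · intro i hi
    exact Matrix.diagonal_apply_ne _ hi

/-- the torus element `diag(t², t, 1, t⁻¹)` -/
theorem exists_delta (hP : Par p (Qa K) Γ D) (hTor : HasTor D (fun t => t⁻¹) (fun t => t ^ 2)) {t : K} (ht : t ≠ 0) :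
    ∃ d ∈ D, ∃ δ : Γ, IsTor d t⁻¹ (t ^ 2) (RingEquiv.refl K) ∧ IsR d δ.1 ∧ δ ∈ DG Γ D ∧
      Acts δ.1 (dl t) (RingEquiv.refl K) t := by
  obtain ⟨α, hα⟩ := exists_tor (RingEquiv.refl K) (inv_ne_zero ht) (pow_ne_zero 2 ht)
  have hαD := hTor t ht α hα
  obtain ⟨γ, hγ⟩ := exists_isR hα
  refine ⟨α, hαD, ⟨γ, hP.D_res α hαD γ hγ⟩, hα, hγ, ⟨α, hαD, hγ⟩, ?_⟩
  have h1 := acts_tor hα hγ
  have e1 : (Matrix.diagonal ![t ^ 2, t⁻¹ * t ^ 2, t⁻¹ ^ 2 * t ^ 2, t⁻¹ ^ 3 * t ^ 2] : Matrix (Fin 4) (Fin 4) K) = dl t := by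
    rw [dl]
    congr 1
    ext i
    fin_cases i
    · rfl
    · simp only [_root_.inv_pow, _root_.Nat.succ_eq_add_one, _root_.Nat.reduceAdd, _root_.Fin.mk_one, _root_.Fin.isValue, _root_.Matrix.cons_val_one, _root_.Matrix.cons_val_zero]
      field_simp
    · simp only [_root_.inv_pow, _root_.Nat.succ_eq_add_one, _root_.Nat.reduceAdd, _root_.Fin.reduceFinMk, _root_.Matrix.cons_val]
      field_simp
    · simp only [_root_.inv_pow, _root_.Nat.succ_eq_add_one, _root_.Nat.reduceAdd, _root_.Fin.reduceFinMk, _root_.Matrix.cons_val]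
      field_simp
  have e2 : t⁻¹ ^ 3 * (t ^ 2) ^ 2 = t := by field_simp
  rw [e1, e2] at h1
  exact h1

/-- elements normalizing `T` and another conjugate `T^γ₀` normalized by `D` are diagonal -/
theorem acts_both (hK : HypG K p n) (h3 : p ≠ 3) (hP : Par p (Qa K) Γ D) (hTI : TIAut (⊤ : Subgroup (GU K)) Γ) {γ₀ : Γ}
    (hγ₀ : γ₀ ∉ Subgroup.normalizer ((TG Γ : Subgroup Γ) : Set Γ))
    (hγD : ∀ δ ∈ DG Γ D, γ₀⁻¹ * δ * γ₀ ∈ Subgroup.normalizer ((TG Γ : Subgroup Γ) : Set Γ)) {β : Γ}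
    (h1 : β ∈ Subgroup.normalizer ((TG Γ : Subgroup Γ) : Set Γ))
    (h2 : γ₀⁻¹ * β * γ₀ ∈ Subgroup.normalizer ((TG Γ : Subgroup Γ) : Set Γ)) :
    ∃ s t τ m, s ≠ 0 ∧ t ≠ 0 ∧ Acts β.1 (Matrix.diagonal ![t, s * t, s ^ 2 * t, s ^ 3 * t]) τ m := by
  have hfin := hK.fin
  have hfp : Fact p.Prime := ⟨hK.pp⟩
  obtain ⟨c, hc, δ, hδ, rfl⟩ := norm_dec hP hK h1
  obtain ⟨T, hT⟩ := exists_sylowP hK hP
  have hT' : (T : Subgroup Γ) = TG Γ := hT
  have h4 : γ₀⁻¹ * c * γ₀ ∈ Subgroup.normalizer ((TG Γ : Subgroup Γ) : Set Γ) := by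
    have := Subgroup.mul_mem _ h2 (Subgroup.inv_mem _ (hγD δ hδ))
    have e : γ₀⁻¹ * (c * δ) * γ₀ * (γ₀⁻¹ * δ * γ₀)⁻¹ = γ₀⁻¹ * c * γ₀ := by group
    rwa [e] at this
  have h5 : γ₀⁻¹ * c * γ₀ ∈ TG Γ := by
    have h6 : IsPGroup p ((T : Subgroup Γ).map (MulAut.conj γ₀⁻¹).toMonoidHom) := T.isPGroup'.map _
    have h7 := h6.inf_normalizer_sylow T
    have h8 : γ₀⁻¹ * c * γ₀ ∈ (T : Subgroup Γ).map (MulAut.conj γ₀⁻¹).toMonoidHom ⊓
        Subgroup.normalizer ((T : Subgroup Γ) : Set Γ) := by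
      refine ⟨⟨c, by rw [hT']; exact hc, ?_⟩, by rw [hT']; exact h4⟩
      show γ₀⁻¹ * c * γ₀⁻¹⁻¹ = _
      rw [inv_inv]
    have h9 : γ₀⁻¹ * c * γ₀ ∈ (T : Subgroup Γ).map (MulAut.conj γ₀⁻¹).toMonoidHom ⊓ (T : Subgroup Γ) := by
      rw [← h7]
      exact h8
    rw [hT'] at h9
    exact h9.2
  have h6 : c.1 ∈ Inn (Qa K) := by
    by_contra hcon
    have h7 := hTI γ₀⁻¹.1 γ₀⁻¹.2 c.1 hc hcon (by
      have : γ₀⁻¹.1 * c.1 * (γ₀⁻¹.1)⁻¹ = (γ₀⁻¹ * c * γ₀).1 := by simp only [_root_.InvMemClass.coe_inv, _root_.inv_inv, _root_.Subgroup.coe_mul]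
      rw [this]
      exact h5)
    have h8 := (normAut_iff hK hP γ₀⁻¹).1 h7
    exact hγ₀ (by simpa using Subgroup.inv_mem _ h8)
  obtain ⟨d, -, s, t, τ, ht, -, h⟩ := acts_DG hK h3 hP hδ
  have h7 := (inn_acts h6).mul h
  rw [one_mul, map_refl] at h7
  exact ⟨s, t, _, _, ht.ne1, ht.ne2, h7⟩

theorem endgame (hAlg : StWAlg.{u}) (hK : HypG K p n) (h3 : p ≠ 3) (hq : 8 ≤ p ^ n) (hP : Par p (Qa K) Γ D)
    (hTI : TIAut (⊤ : Subgroup (GU K)) Γ) (hact : ∀ γ ∈ Γ, ∃ M τ m, m ≠ 0 ∧ Acts γ M τ m) (hR : R1 (TG Γ))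
    (hTor : HasTor D (fun t => t⁻¹) (fun t => t ^ 2)) (hZ2 : ¬ _root_.Cfsg.Agent.H756.PU.Inv Γ (Z2 K)) :
    (∃ w ∈ Γ, Acts w Wm (RingEquiv.refl K) 1) ∧ HasTor D (fun t => t ^ 2) (fun t => (t ^ 3)⁻¹) := by
  have hfin := hK.fin
  have hfp : Fact p.Prime := ⟨hK.pp⟩
  have h30 := three_ne hK h3
  obtain ⟨T, hT⟩ := exists_sylowP hK hP
  have hT' : (T : Subgroup Γ) = TG Γ := hT
  set N : Subgroup Γ := Subgroup.normalizer ((TG Γ : Subgroup Γ) : Set Γ) with hN
  have hsm : ∀ a : Γ, ((a • T : Sylow p Γ) : Subgroup Γ) = (TG Γ).map (MulAut.conj a).toMonoidHom := by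
    intro a
    rw [Sylow.coe_subgroup_smul, ← hT']
    rfl
  have hsmN : ∀ a : Γ, a • T = T ↔ a ∈ N := by
    intro a
    rw [hN, EvenType.StrongP.mem_norm, ← hsm, ← hT']
    exact ⟨fun h => by rw [h], fun h => Sylow.ext h⟩
  -- a second Sylow subgroup, normalized by `D`
  obtain ⟨P', hP', hDP'⟩ := H302.PU.exists_inv_sylow T (DG Γ D) (by rw [hT']; exact DG_le hK hP) (DG_coprime hK hP)
    (by
      intro P' P'' h1 h2
      obtain ⟨a, rfl⟩ := MulAction.exists_smul_eq Γ T P'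
      obtain ⟨b, rfl⟩ := MulAction.exists_smul_eq Γ T P''
      obtain ⟨x, hx, h⟩ := hR.trans a b (fun h => h1 ((hsmN a).2 h)) (fun h => h2 ((hsmN b).2 h))
      refine ⟨x, by rw [hT']; exact hx, ?_⟩
      rw [hsm, hsm, ← EvenType.StrongP.map_conj_mul]
      rw [EvenType.StrongP.mem_norm] at h
      conv_rhs => rw [← h]
      rw [← EvenType.StrongP.map_conj_mul]
      congr 3
      group)
    (by
      intro hnor
      apply hP.nn
      intro γ hγ
      have h1 := (normAut_iff hK hP ⟨γ, hγ⟩).2 (by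
        have h2 : ((TG Γ : Subgroup Γ)).Normal := by rw [← hT']; exact hnor
        rw [Subgroup.normalizer_eq_top]
        trivial)
      exact h1)
  obtain ⟨γ₀, rfl⟩ := MulAction.exists_smul_eq Γ T P'
  have hγ₀ : γ₀ ∉ N := fun h => hP' ((hsmN γ₀).2 h)
  have hγD : ∀ δ ∈ DG Γ D, γ₀⁻¹ * δ * γ₀ ∈ N := by
    intro δ hδ
    have h1 := hDP' hδ
    rw [hsm, EvenType.StrongP.mem_norm, ← EvenType.StrongP.map_conj_mul] at h1
    rw [hN, EvenType.StrongP.mem_norm, mul_assoc, EvenType.StrongP.map_conj_mul, h1, ← EvenType.StrongP.map_conj_mul,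
      inv_mul_cancel, EvenType.StrongP.map_conj_one]
  -- the Weyl element
  obtain ⟨x₁, hx₁, y₁, hy₁, hw1, hw2⟩ := hR.weyl γ₀ hγ₀
  obtain ⟨w, hw⟩ : ∃ w, w = x₁ * (γ₀ * y₁ * γ₀⁻¹) * x₁ := ⟨_, rfl⟩
  rw [← hw] at hw1 hw2
  obtain ⟨a₁, ha₁⟩ := acts_TG hx₁
  obtain ⟨b₁, hb₁⟩ := acts_TG hy₁
  obtain ⟨W, hW⟩ : ∃ W, Acts w.1 W (RingEquiv.refl K) 1 := by
    obtain ⟨M₀, τ₀, m₀, -, h0⟩ := hact γ₀.1 γ₀.2
    obtain ⟨M₁, τ₁, m₁, -, h1⟩ := hact γ₀.1⁻¹ (Γ.inv_mem γ₀.2)
    obtain ⟨Y, hY⟩ := conj_lin h0 h1 hb₁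
    have h2 := (ha₁.mul' hY).mul' ha₁
    rw [one_mul, one_mul] at h2
    rw [hw]
    exact ⟨_, h2⟩
  have hWu := hW.isUnit
  have hWd : IsUnit W.det := (Matrix.isUnit_iff_isUnit_det W).1 hWu
  have hconj : ∀ δ ∈ DG Γ D, w * δ * w⁻¹ ∈ N ∧ γ₀⁻¹ * (w * δ * w⁻¹) * γ₀ ∈ N := by
    intro δ hδ
    constructor
    · have e : w * δ * w⁻¹ = (w * γ₀) * (γ₀⁻¹ * δ * γ₀) * (w * γ₀)⁻¹ := by group
      rw [e]
      exact N.mul_mem (N.mul_mem hw2 (hγD δ hδ)) (N.inv_mem hw2)
    · have e : γ₀⁻¹ * (w * δ * w⁻¹) * γ₀ = (γ₀⁻¹ * w) * δ * (γ₀⁻¹ * w)⁻¹ := by group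
      rw [e]
      exact N.mul_mem (N.mul_mem hw1 (DG_le hK hP hδ)) (N.inv_mem hw1)
  -- `w` is diagonal or antidiagonal
  have hmono : (∀ i j, i ≠ j → W i j = 0) ∨ (∀ i j : Fin 4, (i : ℕ) + (j : ℕ) ≠ 3 → W i j = 0) := by
    obtain ⟨g, hg⟩ := IsCyclic.exists_generator (α := Kˣ)
    have hord : 7 ≤ orderOf g := by
      rw [orderOf_eq_card_of_forall_mem_zpowers hg, Nat.card_units, hK.card]
      omega
    obtain ⟨d, hd, δ, -, -, hδD, hδ⟩ := exists_delta hP hTor (Units.ne_zero g)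
    obtain ⟨h1, h2⟩ := hconj δ hδD
    obtain ⟨s, t, τ, m, hs, ht, h4⟩ := acts_both hK h3 hP hTI hγ₀ hγD h1 h2
    have h5 := (hW.mul' hδ).mul' (hW.lin_inv one_ne_zero)
    obtain ⟨h6, -⟩ := h4.uniq h5 0 0 (by simpa using ht)
    refine mono hord hWu (a := t) (s := s) ?_
    rw [h6, Matrix.mul_assoc, Matrix.nonsing_inv_mul _ hWd, Matrix.mul_one]
    rfl
  have hwN : w ∉ N := by
    intro h
    apply hγ₀
    have := N.mul_mem h (N.inv_mem hw1)
    have e : w * (γ₀⁻¹ * w)⁻¹ = γ₀ := by group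
    rwa [e] at this
  rcases hmono with hdiag | hanti
  · exfalso
    apply hZ2
    have hPw : PZ w.1 := PZ.of_acts hW fun i hi => hdiag i 3 hi
    refine ⟨Z2_le_Qa, fun γ hγ e he => ?_⟩
    suffices h : PZ γ from h e he
    by_cases hγN : (⟨γ, hγ⟩ : Γ) ∈ N
    · exact PZ_norm hK h3 hP hγN
    · obtain ⟨x, hx, h1⟩ := hR.trans ⟨γ, hγ⟩ w hγN hwN
      have h2 := PZ_norm hK h3 hP h1
      obtain ⟨a, ha⟩ := acts_TG ((TG Γ).inv_mem hx)
      have h4 : PZ (x⁻¹ : Γ).1 := PZ.of_acts ha fun i hi => by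
        fin_cases i
        · rfl
        · rfl
        · rfl
        · exact absurd rfl hi
      have h5 := (PZ.mul h4 hPw).mul h2
      have e1 : (x⁻¹ : Γ).1 * w.1 * (w⁻¹ * x * ⟨γ, hγ⟩ : Γ).1 = γ := by
        have : x⁻¹ * w * (w⁻¹ * x * ⟨γ, hγ⟩) = (⟨γ, hγ⟩ : Γ) := by group
        exact congrArg Subtype.val this
      rwa [e1] at h5
  · obtain ⟨x, y, z, t, hWeq⟩ : ∃ x y z t, W = ad x y z t := ⟨_, _, _, _, eq_ad hanti⟩
    have hform := hW.form
    rw [one_smul, hWeq] at hform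
    obtain ⟨htx, hzy⟩ := ad_form h30 hform
    have hx : x ≠ 0 := fun h => by rw [h, mul_zero] at htx; exact one_ne_zero (by linear_combination htx)
    have ht : t ≠ 0 := fun h => by rw [h, zero_mul] at htx; exact one_ne_zero (by linear_combination htx)
    have hy : y ≠ 0 := fun h => by rw [h, mul_zero] at hzy; exact one_ne_zero (by linear_combination hzy)
    have hz : z ≠ 0 := fun h => by rw [h, zero_mul] at hzy; exact one_ne_zero (by linear_combination hzy)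
    -- `w = x₁ (w y₂ w⁻¹) x₁`
    obtain ⟨y₂, hy₂, hwy⟩ : ∃ y₂ ∈ TG Γ, w = x₁ * (w * y₂ * w⁻¹) * x₁ := by
      refine ⟨(γ₀⁻¹ * w)⁻¹ * y₁ * (γ₀⁻¹ * w), ?_, ?_⟩
      · have h1 := N.inv_mem hw1
        have h2 := (Subgroup.mem_normalizer_iff.1 h1 y₁).1 hy₁
        rwa [inv_inv] at h2
      · have e : w * ((γ₀⁻¹ * w)⁻¹ * y₁ * (γ₀⁻¹ * w)) * w⁻¹ = γ₀ * y₁ * γ₀⁻¹ := by group
        rw [e]
        exact hw
    obtain ⟨c₁, hc₁⟩ := mem_TG.1 hx₁
    obtain ⟨c₂, hc₂⟩ := mem_TG.1 hy₂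
    have hc₁a := acts_conj hc₁
    have hc₂a := acts_conj hc₂
    have ha₁0 : c₁.a ≠ 0 := by
      intro h0
      rw [h0, Xm_zero] at hc₁a
      have h1 := (hc₁a.mul' ((hW.mul' hc₂a).mul' (hW.lin_inv one_ne_zero))).mul' hc₁a
      have h2 : x₁.1 * (w.1 * y₂.1 * w.1⁻¹) * x₁.1 = w.1 := congrArg Subtype.val hwy.symm
      rw [h2, Matrix.one_mul, Matrix.mul_one] at h1
      have h4 := hW.uniq_lin h1
      have h5 : W * W = W * Xm c₂.a := by
        calc W * W = W * Xm c₂.a * W⁻¹ * W := by rw [← h4]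
          _ = W * Xm c₂.a := by rw [Matrix.mul_assoc, Matrix.nonsing_inv_mul _ hWd, Matrix.mul_one]
      have h6 : W = Xm c₂.a := by
        have h7 := congrArg (fun M => W⁻¹ * M) h5
        simp only [← Matrix.mul_assoc, Matrix.nonsing_inv_mul _ hWd, Matrix.one_mul] at h7
        exact h7
      have h8 := congrFun (congrFun h6 0) 0
      rw [hanti 0 0 (by decide)] at h8
      simp [Xm] at h8
    -- scaling
    obtain ⟨d, hd, δ, hdT, hdR, hδD, hδ⟩ := exists_delta hP hTor ha₁0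
    have hX := acts_conj (conj_isR hdR hc₁)
    have hY := acts_conj (conj_isR hdR hc₂)
    have e1 : (d c₁).a = 1 := by
      rw [hdT.a]
      exact inv_mul_cancel₀ ha₁0
    rw [e1] at hX
    set w₁ : Γ := δ * w * δ⁻¹ with hw₁
    have hW₁ := (hδ.mul' hW).mul' (hδ.lin_inv ha₁0)
    have e2 : (dl c₁.a)⁻¹ = (dl c₁.a⁻¹ : Matrix (Fin 4) (Fin 4) K) := Matrix.inv_eq_right_inv (dl_mul_inv ha₁0)
    rw [e2, hWeq, dl_ad ha₁0, mul_one, mul_inv_cancel₀ ha₁0] at hW₁
    have hi := inv_ne_zero ha₁0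
    have hx' : c₁.a ^ 3 * x ≠ 0 := mul_ne_zero (pow_ne_zero _ ha₁0) hx
    have hy' : c₁.a * y ≠ 0 := mul_ne_zero ha₁0 hy
    have hz' : c₁.a⁻¹ * z ≠ 0 := mul_ne_zero hi hz
    have ht' : c₁.a⁻¹ ^ 3 * t ≠ 0 := mul_ne_zero (pow_ne_zero _ hi) ht
    obtain ⟨W₁, hW₁e⟩ : ∃ W₁, W₁ = ad (c₁.a ^ 3 * x) (c₁.a * y) (c₁.a⁻¹ * z) (c₁.a⁻¹ ^ 3 * t) := ⟨_, rfl⟩
    rw [← hW₁e] at hW₁
    have hw₁v : w₁.1 = δ.1 * w.1 * δ.1⁻¹ := rfl
    rw [← hw₁v] at hW₁
    have hinv : W₁⁻¹ = ad (c₁.a⁻¹ ^ 3 * t)⁻¹ (c₁.a⁻¹ * z)⁻¹ (c₁.a * y)⁻¹ (c₁.a ^ 3 * x)⁻¹ := by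
      rw [hW₁e]
      exact Matrix.inv_eq_right_inv (ad_mul_inv hx' hy' hz' ht')
    have hrel : W₁ = Xm 1 * (W₁ * Xm (d c₂).a * W₁⁻¹) * Xm 1 := by
      have h1 := (hX.mul' ((hW₁.mul' hY).mul' (hW₁.lin_inv one_ne_zero))).mul' hX
      have h2 : δ.1 * x₁.1 * δ.1⁻¹ * (w₁.1 * (δ.1 * y₂.1 * δ.1⁻¹) * w₁.1⁻¹) * (δ.1 * x₁.1 * δ.1⁻¹) = w₁.1 := by
        have h4 : δ * x₁ * δ⁻¹ * (w₁ * (δ * y₂ * δ⁻¹) * w₁⁻¹) * (δ * x₁ * δ⁻¹) = w₁ := by
          rw [hw₁]
          conv_rhs => rw [hwy]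
          group
        exact congrArg Subtype.val h4
      rw [h2] at h1
      exact hW₁.uniq_lin h1
    have hform1 : (ad (c₁.a ^ 3 * x) (c₁.a * y) (c₁.a⁻¹ * z) (c₁.a⁻¹ ^ 3 * t)).transpose * Om *
        ad (c₁.a ^ 3 * x) (c₁.a * y) (c₁.a⁻¹ * z) (c₁.a⁻¹ ^ 3 * t) = Om := by
      refine form_ad ?_ ?_
      · rw [show c₁.a⁻¹ ^ 3 * t * (c₁.a ^ 3 * x) = (c₁.a⁻¹ * c₁.a) ^ 3 * (t * x) by ring, inv_mul_cancel₀ ha₁0, htx]
        ring
      · rw [show c₁.a⁻¹ * z * (c₁.a * y) = (c₁.a⁻¹ * c₁.a) * (z * y) by ring, inv_mul_cancel₀ ha₁0, hzy]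
        ring
    have hstd : W₁ = Wm := by
      have h1 := hAlg h30 _ _ _ _ (d c₂).a hx' hy' hz' ht' hform1 (by
        intro i j hij
        show (Xm 1 * (ad (c₁.a ^ 3 * x) (c₁.a * y) (c₁.a⁻¹ * z) (c₁.a⁻¹ ^ 3 * t) * Xm (d c₂).a *
          ad (c₁.a⁻¹ ^ 3 * t)⁻¹ (c₁.a⁻¹ * z)⁻¹ (c₁.a * y)⁻¹ (c₁.a ^ 3 * x)⁻¹) * Xm 1 : Matrix (Fin 4) (Fin 4) K) i j = 0
        rw [← hinv, ← hW₁e, ← hrel, hW₁e]
        fin_cases i <;> fin_cases j
        all_goals first
          | rfl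
          | exact absurd rfl hij)
      have h2 : Xm 1 * (ad (c₁.a ^ 3 * x) (c₁.a * y) (c₁.a⁻¹ * z) (c₁.a⁻¹ ^ 3 * t) * Xm (d c₂).a *
          ad (c₁.a⁻¹ ^ 3 * t)⁻¹ (c₁.a⁻¹ * z)⁻¹ (c₁.a * y)⁻¹ (c₁.a ^ 3 * x)⁻¹) * Xm 1 = (Wm : Matrix (Fin 4) (Fin 4) K) := h1
      rw [← hinv, ← hW₁e, ← hrel] at h2
      exact h2
    rw [hstd] at hW₁
    refine ⟨⟨w₁.1, w₁.2, hW₁⟩, ?_⟩
    -- the torus
    intro t₀ ht₀ α hα
    have hu : t₀⁻¹ ≠ 0 := inv_ne_zero ht₀
    obtain ⟨du, hdu, δu, -, -, hδuD, hδu⟩ := exists_delta hP hTor hu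
    have hγN : δu * (w₁ * δu⁻¹ * w₁⁻¹) ∈ N := by
      refine N.mul_mem (DG_le hK hP hδuD) ?_
      have h1 := (hconj (δ⁻¹ * δu⁻¹ * δ) ((DG Γ D).mul_mem ((DG Γ D).mul_mem ((DG Γ D).inv_mem hδD)
        ((DG Γ D).inv_mem hδuD)) hδD)).1
      have h2 := DG_le hK hP hδD
      have h4 := N.mul_mem (N.mul_mem h2 h1) (N.inv_mem h2)
      have e : δ * (w * (δ⁻¹ * δu⁻¹ * δ) * w⁻¹) * δ⁻¹ = w₁ * δu⁻¹ * w₁⁻¹ := by
        rw [hw₁]
        group
      rwa [e] at h4
    obtain ⟨c, hc, δ', hδ', hdec⟩ := norm_dec hP hK hγN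
    obtain ⟨b, hb⟩ := acts_TG hc
    obtain ⟨d', hd', s', t', τ', hd'T, -, hδ'a⟩ := acts_DG hK h3 hP hδ'
    have h1 := hb.mul hδ'a
    rw [map_refl] at h1
    have h2 := hδu.mul' ((hW₁.mul' (hδu.lin_inv hu)).mul' (hW₁.lin_inv one_ne_zero))
    have h4 : c.1 * δ'.1 = δu.1 * (w₁.1 * δu.1⁻¹ * w₁.1⁻¹) := congrArg Subtype.val hdec.symm
    rw [h4] at h1
    obtain ⟨h5, h6⟩ := h1.uniq h2 0 0 (by
      rw [Matrix.mul_diagonal]
      simpa [Xm] using hd'T.ne2)
    have e3 : (dl t₀⁻¹)⁻¹ = (dl t₀⁻¹⁻¹ : Matrix (Fin 4) (Fin 4) K) := Matrix.inv_eq_right_inv (dl_mul_inv hu)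
    have e4 : (Wm : Matrix (Fin 4) (Fin 4) K)⁻¹ = ad (-1) 1 (-1) 1 := by
      refine Matrix.inv_eq_right_inv ?_
      rw [Wm_eq]
      have := ad_mul_inv (K := K) (x := 1) (y := -1) (z := 1) (t := -1) one_ne_zero (neg_ne_zero.2 one_ne_zero)
        one_ne_zero (neg_ne_zero.2 one_ne_zero)
      simpa only [inv_neg, _root_.inv_one] using this
    rw [e3, e4, Wm_eq, dl_Wm hu] at h5
    have h7 := congrFun (congrFun h5 0) 0
    have h8 := congrFun (congrFun h5 1) 1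
    rw [Matrix.mul_diagonal] at h7 h8
    simp only [Xm, _root_.neg_mul, _root_.Fin.isValue, _root_.Matrix.of_apply, _root_.Matrix.cons_val', _root_.Matrix.cons_val_zero, _root_.Matrix.cons_val_fin_one, _root_.one_mul, _root_.Nat.succ_eq_add_one, _root_.Nat.reduceAdd, _root_.inv_pow, _root_.inv_inv, _root_.Matrix.diagonal_apply_eq, _root_.Matrix.cons_val_one] at h7 h8
    have hσ : τ' = RingEquiv.refl K := h6
    have h9 : s' = t₀ ^ 2 := by
      rw [h7] at h8
      have h10 : s' * (t₀ ^ 3)⁻¹ * t₀ ^ 3 = t₀⁻¹ * t₀ ^ 3 := by rw [h8]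
      rw [inv_mul_cancel_right₀ (pow_ne_zero _ ht₀)] at h10
      rw [h10]
      field_simp
    rw [h9, h7, hσ] at hd'T
    rw [isTor_unique hα hd'T]
    exact hd'

end Cfsg.Agent.H949.GT
end

-- part: H949/GT/Gen
section
/-!
# S5211, the short root parabolic (helper949): `Γ = Gen`
-/

set_option autoImplicit false

namespace Cfsg.Agent.H949.GT

open Cfsg Cfsg.FusionSystem Cfsg.Agent.H756.PU Cfsg.Agent.H779.G2 Cfsg.Agent.H103.GT Cfsg.Agent.H802 Matrix

universe u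

variable {K : Type u} [Field K] {p n : ℕ} {Γ : Subgroup (MulAut (Qa K))} {D : Subgroup (MulAut (GU K))}

theorem isWa_unique {γ γ' : MulAut (Qa K)} (h : IsWa γ) (h' : IsWa γ') : γ = γ' := by
  apply MulEquiv.ext
  intro g
  apply Subtype.ext
  have h1 : ((γ g : Qa K) : GU K).a = 0 := (γ g).2
  have h2 : ((γ' g : Qa K) : GU K).a = 0 := (γ' g).2
  exact GU.ext (h1.trans h2.symm) (by rw [h.b, h'.b]) (by rw [h.c, h'.c]) (by rw [h.d, h'.d]) (by rw [h.e, h'.e])
    (by rw [h.f, h'.f])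

/-- the Weyl automorphism generates, together with the standard Borel subgroup -/
theorem gen_of_wa (hK : HypG K p n) (h3 : p ≠ 3) (hP : Par p (Qa K) Γ D) (hR : R1 (TG Γ)) (hω : ∃ γ ∈ Γ, IsWa γ) :
    Γ = Gen IsWa D := by
  obtain ⟨ω, hωΓ, hω⟩ := hω
  set N : Subgroup Γ := Subgroup.normalizer ((TG Γ : Subgroup Γ) : Set Γ) with hN
  have hTG : ∀ c ∈ TG Γ, c.1 ∈ Gen IsWa D := fun c hc => Subgroup.subset_closure (Or.inl (Or.inl hc))
  have hNG : ∀ γ ∈ N, γ.1 ∈ Gen IsWa D := by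
    intro γ hγ
    obtain ⟨c, hc, δ, ⟨d, hd, hr⟩, rfl⟩ := norm_dec hP hK hγ
    exact Subgroup.mul_mem _ (hTG c hc) (Subgroup.subset_closure (Or.inr ⟨d, hd, hr⟩))
  have hωN : (⟨ω, hωΓ⟩ : Γ) ∉ N := by
    intro h
    have h1 := PZ_norm hK h3 hP h ⟨⟨0, 0, 0, 0, 1, 0⟩, rfl⟩ ⟨rfl, rfl, rfl, rfl⟩
    have h2 := h1.2.1
    have h3 := hω.b ⟨⟨0, 0, 0, 0, 1, 0⟩, rfl⟩
    rw [h3] at h2
    exact one_ne_zero h2
  apply le_antisymm
  · intro γ hγ
    by_cases hγN : (⟨γ, hγ⟩ : Γ) ∈ N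
    · exact hNG _ hγN
    · obtain ⟨x, hx, h1⟩ := hR.trans ⟨γ, hγ⟩ ⟨ω, hωΓ⟩ hγN hωN
      have h2 := hNG _ h1
      have h4 : γ = (x⁻¹ : Γ).1 * ω * ((⟨ω, hωΓ⟩ : Γ)⁻¹ * x * ⟨γ, hγ⟩ : Γ).1 := by
        have h5 : (⟨γ, hγ⟩ : Γ) = x⁻¹ * ⟨ω, hωΓ⟩ * ((⟨ω, hωΓ⟩ : Γ)⁻¹ * x * ⟨γ, hγ⟩) := by group
        exact congrArg Subtype.val h5
      rw [h4]
      exact Subgroup.mul_mem _ (Subgroup.mul_mem _ (hTG _ ((TG Γ).inv_mem hx))
        (Subgroup.subset_closure (Or.inl (Or.inr hω)))) h2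
  · refine (Subgroup.closure_le _).2 ?_
    rintro γ ((h | h) | ⟨d, hd, hr⟩)
    · exact hP.indu h
    · rw [isWa_unique h hω]
      exact hωΓ
    · exact hP.D_res d hd γ hr

theorem weyl_of_acts {γ : MulAut (Qa K)} {m : K} (h : Acts γ Wm (RingEquiv.refl K) m) (g : Qa K) :
    ((γ g : Qa K) : GU K).b = (g : GU K).e ∧ ((γ g : Qa K) : GU K).c = - (g : GU K).d ∧
      ((γ g : Qa K) : GU K).d = (g : GU K).c ∧ ((γ g : Qa K) : GU K).e = - (g : GU K).b := by
  have h1 := h.V g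
  refine ⟨(congrFun h1 0).trans ?_, (congrFun h1 1).trans ?_, (congrFun h1 2).trans ?_, (congrFun h1 3).trans ?_⟩ <;>
    simp [Wm, co, Matrix.mulVec, dotProduct, Fin.sum_univ_four]

/-- asked from helper403: the Weyl automorphism itself lies in `Γ` -/
def StWFin1 : Prop :=
  ∀ {K : Type u} [Field K] {p n : ℕ}, HypG K p n → p ≠ 3 → 5 ≤ p ^ n →
    ∀ (Γ : Subgroup (MulAut (Qa K))) (D : Subgroup (MulAut (GU K))), Par p (Qa K) Γ D → Full D →
    (∃ γ ∈ Γ, ∀ g : Qa K, ((γ g : Qa K) : GU K).b = (g : GU K).e ∧ ((γ g : Qa K) : GU K).c = - (g : GU K).d ∧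
      ((γ g : Qa K) : GU K).d = (g : GU K).c ∧ ((γ g : Qa K) : GU K).e = - (g : GU K).b) →
    ∃ γ ∈ Γ, IsWa γ

/-- **the conclusion of `StLaP` from the rank one property** (`p ≠ 3`, `q ≥ 8`) -/
theorem la_of_R1 (hAlg : StWAlg.{u}) (hWF : StWFin1.{u}) (hSem : StSem.{u}) (hTI : StTI.{u}) (hK : HypG K p n)
    (h3 : p ≠ 3) (hq : 8 ≤ p ^ n) (hP : Par p (Qa K) Γ D) (hR : R1 (TG Γ))
    (hTor : HasTor D (fun t => t⁻¹) (fun t => t ^ 2)) (hZ2 : ¬ _root_.Cfsg.Agent.H756.PU.Inv Γ (Z2 K)) :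
    HasTor D (fun t => t ^ 2) (fun t => (t ^ 3)⁻¹) ∧ (Full D → Γ = Gen IsWa D) := by
  have hTIΓ := (hTI hK (by omega) (Qa K) (Or.inl rfl)).1 Γ hP.indu hP.syl
  obtain ⟨⟨w, hw, hwa⟩, hT⟩ := endgame hAlg hK h3 hq hP hTIΓ (fun γ _ => exists_acts hSem hK h3 γ) hR hTor hZ2
  refine ⟨hT, fun hD => gen_of_wa hK h3 hP hR ?_⟩
  exact hWF hK h3 (by omega) Γ D hP hD ⟨w, hw, weyl_of_acts hwa⟩

end Cfsg.Agent.H949.GT
end

private theorem dce_9cfbccf9449b : _root_.True := by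
  try have : _root_.True := by simp only [_root_.Cfsg.Agent.H949.GT.Wm.eq_1]
  try have : _root_.True := by simp only [_root_.Cfsg.Agent.H949.GT.TG.eq_1]
  try have : _root_.True := by simp only [_root_.Cfsg.Agent.H949.GT.co.eq_1]
  try have : _root_.True := by simp only [_root_.Cfsg.Agent.H949.GT.dl.eq_1]
  try have : _root_.True := by simp only [_root_.Cfsg.Agent.H779.G2.Om.eq_1]
  try have : _root_.True := by simp only [_root_.Cfsg.Agent.H949.GT.ad.eq_1]
  try have : _root_.True := by simp only [_root_.Cfsg.Agent.H779.G2.Xm.eq_1]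
  exact _root_.True.intro
end

-- part: H675/GT/MTwHom
section
set_option linter.all false
open scoped Cfsg.Agent.FastGrp

/-!
# S5211, `q = 2`: the Sylow 2-subgroup `GU (F₂)` of `M₁₂` (helper675)

`phi : GU (ZMod 2) →* G12`, with image a Sylow 2-subgroup; `t` and `s` normalise the images of `Q_a` and `Q_b`.
-/

set_option autoImplicit false

namespace Cfsg.Agent.H675.GT

open Equiv Cfsg Cfsg.Agent.CoThreeStd.M12 Cfsg.Agent.H779.G2

/-- the group over `F₂` -/
abbrev U2 : Type := GU (ZMod 2)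

instance : DecidableEq U2 := fun x y =>
  decidable_of_iff (x.a = y.a ∧ x.b = y.b ∧ x.c = y.c ∧ x.d = y.d ∧ x.e = y.e ∧ x.f = y.f) GU.ext_iff.symm

instance : Fintype U2 := Fintype.ofEquiv _ GU.equivProd.symm

/-- a word or nothing -/
def bt (k : ZMod 2) (w : List (Fin 6)) : List (Fin 6) := if k = 0 then [] else w

/-- the word of an element -/
def wd (x : U2) : List (Fin 6) :=
  bt x.a [2, 1, 5, 1, 3, 5, 1, 2] ++ (bt x.b [4] ++ (bt x.c [0, 4] ++ (bt x.d [1, 5, 0, 2, 3, 2, 5] ++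
    (bt x.e [5, 0, 2, 5, 1, 4, 5, 0, 2, 5] ++ bt x.f [1, 4]))))

/-- the tables of the 64 elements -/
def tb : List ℕ := [0xba9876543210, 0x8a4b32597610, 0xab8942375601, 0xa8b496735201, 0x89ab31457062, 0xb4a871953026, 0x98ba50734126, 0x4b8a50379162, 0x359870a4b126, 0x754b30a98162, 0x538941b7a062, 0x57b49183a026, 0x74ab32958601, 0x39a87645b201, 0x47ba56839210, 0x938a52b74610, 0x3a978254b601, 0x7a43b6598201, 0x5b849637a210, 0x58b94273a610, 0x79a3b0458126, 0x34a78095b162, 0x48b5a1739062, 0x9b85a1374026, 0xb59781a43062, 0x8543b1a97026, 0xa38490b75126, 0xa7b940835162, 0x84a3b6957210, 0xb9a782453610, 0x97b5a2834601, 0x4385a6b79201, 0x354786a9b210, 0x7593b2a48610, 0x537492b8a601, 0x5739468ba201, 0x7453b19a8062, 0x3957814ab026, 0x4735a08b9126, 0x9375a0b84162, 0xba4780593126, 0x8a93b0547162, 0xab7491385062, 0xa839417b5026, 0x8953b24a7601, 0xb457869a3201, 0x9835a67b4210, 0x4b75a2389610, 0xb54872a93601, 0x859b36a47201, 0xa37946b85210,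 0xa734928b5610, 0x845b309a7126, 0xb958704a3162, 0x973a518b4062, 0x437a51b89026, 0x3a487159b062, 0x7a9b31548026, 0x5b794038a126, 0x5834907ba162, 0x795b364a8210, 0x3458729ab610, 0x483a527b9601, 0x9b7a56384201]

/-- the table of an element -/
def T (x : U2) : ℕ := tb.getD (x.a.val + 2 * x.b.val + 4 * x.c.val + 8 * x.d.val + 16 * x.e.val + 32 * x.f.val) 0

/-- the generators -/
def gn (i : Fin 6) : U2 :=
  ⟨if i = 0 then 1 else 0, if i = 1 then 1 else 0, if i = 2 then 1 else 0, if i = 3 then 1 else 0,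
    if i = 4 then 1 else 0, if i = 5 then 1 else 0⟩

private noncomputable def _root_.Cfsg.Agent.LsF.fa9f193_0 : {f // @Cfsg.Agent.CoThreeStd.M12.pk = f} := ⟨_, by first | (delta Cfsg.Agent.CoThreeStd.M12.pk; rewrite [Cfsg.Agent.LsF.nadd_pat, Cfsg.Agent.LsF.nmul_pat]; exact rfl) | exact rfl⟩
private noncomputable def _root_.Cfsg.Agent.LsF.fa9f193_1 : {f // @Cfsg.Agent.CoThreeStd.M12.dg = f} := ⟨_, by first | (delta Cfsg.Agent.CoThreeStd.M12.dg; rewrite [Cfsg.Agent.LsF.ndiv_pat, Cfsg.Agent.LsF.nmod_pat, Cfsg.Agent.LsF.npow_pat]; exact rfl) | exact rfl⟩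
private noncomputable def _root_.Cfsg.Agent.LsF.fa9f193_2 : {f // @Cfsg.Agent.CoThreeStd.M12.mulT = f} := ⟨_, by first | (delta Cfsg.Agent.CoThreeStd.M12.mulT; rewrite [Cfsg.Agent.LsF.fa9f193_0.2, Cfsg.Agent.LsF.fa9f193_1.2]; exact rfl) | exact rfl⟩
private noncomputable def _root_.Cfsg.Agent.LsF.fa9f193_3 : {f // @Cfsg.Agent.CoThreeStd.M12.tl = f} := ⟨_, by first | (delta Cfsg.Agent.CoThreeStd.M12.tl; rewrite [Cfsg.Agent.LsF.getD_eq]; exact rfl) | exact rfl⟩
private noncomputable def _root_.Cfsg.Agent.LsF.fa9f193_4 : {f // @Cfsg.Agent.CoThreeStd.M12.wt = f} := ⟨_, by first | (delta Cfsg.Agent.CoThreeStd.M12.wt; rewrite [Cfsg.Agent.LsF.fa9f193_2.2, Cfsg.Agent.LsF.fa9f193_3.2, Cfsg.Agent.LsF.foldr_eq]; exact rfl) | exact rfl⟩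
private noncomputable def _root_.Cfsg.Agent.LsF.fa9f193_5 : {f // @Cfsg.Agent.H675.GT.bt = f} := ⟨_, by first | (delta Cfsg.Agent.H675.GT.bt; rewrite [Cfsg.Agent.LsF.zdecEq_eq, Cfsg.Agent.LsF.ite_eq]; exact rfl) | exact rfl⟩
private noncomputable def _root_.Cfsg.Agent.LsF.fa9f193_6 : {f // @Cfsg.Agent.H675.GT.wd = f} := ⟨_, by first | (delta Cfsg.Agent.H675.GT.wd; rewrite [Cfsg.Agent.LsF.fa9f193_5.2, Cfsg.Agent.LsF.lappend_pat]; exact rfl) | exact rfl⟩
private noncomputable def _root_.Cfsg.Agent.LsF.fa9f193_7 : {f // @Cfsg.Agent.H675.GT.T = f} := ⟨_, by first | (delta Cfsg.Agent.H675.GT.T; rewrite [Cfsg.Agent.LsF.nadd_pat, Cfsg.Agent.LsF.nmul_pat, Cfsg.Agent.LsF.zval_eq, Cfsg.Agent.LsF.getD_eq]; exact rfl) | exact rfl⟩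
private noncomputable def _root_.Cfsg.Agent.LsF.fa9f193_8 : {f // @Cfsg.Agent.H675.GT.instFintypeU2 = f} := ⟨_, by first | (delta Cfsg.Agent.H675.GT.instFintypeU2; rewrite [Cfsg.Agent.LsF.zFintype_eq, Cfsg.Agent.LsF.prodFintype_eq, Cfsg.Agent.LsF.ofEqv_eq]; exact rfl) | exact rfl⟩
theorem T_eq : ∀ x : U2, wt (wd x) = T x := by (refine of_decide_eq_true ?_; (try (rewrite [Cfsg.Agent.LsF.fa9f193_4.2, Cfsg.Agent.LsF.fa9f193_6.2, Cfsg.Agent.LsF.fa9f193_7.2, Cfsg.Agent.LsF.fa9f193_8.2, Cfsg.Agent.LsF.dForall_eq, Cfsg.Agent.LsF.instDecEq_eq, Cfsg.Agent.LsF.decide_eq])); decide +kernel)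

private noncomputable def _root_.Cfsg.Agent.LsF.fa9f193_9 : {f // @Cfsg.Agent.H675.GT.gn = f} := ⟨_, by first | (delta Cfsg.Agent.H675.GT.gn; rewrite [Cfsg.Agent.LsF.dFinEq_eq, Cfsg.Agent.LsF.ite_eq]; exact rfl) | exact rfl⟩
theorem mul_gn : ∀ (x : U2) (i : Fin 6), mulT (T x) (T (gn i)) = T (x * gn i) := by (refine of_decide_eq_true ?_; (try (rewrite [Cfsg.Agent.LsF.fa9f193_2.2, Cfsg.Agent.LsF.fa9f193_7.2, Cfsg.Agent.LsF.fa9f193_9.2, Cfsg.Agent.LsF.fa9f193_8.2, Cfsg.Agent.LsF.dForall_eq, Cfsg.Agent.LsF.instDecEq_eq, Cfsg.Agent.LsF.dForallFin_eq, Cfsg.Agent.LsF.decide_eq])); decide +kernel)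

/-- the map -/
def ph (x : U2) : G12 := el (wd x)

theorem ph_rep (x : U2) : Rep (ph x : P12) (T x) := by
  rw [← T_eq]
  exact el_rep _

theorem eq_of_rep {x y : G12} {s t : ℕ} (hx : Rep (x : P12) s) (hy : Rep (y : P12) t) (h : s = t) : x = y :=
  Subtype.ext ((hx.eq_iff hy).2 h)

theorem rep_mul {x y : G12} {s t : ℕ} (hx : Rep (x : P12) s) (hy : Rep (y : P12) t) :
    Rep ((x * y : G12) : P12) (mulT s t) := hx.mul hy

theorem rep_eq {x y : G12} {s t : ℕ} (hx : Rep (x : P12) s) (hy : Rep (y : P12) t) (h : x = y) : s = t :=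
  (hx.eq_iff hy).1 (congrArg Subtype.val h)

theorem ph_mul_gn (x : U2) (i : Fin 6) : ph (x * gn i) = ph x * ph (gn i) :=
  eq_of_rep (ph_rep _) (rep_mul (ph_rep _) (ph_rep _)) (mul_gn x i).symm

theorem ph_one : ph 1 = 1 := by
  show el (wd 1) = 1
  rw [← el_nil]
  exact el_eq (by decide +kernel)

/-- the bit of a generator -/
def gb (k : ZMod 2) (i : Fin 6) : U2 := if k = 0 then 1 else gn i

theorem nf : ∀ x : U2, x = gb x.a 0 * gb x.b 1 * gb x.c 2 * gb x.d 3 * gb x.e 4 * gb x.f 5 := by decide +kernel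

theorem ph_mul_gb (x : U2) (k : ZMod 2) (i : Fin 6) : ph (x * gb k i) = ph x * ph (gb k i) := by
  unfold gb
  split
  · rw [mul_one, ph_one, mul_one]
  · exact ph_mul_gn x i

theorem ph_mul (x y : U2) : ph (x * y) = ph x * ph y := by
  rw [nf y]
  simp only [← mul_assoc, ph_mul_gb]

/-- the homomorphism -/
def phi : U2 →* G12 := MonoidHom.mk' ph ph_mul

theorem phi_rep (x : U2) : Rep (phi x : P12) (T x) := ph_rep x

theorem T_inj : ∀ x : U2, T x = T 1 → x = 1 := by decide +kernel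

theorem phi_injective : Function.Injective phi := by
  rw [injective_iff_map_eq_one]
  intro x hx
  apply T_inj
  refine rep_eq (phi_rep x) (phi_rep 1) ?_
  rw [hx, map_one]

/-! ### the two normalisers -/

/-- an element of order three normalising `Q_a` -/
def t : G12 := el [1, 2, 5, 0, 5, 4, 3, 5, 0, 5]

/-- an involution normalising `Q_b` -/
def s : G12 := el [5, 0, 2, 5]

def tT : ℕ := wt [1, 2, 5, 0, 5, 4, 3, 5, 0, 5]
def sT : ℕ := wt [5, 0, 2, 5]
def tiT : ℕ := wt [5, 0, 5, 3, 4, 5, 0, 5, 2, 1]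

theorem t_rep : Rep (t : P12) tT := el_rep _
theorem s_rep : Rep (s : P12) sT := el_rep _

theorem t_inv : t⁻¹ = el [5, 0, 5, 3, 4, 5, 0, 5, 2, 1] := by
  rw [t, ← el_reverse]
  rfl

theorem s_inv : s⁻¹ = s := by
  rw [s, ← el_reverse]
  exact el_eq (by decide +kernel)

theorem ti_rep : Rep ((t⁻¹ : G12) : P12) tiT := by
  rw [t_inv]
  exact el_rep _

theorem t_three : t ^ 3 = 1 := by
  rw [pow_succ, pow_two, t, ← el_append, ← el_append, ← el_nil]
  exact el_eq (by decide +kernel)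

theorem z_eq : ∀ x : U2, x = gn 5 → wt [1, 4] = T x := by decide +kernel

theorem phi_gn5 : phi (gn 5) = Cfsg.Agent.Omega.Quasithin.M12.z :=
  eq_of_rep (phi_rep _) (el_rep [1, 4]) (z_eq _ rfl).symm

private noncomputable def _root_.Cfsg.Agent.LsF.fa9f193_12 : {f // @Cfsg.Agent.H675.GT.tT = f} := ⟨_, by first | (delta Cfsg.Agent.H675.GT.tT; rewrite [Cfsg.Agent.LsF.fa9f193_4.2]; exact rfl) | exact rfl⟩
theorem tbl_t : ∀ x : U2, x.a = 0 → ∃ y : U2, y.a = 0 ∧ mulT tT (T x) = mulT (T y) tT := by (refine of_decide_eq_true ?_; (try (rewrite [Cfsg.Agent.LsF.fa9f193_2.2, Cfsg.Agent.LsF.fa9f193_12.2, Cfsg.Agent.LsF.fa9f193_7.2, Cfsg.Agent.LsF.fa9f193_8.2, Cfsg.Agent.LsF.zdecEq_eq, Cfsg.Agent.LsF.dForall_eq, Cfsg.Agent.LsF.dExists_eq, Cfsg.Agent.LsF.instDecEq_eq, Cfsg.Agent.LsF.dAnd_eq, Cfsg.Agent.LsF.dAllP_eq, Cfsg.Agent.LsF.decide_eq])); decide +kernel)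

private noncomputable def _root_.Cfsg.Agent.LsF.fa9f193_13 : {f // @Cfsg.Agent.H675.GT.sT = f} := ⟨_, by first | (delta Cfsg.Agent.H675.GT.sT; rewrite [Cfsg.Agent.LsF.fa9f193_4.2]; exact rfl) | exact rfl⟩
theorem tbl_s : ∀ x : U2, x.b = 0 → ∃ y : U2, y.b = 0 ∧ mulT sT (T x) = mulT (T y) sT := by (refine of_decide_eq_true ?_; (try (rewrite [Cfsg.Agent.LsF.fa9f193_2.2, Cfsg.Agent.LsF.fa9f193_13.2, Cfsg.Agent.LsF.fa9f193_7.2, Cfsg.Agent.LsF.fa9f193_8.2, Cfsg.Agent.LsF.zdecEq_eq, Cfsg.Agent.LsF.dForall_eq, Cfsg.Agent.LsF.dExists_eq, Cfsg.Agent.LsF.instDecEq_eq, Cfsg.Agent.LsF.dAnd_eq, Cfsg.Agent.LsF.dAllP_eq, Cfsg.Agent.LsF.decide_eq])); decide +kernel)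

/-- `t` normalises `Q_a` -/
theorem t_norm {x : U2} (hx : x.a = 0) : ∃ y : U2, y.a = 0 ∧ phi y = t * phi x * t⁻¹ := by
  obtain ⟨y, hy, h⟩ := tbl_t x hx
  refine ⟨y, hy, ?_⟩
  rw [eq_mul_inv_iff_mul_eq]
  exact (eq_of_rep (rep_mul t_rep (phi_rep x)) (rep_mul (phi_rep y) t_rep) h).symm

/-- `s` normalises `Q_b` -/
theorem s_norm {x : U2} (hx : x.b = 0) : ∃ y : U2, y.b = 0 ∧ phi y = s * phi x * s⁻¹ := by
  obtain ⟨y, hy, h⟩ := tbl_s x hx
  refine ⟨y, hy, ?_⟩
  rw [eq_mul_inv_iff_mul_eq]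
  exact (eq_of_rep (rep_mul s_rep (phi_rep x)) (rep_mul (phi_rep y) s_rep) h).symm

theorem tbl_fix : ∀ x : U2, x.a = 0 → mulT tT (T x) = mulT (T x) tT → x.b = 0 ∧ x.c = 0 ∧ x.d = 0 ∧ x.e = 0 := by
  decide +kernel

/-- `t` acts fixed point freely on `Q_a / Z₁` -/
theorem t_fix {x : U2} (hx : x.a = 0) (h : phi x = t * phi x * t⁻¹) : x.b = 0 ∧ x.c = 0 ∧ x.d = 0 ∧ x.e = 0 := by
  rw [eq_mul_inv_iff_mul_eq] at h
  exact tbl_fix x hx (rep_eq (rep_mul t_rep (phi_rep x)) (rep_mul (phi_rep x) t_rep) h.symm)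

private noncomputable def _root_.Cfsg.Agent.LsF.fa9f193_14 : {f // @Cfsg.Agent.H675.GT.tiT = f} := ⟨_, by first | (delta Cfsg.Agent.H675.GT.tiT; rewrite [Cfsg.Agent.LsF.fa9f193_4.2]; exact rfl) | exact rfl⟩
theorem tbl_nt : ∀ h : U2, ∃ q : U2, q.a = 0 ∧
    mulT (mulT (mulT tT (T (gn 0))) (mulT tiT (T q))) (mulT (mulT tT (T (gn 0))) (mulT tiT (T h))) ≠
      mulT (T h) (T q) := by
  (refine of_decide_eq_true ?_; (try (rewrite [Cfsg.Agent.LsF.fa9f193_2.2, Cfsg.Agent.LsF.fa9f193_12.2, Cfsg.Agent.LsF.fa9f193_7.2, Cfsg.Agent.LsF.fa9f193_9.2, Cfsg.Agent.LsF.fa9f193_14.2, Cfsg.Agent.LsF.fa9f193_8.2, Cfsg.Agent.LsF.zdecEq_eq, Cfsg.Agent.LsF.dForall_eq, Cfsg.Agent.LsF.dExists_eq, Cfsg.Agent.LsF.instDecEq_eq, Cfsg.Agent.LsF.dAnd_eq, Cfsg.Agent.LsF.dNot_eq, Cfsg.Agent.LsF.decide_eq])); decide +kernel)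

theorem gn_sq : ∀ i : Fin 6, gn i * gn i = 1 := by decide +kernel

/-- `t` does not normalise `Aut_S(Q_a)` -/
theorem t_not (h : U2) : ∃ q : U2, q.a = 0 ∧
    (t * phi (gn 0) * t⁻¹) * phi q * (t * phi (gn 0) * t⁻¹)⁻¹ ≠ phi h * phi q * (phi h)⁻¹ := by
  obtain ⟨q, hq, hne⟩ := tbl_nt h
  refine ⟨q, hq, fun he => hne ?_⟩
  have h0 : (phi (gn 0))⁻¹ = phi (gn 0) := by
    rw [← map_inv, inv_eq_of_mul_eq_one_left (gn_sq 0)]
  have h1 : (t * phi (gn 0) * t⁻¹)⁻¹ = t * phi (gn 0) * t⁻¹ := by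
    rw [mul_inv_rev, mul_inv_rev, inv_inv, h0, mul_assoc]
  rw [h1, eq_mul_inv_iff_mul_eq] at he
  refine rep_eq (rep_mul (rep_mul (rep_mul t_rep (phi_rep (gn 0))) (rep_mul ti_rep (phi_rep q)))
    (rep_mul (rep_mul t_rep (phi_rep (gn 0))) (rep_mul ti_rep (phi_rep h)))) (rep_mul (phi_rep h) (phi_rep q)) ?_
  rw [← he]
  group

theorem tbl_ns : ∀ h : U2, ∃ q : U2, q.b = 0 ∧
    mulT (mulT (mulT sT (T (gn 1))) (mulT sT (T q))) (mulT (mulT sT (T (gn 1))) (mulT sT (T h))) ≠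
      mulT (T h) (T q) := by
  (refine of_decide_eq_true ?_; (try (rewrite [Cfsg.Agent.LsF.fa9f193_2.2, Cfsg.Agent.LsF.fa9f193_13.2, Cfsg.Agent.LsF.fa9f193_7.2, Cfsg.Agent.LsF.fa9f193_9.2, Cfsg.Agent.LsF.fa9f193_8.2, Cfsg.Agent.LsF.zdecEq_eq, Cfsg.Agent.LsF.dForall_eq, Cfsg.Agent.LsF.dExists_eq, Cfsg.Agent.LsF.instDecEq_eq, Cfsg.Agent.LsF.dAnd_eq, Cfsg.Agent.LsF.dNot_eq, Cfsg.Agent.LsF.decide_eq])); decide +kernel)

/-- `s` does not normalise `Aut_S(Q_b)` -/
theorem s_not (h : U2) : ∃ q : U2, q.b = 0 ∧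
    (s * phi (gn 1) * s⁻¹) * phi q * (s * phi (gn 1) * s⁻¹)⁻¹ ≠ phi h * phi q * (phi h)⁻¹ := by
  obtain ⟨q, hq, hne⟩ := tbl_ns h
  refine ⟨q, hq, fun he => hne ?_⟩
  have h0 : (phi (gn 1))⁻¹ = phi (gn 1) := by
    rw [← map_inv, inv_eq_of_mul_eq_one_left (gn_sq 1)]
  have h1 : (s * phi (gn 1) * s⁻¹)⁻¹ = s * phi (gn 1) * s := by
    rw [mul_inv_rev, mul_inv_rev, inv_inv, h0, s_inv, mul_assoc]
  rw [h1, s_inv, eq_mul_inv_iff_mul_eq] at he
  refine rep_eq (rep_mul (rep_mul (rep_mul s_rep (phi_rep (gn 1))) (rep_mul s_rep (phi_rep q)))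
    (rep_mul (rep_mul s_rep (phi_rep (gn 1))) (rep_mul s_rep (phi_rep h)))) (rep_mul (phi_rep h) (phi_rep q)) ?_
  rw [← he]
  group

/-! ### the walk `x₆ → x₅ → x₄x₆ → outside Q_a` -/

theorem tbl_walk : mulT sT (T (gn 5)) = mulT (T (gn 4)) sT ∧ mulT tT (T (gn 4)) = mulT (T (gn 3 * gn 5)) tT ∧
    ∃ y : U2, y.a ≠ 0 ∧ y.b = 0 ∧ mulT sT (T (gn 3 * gn 5)) = mulT (T y) sT := by
  decide +kernel

theorem walk1 : phi (gn 4) = s * phi (gn 5) * s⁻¹ := by
  rw [eq_mul_inv_iff_mul_eq]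
  exact (eq_of_rep (rep_mul s_rep (phi_rep _)) (rep_mul (phi_rep _) s_rep) tbl_walk.1).symm

theorem walk2 : phi (gn 3 * gn 5) = t * phi (gn 4) * t⁻¹ := by
  rw [eq_mul_inv_iff_mul_eq]
  exact (eq_of_rep (rep_mul t_rep (phi_rep _)) (rep_mul (phi_rep _) t_rep) tbl_walk.2.1).symm

theorem walk3 : ∃ y : U2, y.a ≠ 0 ∧ y.b = 0 ∧ phi y = s * phi (gn 3 * gn 5) * s⁻¹ := by
  obtain ⟨y, hy, hb, h⟩ := tbl_walk.2.2
  refine ⟨y, hy, hb, ?_⟩
  rw [eq_mul_inv_iff_mul_eq]
  exact (eq_of_rep (rep_mul s_rep (phi_rep _)) (rep_mul (phi_rep _) s_rep) h).symm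

/-! ### centres -/

theorem cent_Qa : ∀ x : U2, (∀ i : Fin 6, i ≠ 0 → x * gn i = gn i * x) → x = 1 ∨ x = gn 5 := by decide +kernel

end Cfsg.Agent.H675.GT

private theorem dce_c75c81509d2c : _root_.True := by
  try have : _root_.True := by simp only [_root_.Cfsg.Agent.H675.GT.s.eq_1]
  try have : _root_.True := by simp only [_root_.Cfsg.Agent.H675.GT.t.eq_1]
  exact _root_.True.intro
end

-- part: H771/GT/CardOm
section
set_option linter.all false
open scoped Cfsg.Agent.FastGrp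

/-!
# S5211: the order of a group of isometries of the form `Om` (helper771 for helper949)
-/

set_option autoImplicit false

namespace Cfsg.Agent.H771.GT

open Cfsg Cfsg.Agent.H779.G2 Matrix

universe u

section

variable {K : Type u} [Field K]

/-- the change of coordinates -/
def cmat : Matrix (Fin 4) (Fin 4) K := Matrix.diagonal ![1, -3, 1, 1]

/-- its inverse -/
def cinv : Matrix (Fin 4) (Fin 4) K := Matrix.diagonal ![1, (-3)⁻¹, 1, 1]

/-- the reindexing -/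
def e4 : Fin 4 ≃ Fin 2 ⊕ Fin 2 where
  toFun := ![Sum.inl 0, Sum.inl 1, Sum.inr 1, Sum.inr 0]
  invFun := Sum.elim ![0, 1] ![3, 2]
  left_inv := by intro i; fin_cases i <;> rfl
  right_inv := by intro i; rcases i with i | i <;> fin_cases i <;> rfl

/-- the form of Mathlib, reindexed -/
def jmat : Matrix (Fin 4) (Fin 4) K := !![0, 0, 0, -1; 0, 0, -1, 0; 0, 1, 0, 0; 1, 0, 0, 0]

theorem jmat_eq : (Matrix.J (Fin 2) K) = (jmat : Matrix (Fin 4) (Fin 4) K).submatrix e4.symm e4.symm := by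
  ext i j
  rcases i with i | i <;> rcases j with j | j <;> fin_cases i <;> fin_cases j <;>
    simp [Matrix.J, jmat, e4, Matrix.submatrix]

theorem cmat_cinv (h3 : (3 : K) ≠ 0) : (cmat : Matrix (Fin 4) (Fin 4) K) * cinv = 1 := by
  rw [cmat, cinv, Matrix.diagonal_mul_diagonal, ← Matrix.diagonal_one]
  congr 1
  funext i
  have h : (-3 : K) ≠ 0 := neg_ne_zero.2 h3
  fin_cases i
  · exact mul_one _
  · exact mul_inv_cancel₀ h
  · exact mul_one _
  · exact mul_one _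

theorem cinv_cmat (h3 : (3 : K) ≠ 0) : (cinv : Matrix (Fin 4) (Fin 4) K) * cmat = 1 := by
  rw [cmat, cinv, Matrix.diagonal_mul_diagonal, ← Matrix.diagonal_one]
  congr 1
  funext i
  have h : (-3 : K) ≠ 0 := neg_ne_zero.2 h3
  fin_cases i
  · exact mul_one _
  · exact inv_mul_cancel₀ h
  · exact mul_one _
  · exact mul_one _

theorem om_eq' : (cmat : Matrix (Fin 4) (Fin 4) K) * jmat * cmat = - Om := by
  ext i j
  fin_cases i <;> fin_cases j <;>
    simp [cmat, jmat, Om, Matrix.mul_apply, Matrix.diagonal]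

theorem jmat_eq_om (h3 : (3 : K) ≠ 0) : (jmat : Matrix (Fin 4) (Fin 4) K) = cinv * (-Om) * cinv := by
  rw [← om_eq']
  calc (jmat : Matrix (Fin 4) (Fin 4) K) = 1 * jmat * 1 := by rw [one_mul, mul_one]
    _ = (cinv * cmat) * jmat * (cmat * cinv) := by rw [cmat_cinv h3, cinv_cmat h3]
    _ = cinv * (cmat * jmat * cmat) * cinv := by simp only [mul_assoc]

theorem pres (h3 : (3 : K) ≠ 0) {g : Matrix (Fin 4) (Fin 4) K} (hg : g.transpose * Om * g = Om) :
    (cmat * g * cinv).transpose * jmat * (cmat * g * cinv) = jmat := by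
  have t1 : (cmat : Matrix (Fin 4) (Fin 4) K).transpose = cmat := Matrix.diagonal_transpose _
  have t2 : (cinv : Matrix (Fin 4) (Fin 4) K).transpose = cinv := Matrix.diagonal_transpose _
  have e1 := cmat_cinv (K := K) h3
  have e2 := cinv_cmat (K := K) h3
  rw [Matrix.transpose_mul, Matrix.transpose_mul, t1, t2]
  calc cinv * (g.transpose * cmat) * jmat * (cmat * g * cinv)
      = cinv * (g.transpose * (cmat * jmat * cmat) * g) * cinv := by simp only [mul_assoc]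
    _ = cinv * (g.transpose * (-Om) * g) * cinv := by rw [om_eq']
    _ = cinv * (-Om) * cinv := by rw [mul_neg, neg_mul, hg]
    _ = jmat := (jmat_eq_om h3).symm

theorem card_om {K : Type u} [Field K] [Finite K] (h3 : (3 : K) ≠ 0) (L : Subgroup (GL (Fin 4) K))
    (hL : ∀ g ∈ L, (g : Matrix (Fin 4) (Fin 4) K).transpose * Om * (g : Matrix (Fin 4) (Fin 4) K) = Om) :
    Nat.card L ∣ (Nat.card K) ^ 4 * ((Nat.card K) ^ 2 - 1) * ((Nat.card K) ^ 4 - 1) := by
  have := Fintype.ofFinite K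
  let f : L →* Matrix.symplecticGroup (Fin 2) K :=
    { toFun := fun g => ⟨(cmat * ((g : GL (Fin 4) K) : Matrix (Fin 4) (Fin 4) K) * cinv).submatrix e4.symm e4.symm, by
        rw [SymplecticGroup.mem_iff', jmat_eq, Matrix.transpose_submatrix, Matrix.submatrix_mul_equiv,
          Matrix.submatrix_mul_equiv, pres h3 (hL g g.2)]⟩
      map_one' := by
        apply Subtype.ext
        show (cmat * (1 : Matrix (Fin 4) (Fin 4) K) * cinv).submatrix e4.symm e4.symm = 1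
        rw [mul_one, cmat_cinv h3, Matrix.submatrix_one_equiv]
      map_mul' := by
        intro g g'
        apply Subtype.ext
        show (cmat * (((g : GL (Fin 4) K) : Matrix (Fin 4) (Fin 4) K) * ((g' : GL (Fin 4) K) : Matrix (Fin 4) (Fin 4) K)) *
          cinv).submatrix e4.symm e4.symm =
          (cmat * ((g : GL (Fin 4) K) : Matrix (Fin 4) (Fin 4) K) * cinv).submatrix e4.symm e4.symm *
          (cmat * ((g' : GL (Fin 4) K) : Matrix (Fin 4) (Fin 4) K) * cinv).submatrix e4.symm e4.symm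
        rw [Matrix.submatrix_mul_equiv]
        congr 1
        calc cmat * (((g : GL (Fin 4) K) : Matrix (Fin 4) (Fin 4) K) * ((g' : GL (Fin 4) K) : Matrix (Fin 4) (Fin 4) K)) * cinv
            = cmat * ((g : GL (Fin 4) K) : Matrix (Fin 4) (Fin 4) K) * 1 *
              ((g' : GL (Fin 4) K) : Matrix (Fin 4) (Fin 4) K) * cinv := by simp only [mul_assoc, one_mul]
          _ = cmat * ((g : GL (Fin 4) K) : Matrix (Fin 4) (Fin 4) K) * (cinv * cmat) *
              ((g' : GL (Fin 4) K) : Matrix (Fin 4) (Fin 4) K) * cinv := by rw [cinv_cmat h3]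
          _ = _ := by simp only [mul_assoc] }
  have hf : Function.Injective f := by
    intro g g' hgg
    have h1 : (cmat * ((g : GL (Fin 4) K) : Matrix (Fin 4) (Fin 4) K) * cinv).submatrix e4.symm e4.symm =
        (cmat * ((g' : GL (Fin 4) K) : Matrix (Fin 4) (Fin 4) K) * cinv).submatrix e4.symm e4.symm :=
      congrArg Subtype.val hgg
    have h2 : cmat * ((g : GL (Fin 4) K) : Matrix (Fin 4) (Fin 4) K) * cinv =
        cmat * ((g' : GL (Fin 4) K) : Matrix (Fin 4) (Fin 4) K) * cinv := by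
      have h3 := congrArg (fun M => M.submatrix e4 e4) h1
      simpa using h3
    have h4 : ∀ x : Matrix (Fin 4) (Fin 4) K, cinv * (cmat * x * cinv) * cmat = x := by
      intro x
      calc cinv * (cmat * x * cinv) * cmat = (cinv * cmat) * x * (cinv * cmat) := by simp only [mul_assoc]
        _ = x := by rw [cinv_cmat h3, one_mul, mul_one]
    have h5 := congrArg (fun x => cinv * x * cmat) h2
    simp only [h4] at h5
    exact Subtype.ext (Units.ext h5)
  have h1 := Subgroup.card_dvd_of_injective f hf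
  have h2 := Cfsg.Agent.LieClassical.SympCount.card_symplecticGroup (F := K) 2
  rw [h2, Finset.prod_range_succ, Finset.prod_range_one, ← Nat.card_eq_fintype_card] at h1
  rw [mul_assoc]
  exact h1

end

end Cfsg.Agent.H771.GT

private theorem dce_0a0ad7b826a2 : _root_.True := by
  try have : _root_.True := by simp only [_root_.Cfsg.Agent.H771.GT.jmat.eq_1]
  try have : _root_.True := by simp only [_root_.Cfsg.Agent.H779.G2.Om.eq_1]
  try have : _root_.True := by simp only [_root_.Cfsg.Agent.H771.GT.cinv.eq_1]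
  try have : _root_.True := by simp only [_root_.Cfsg.Agent.H771.GT.e4.eq_1]
  try have : _root_.True := by simp only [_root_.Cfsg.Agent.H771.GT.cmat.eq_1]
  exact _root_.True.intro
end

-- part: H949/GT/Lin
section
set_option linter.all false
open scoped Cfsg.Agent.FastGrp

/-!
# S5211, the short root parabolic (helper949): the kernel `K0`, the linear part `G0`, the linear representation
-/

set_option autoImplicit false

namespace Cfsg.Agent.H949.GT

open Cfsg Cfsg.FusionSystem Cfsg.Agent.H756.PU Cfsg.Agent.H779.G2 Cfsg.Agent.H103.GT Cfsg.Agent.H802 Matrix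

universe u

variable {K : Type u} [Field K] {p n : ℕ} {Γ : Subgroup (MulAut (Qa K))} {D : Subgroup (MulAut (GU K))}

/-- uniqueness of the action on `Q_a / Z₁` -/
theorem uniqV {γ : MulAut (Qa K)} {M M' : Matrix (Fin 4) (Fin 4) K} {τ τ' : K ≃+* K}
    (h : ∀ g : Qa K, co ((γ g : Qa K) : GU K) = M.mulVec (fun i => τ (co (g : GU K) i)))
    (h' : ∀ g : Qa K, co ((γ g : Qa K) : GU K) = M'.mulVec (fun i => τ' (co (g : GU K) i)))
    (i₀ j₀ : Fin 4) (h0 : M i₀ j₀ ≠ 0) : M = M' ∧ τ = τ' := by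
  have key : ∀ (c : K) (i j : Fin 4), M i j * τ c = M' i j * τ' c := by
    intro c i j
    obtain ⟨g, hg⟩ := co_surj (K := K) (Pi.single j c)
    have h1 := (h g).symm.trans (h' g)
    have h2 := congrFun h1 i
    rw [hg] at h2
    have h3 : ∀ (σ : K ≃+* K) (N : Matrix (Fin 4) (Fin 4) K),
        N.mulVec (fun k => σ ((Pi.single j c : Fin 4 → K) k)) i = N i j * σ c := by
      intro σ N
      have : (fun k => σ ((Pi.single j c : Fin 4 → K) k)) = Pi.single j (σ c) := by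
        ext k
        by_cases hk : k = j
        · subst hk
          simp
        · simp [Pi.single_eq_of_ne hk]
      rw [this]
      simp
    rw [h3, h3] at h2
    exact h2
  have hM : M = M' := by
    ext i j
    have := key 1 i j
    simpa using this
  refine ⟨hM, ?_⟩
  ext c
  have := key c i₀ j₀
  rw [← hM] at this
  exact mul_left_cancel₀ h0 this

/-- the elements trivial on `Q_a / Z₁` -/
def K0 (Γ : Subgroup (MulAut (Qa K))) : Subgroup Γ where
  carrier := {γ | ∀ g : Qa K, co ((γ.1 g : Qa K) : GU K) = co (g : GU K)}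
  one_mem' := fun _ => rfl
  mul_mem' := fun {γ γ'} h h' g => (h (γ'.1 g)).trans (h' g)
  inv_mem' := fun {γ} h g => by
    have h1 := h (γ.1⁻¹ g)
    rw [MulAut.apply_inv_self] at h1
    exact h1.symm

theorem K0_acts (hact : ∀ γ ∈ Γ, ∃ M τ m, m ≠ 0 ∧ Acts γ M τ m) {κ : Γ} (hκ : κ ∈ K0 Γ) :
    Acts κ.1 1 (RingEquiv.refl K) 1 := by
  obtain ⟨M, τ, m, -, h⟩ := hact κ.1 κ.2
  obtain ⟨h1, h2⟩ := uniqV (γ := κ.1) (M := 1) (τ := RingEquiv.refl K) (fun g => by
    rw [Matrix.one_mulVec]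
    exact hκ g) h.V 0 0 (by simp)
  rw [← h1, ← h2] at h
  have h3 := h.form
  rw [Matrix.transpose_one, Matrix.one_mul, Matrix.mul_one] at h3
  have h4 := congrFun (congrFun h3 0) 3
  have h5 : m = 1 := by
    simp [Om] at h4
    exact h4.symm
  rwa [h5] at h

theorem K0_pow (hK : HypG K p n) (hact : ∀ γ ∈ Γ, ∃ M τ m, m ≠ 0 ∧ Acts γ M τ m) {κ : Γ} (hκ : κ ∈ K0 Γ) :
    κ ^ p = 1 := by
  have h := K0_acts hact hκ
  have hchar := hK.char
  have hz1 : ∀ g : Qa K, (g : GU K) ∈ Z1 K → κ.1 g = g := by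
    rintro g hg
    obtain ⟨h1, h2⟩ := h.Z g hg
    obtain ⟨a1, a2, a3, a4, a5⟩ := hg
    obtain ⟨b1, b2, b3, b4, b5⟩ := h1
    apply Subtype.ext
    refine GU.ext (b1.trans a1.symm) (b2.trans a2.symm) (b3.trans a3.symm) (b4.trans a4.symm) (b5.trans a5.symm) ?_
    rw [h2, one_mul]
    rfl
  have hζ : ∀ g : Qa K, ((g⁻¹ * κ.1 g : Qa K) : GU K) ∈ Z1 K := by
    intro g
    have h1 := hκ g
    have hg : (g : GU K).a = 0 := g.2
    have hg' : ((κ.1 g : Qa K) : GU K).a = 0 := (κ.1 g).2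
    have e0 : ((κ.1 g : Qa K) : GU K).b = (g : GU K).b := congrFun h1 0
    have e1 : ((κ.1 g : Qa K) : GU K).c = (g : GU K).c := congrFun h1 1
    have e2 : ((κ.1 g : Qa K) : GU K).d = (g : GU K).d := congrFun h1 2
    have e3 : ((κ.1 g : Qa K) : GU K).e = (g : GU K).e := congrFun h1 3
    refine ⟨(g⁻¹ * κ.1 g).2, ?_, ?_, ?_, ?_⟩ <;>
      simp only [Subgroup.coe_mul, Subgroup.coe_inv, GU.mul_b, GU.mul_c, GU.mul_d, GU.mul_e, GU.inv_b, GU.inv_c, GU.inv_d,
        GU.inv_e, hg, hg', e0, e1, e2, e3] <;> ring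
  have hpow : ∀ (k : ℕ) (g : Qa K), ((κ ^ k : Γ) : MulAut (Qa K)) g = g * (g⁻¹ * κ.1 g) ^ k := by
    intro k
    induction k with
    | zero =>
      intro g
      rw [pow_zero, pow_zero, mul_one]
      rfl
    | succ k ih =>
      intro g
      rw [pow_succ']
      show κ.1 (((κ ^ k : Γ) : MulAut (Qa K)) g) = _
      rw [ih, map_mul, map_pow, hz1 _ (hζ g), pow_succ', ← mul_assoc, mul_inv_cancel_left]
  have hzp : ∀ z : Qa K, (z : GU K) ∈ Z1 K → z ^ p = 1 := by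
    rintro z ⟨a1, a2, a3, a4, a5⟩
    have h1 : ∀ k : ℕ, ((z ^ k : Qa K) : GU K) = ⟨0, 0, 0, 0, 0, k * (z : GU K).f⟩ := by
      intro k
      induction k with
      | zero =>
        rw [pow_zero]
        refine GU.ext rfl rfl rfl rfl rfl ?_
        show (0 : K) = ((0 : ℕ) : K) * _
        simp
      | succ k ih =>
        rw [pow_succ, Subgroup.coe_mul, ih]
        ext
        · simp [a1]
        · simp [a2]
        · simp [a1, a3]
        · simp [a1, a4]
        · simp [a1, a5]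
        · simp [a1, a2]
          ring
    apply Subtype.ext
    rw [h1, CharP.cast_eq_zero, zero_mul]
    rfl
  apply Subtype.ext
  apply MulEquiv.ext
  intro g
  rw [hpow, hzp _ (hζ g), mul_one]
  rfl

theorem K0_normal (hact : ∀ γ ∈ Γ, ∃ M τ m, m ≠ 0 ∧ Acts γ M τ m) : (K0 Γ).Normal := by
  refine ⟨fun κ hκ γ g => ?_⟩
  obtain ⟨M, τ, m, -, h⟩ := hact γ.1 γ.2
  show co ((γ.1 (κ.1 (γ.1⁻¹ g)) : Qa K) : GU K) = co (g : GU K)
  rw [h.V, hκ, ← h.V, MulAut.apply_inv_self]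

theorem K0_le (hK : HypG K p n) (hP : Par p (Qa K) Γ D) (hact : ∀ γ ∈ Γ, ∃ M τ m, m ≠ 0 ∧ Acts γ M τ m) :
    K0 Γ ≤ TG Γ := by
  have hfin := hK.fin
  have hfp : Fact p.Prime := ⟨hK.pp⟩
  obtain ⟨T, hT⟩ := exists_sylowP hK hP
  have hn := K0_normal hact
  have hpg : IsPGroup p (K0 Γ) := by
    rintro ⟨κ, hκ⟩
    exact ⟨1, Subtype.ext (by simpa using K0_pow hK hact hκ)⟩
  obtain ⟨Q, hQ⟩ := hpg.exists_le_sylow
  obtain ⟨g, hg⟩ := MulAction.exists_smul_eq Γ Q T
  intro κ hκ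
  have h1 : κ ∈ (T : Subgroup Γ) := by
    rw [← hg, Sylow.coe_subgroup_smul]
    refine ⟨g⁻¹ * κ * g, hQ ?_, ?_⟩
    · have := hn.conj_mem κ hκ g⁻¹
      rwa [inv_inv] at this
    · show g * (g⁻¹ * κ * g) * g⁻¹ = κ
      group
  rw [hT] at h1
  exact h1

/-- the elements acting linearly on `Q_a / Z₁` and trivially on `Z₁` -/
def G0 (Γ : Subgroup (MulAut (Qa K))) : Subgroup Γ where
  carrier := {γ | ∃ M, Acts γ.1 M (RingEquiv.refl K) 1}
  one_mem' := ⟨1, Acts.one⟩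
  mul_mem' := by
    rintro γ γ' ⟨M, h⟩ ⟨M', h'⟩
    have := h.mul' h'
    rw [mul_one] at this
    exact ⟨_, this⟩
  inv_mem' := by
    rintro γ ⟨M, h⟩
    have := h.lin_inv one_ne_zero
    rw [inv_one] at this
    exact ⟨_, this⟩

theorem G0_conj (hact : ∀ γ ∈ Γ, ∃ M τ m, m ≠ 0 ∧ Acts γ M τ m) (γ : Γ) {y : Γ} (hy : y ∈ G0 Γ) :
    γ * y * γ⁻¹ ∈ G0 Γ := by
  obtain ⟨Y, hY⟩ := hy
  obtain ⟨M, τ, m, -, h⟩ := hact γ.1 γ.2
  obtain ⟨M', τ', m', -, h'⟩ := hact γ.1⁻¹ (Γ.inv_mem γ.2)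
  exact conj_lin h h' hY

theorem TG_le_G0 : TG Γ ≤ G0 Γ := by
  intro c hc
  obtain ⟨a, ha⟩ := acts_TG hc
  exact ⟨_, ha⟩

/-- basis elements -/
noncomputable def bas (j : Fin 4) : Qa K := (co_surj (K := K) (Pi.single j 1)).choose

theorem co_bas (j : Fin 4) : co ((bas j : Qa K) : GU K) = Pi.single j 1 := (co_surj (K := K) (Pi.single j 1)).choose_spec

/-- the matrix of a linear element -/
noncomputable def matOf (γ : MulAut (Qa K)) : Matrix (Fin 4) (Fin 4) K :=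
  Matrix.of fun i j => co ((γ (bas j) : Qa K) : GU K) i

theorem Acts.eq_matOf {γ : MulAut (Qa K)} {M : Matrix (Fin 4) (Fin 4) K} {m : K} (h : Acts γ M (RingEquiv.refl K) m) :
    M = matOf γ := by
  ext i j
  rw [matOf, Matrix.of_apply, h.V, co_bas]
  show M i j = M.mulVec (Pi.single j 1) i
  simp

/-- the linear representation -/
noncomputable def lin (Γ : Subgroup (MulAut (Qa K))) : G0 Γ →* GL (Fin 4) K :=
  MonoidHom.toHomUnits
    { toFun := fun γ => matOf γ.1.1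
      map_one' := (Acts.eq_matOf Acts.one).symm
      map_mul' := fun γ γ' => by
        obtain ⟨M, h⟩ := γ.2
        obtain ⟨M', h'⟩ := γ'.2
        have h1 := (h.mul' h').eq_matOf
        rw [← h.eq_matOf, ← h'.eq_matOf]
        exact h1.symm }

theorem lin_coe (γ : G0 Γ) : ((lin Γ γ : GL (Fin 4) K) : Matrix (Fin 4) (Fin 4) K) = matOf γ.1.1 := rfl

theorem lin_acts (γ : G0 Γ) : Acts γ.1.1 ((lin Γ γ : GL (Fin 4) K) : Matrix (Fin 4) (Fin 4) K) (RingEquiv.refl K) 1 := by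
  obtain ⟨M, h⟩ := γ.2
  rw [lin_coe, ← h.eq_matOf]
  exact h

theorem lin_ker : (lin Γ).ker = (K0 Γ).subgroupOf (G0 Γ) := by
  ext γ
  rw [MonoidHom.mem_ker, Subgroup.mem_subgroupOf]
  have h := lin_acts γ
  constructor
  · intro h1 g
    rw [h1] at h
    rw [h.V, Units.val_one, Matrix.one_mulVec]
    rfl
  · intro h1
    apply Units.ext
    rw [Units.val_one]
    exact ((uniqV (γ := γ.1.1) (M := 1) (τ := RingEquiv.refl K) (fun g => by
      rw [Matrix.one_mulVec]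
      exact h1 g) h.V 0 0 (by simp)).1).symm

theorem lin_form (γ : G0 Γ) : ((lin Γ γ : GL (Fin 4) K) : Matrix (Fin 4) (Fin 4) K).transpose * Om *
    ((lin Γ γ : GL (Fin 4) K) : Matrix (Fin 4) (Fin 4) K) = Om := by
  rw [(lin_acts γ).form, one_smul]

end Cfsg.Agent.H949.GT

private theorem dce_af59cfc34306 : _root_.True := by
  try have : _root_.True := by simp only [_root_.Cfsg.Agent.H949.GT.matOf.eq_1]
  exact _root_.True.intro
end

-- part: H771/GT/WAlg
section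
set_option linter.all false
open scoped Cfsg.Agent.FastGrp

/-!
# S5211 (helper771): the matrix algebra `StWAlg`
-/

set_option autoImplicit false

namespace Cfsg.Agent.H771.GT

open Cfsg Cfsg.Agent.H779.G2 Matrix

universe u

theorem mul63 {K : Type u} [Field K] (a00 a01 a02 a03 a10 a11 a12 a13 a20 a21 a22 a23 a30 a31 a32 a33 b00 b01 b02 b03 b10 b11 b12 b13 b20 b21 b22 b23 b30 b31 b32 b33 : K) :
    (!![a00, a01, a02, a03;
      a10, a11, a12, a13;
      a20, a21, a22, a23;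
      a30, a31, a32, a33] : Matrix (Fin 4) (Fin 4) K) * !![b00, b01, b02, b03;
      b10, b11, b12, b13;
      b20, b21, b22, b23;
      b30, b31, b32, b33] =
    !![a00 * b00 + a01 * b10 + a02 * b20 + a03 * b30, a00 * b01 + a01 * b11 + a02 * b21 + a03 * b31, a00 * b02 + a01 * b12 + a02 * b22 + a03 * b32, a00 * b03 + a01 * b13 + a02 * b23 + a03 * b33;
      a10 * b00 + a11 * b10 + a12 * b20 + a13 * b30, a10 * b01 + a11 * b11 + a12 * b21 + a13 * b31, a10 * b02 + a11 * b12 + a12 * b22 + a13 * b32, a10 * b03 + a11 * b13 + a12 * b23 + a13 * b33;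
      a20 * b00 + a21 * b10 + a22 * b20 + a23 * b30, a20 * b01 + a21 * b11 + a22 * b21 + a23 * b31, a20 * b02 + a21 * b12 + a22 * b22 + a23 * b32, a20 * b03 + a21 * b13 + a22 * b23 + a23 * b33;
      a30 * b00 + a31 * b10 + a32 * b20 + a33 * b30, a30 * b01 + a31 * b11 + a32 * b21 + a33 * b31, a30 * b02 + a31 * b12 + a32 * b22 + a33 * b32, a30 * b03 + a31 * b13 + a32 * b23 + a33 * b33] := by
  ext i j
  rw [Matrix.mul_apply, Fin.sum_univ_four]
  fin_cases i <;> fin_cases j <;> rfl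

theorem eq63 {K : Type u} {a00 a01 a02 a03 a10 a11 a12 a13 a20 a21 a22 a23 a30 a31 a32 a33 b00 b01 b02 b03 b10 b11 b12 b13 b20 b21 b22 b23 b30 b31 b32 b33 : K}
    (h00 : a00 = b00) (h01 : a01 = b01) (h02 : a02 = b02) (h03 : a03 = b03) (h10 : a10 = b10) (h11 : a11 = b11) (h12 : a12 = b12) (h13 : a13 = b13) (h20 : a20 = b20) (h21 : a21 = b21) (h22 : a22 = b22) (h23 : a23 = b23) (h30 : a30 = b30) (h31 : a31 = b31) (h32 : a32 = b32) (h33 : a33 = b33) :
    (!![a00, a01, a02, a03;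
      a10, a11, a12, a13;
      a20, a21, a22, a23;
      a30, a31, a32, a33] : Matrix (Fin 4) (Fin 4) K) = !![b00, b01, b02, b03;
      b10, b11, b12, b13;
      b20, b21, b22, b23;
      b30, b31, b32, b33] := by
  subst_vars
  rfl

theorem ent63 {K : Type u} {a00 a01 a02 a03 a10 a11 a12 a13 a20 a21 a22 a23 a30 a31 a32 a33 : K} {M : Matrix (Fin 4) (Fin 4) K}
    (h : M = !![a00, a01, a02, a03;
      a10, a11, a12, a13;
      a20, a21, a22, a23;
      a30, a31, a32, a33]) :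
    M 0 0 = a00 ∧ M 0 1 = a01 ∧ M 0 2 = a02 ∧ M 0 3 = a03 ∧ M 1 2 = a12 := by
  subst h
  exact ⟨rfl, rfl, rfl, rfl, rfl⟩

theorem xm63 {K : Type u} [Field K] (t : K) :
    Xm t = !![1, 0, 0, 0; -t, 1, 0, 0; t ^ 2, -2 * t, 1, 0; -t ^ 3, 3 * t ^ 2, -3 * t, 1] := rfl

theorem om63 {K : Type u} [Field K] :
    (Om : Matrix (Fin 4) (Fin 4) K) = !![0, 0, 0, 1; 0, 0, -3, 0; 0, 3, 0, 0; -1, 0, 0, 0] := rfl

theorem tr63 {K : Type u} [Field K] (a00 a01 a02 a03 a10 a11 a12 a13 a20 a21 a22 a23 a30 a31 a32 a33 b00 b01 b02 b03 b10 b11 b12 b13 b20 b21 b22 b23 b30 b31 b32 b33 : K) :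
    (!![a00, a01, a02, a03;
      a10, a11, a12, a13;
      a20, a21, a22, a23;
      a30, a31, a32, a33] : Matrix (Fin 4) (Fin 4) K).transpose * !![b00, b01, b02, b03;
      b10, b11, b12, b13;
      b20, b21, b22, b23;
      b30, b31, b32, b33] =
    !![a00 * b00 + a10 * b10 + a20 * b20 + a30 * b30, a00 * b01 + a10 * b11 + a20 * b21 + a30 * b31, a00 * b02 + a10 * b12 + a20 * b22 + a30 * b32, a00 * b03 + a10 * b13 + a20 * b23 + a30 * b33;
      a01 * b00 + a11 * b10 + a21 * b20 + a31 * b30, a01 * b01 + a11 * b11 + a21 * b21 + a31 * b31, a01 * b02 + a11 * b12 + a21 * b22 + a31 * b32, a01 * b03 + a11 * b13 + a21 * b23 + a31 * b33;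
      a02 * b00 + a12 * b10 + a22 * b20 + a32 * b30, a02 * b01 + a12 * b11 + a22 * b21 + a32 * b31, a02 * b02 + a12 * b12 + a22 * b22 + a32 * b32, a02 * b03 + a12 * b13 + a22 * b23 + a32 * b33;
      a03 * b00 + a13 * b10 + a23 * b20 + a33 * b30, a03 * b01 + a13 * b11 + a23 * b21 + a33 * b31, a03 * b02 + a13 * b12 + a23 * b22 + a33 * b32, a03 * b03 + a13 * b13 + a23 * b23 + a33 * b33] := by
  ext i j
  rw [Matrix.mul_apply, Fin.sum_univ_four]
  fin_cases i <;> fin_cases j <;> rfl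

theorem frm63 {K : Type u} [Field K] (x y z t : K) :
    (!![0, 0, 0, x; 0, 0, y, 0; 0, z, 0, 0; t, 0, 0, 0] : Matrix (Fin 4) (Fin 4) K).transpose * Om *
      !![0, 0, 0, x; 0, 0, y, 0; 0, z, 0, 0; t, 0, 0, 0] =
      !![0, 0, 0, -(t * x); 0, 0, 3 * (z * y), 0; 0, -(3 * (z * y)), 0, 0; t * x, 0, 0, 0] := by
  rw [om63, tr63, mul63]
  exact eq63 (by ring) (by ring) (by ring) (by ring) (by ring) (by ring) (by ring) (by ring) (by ring) (by ring) (by ring)
    (by ring) (by ring) (by ring) (by ring) (by ring)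

theorem form63 {K : Type u} [Field K] {x y z t : K}
    (h : (!![0, 0, 0, x; 0, 0, y, 0; 0, z, 0, 0; t, 0, 0, 0] : Matrix (Fin 4) (Fin 4) K).transpose * Om *
      !![0, 0, 0, x; 0, 0, y, 0; 0, z, 0, 0; t, 0, 0, 0] = Om) : t * x = -1 ∧ 3 * (z * y) = 3 * -1 := by
  rw [frm63] at h
  have h1 := (ent63 h.symm).2.2.2.1.symm.trans (ent63 om63).2.2.2.1
  have h2 := (ent63 h.symm).2.2.2.2.symm.trans (ent63 om63).2.2.2.2
  exact ⟨by linear_combination -h1, by linear_combination h2⟩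

theorem conj63 {K : Type u} [Field K] {x y z t : K} (r : K) (htx : t * x = -1) (hzy : z * y = -1) :
    (!![0, 0, 0, x; 0, 0, y, 0; 0, z, 0, 0; t, 0, 0, 0] : Matrix (Fin 4) (Fin 4) K) * Xm r *
      !![0, 0, 0, -x; 0, 0, -y, 0; 0, -z, 0, 0; -t, 0, 0, 0] =
    !![1, 3 * r * x * z, -(3 * r ^ 2 * x * y), r ^ 3 * x ^ 2; 0, 1, 2 * r * y ^ 2, -(r ^ 2 * x * y);
      0, 0, 1, r * x * z; 0, 0, 0, 1] := by
  rw [xm63, mul63, mul63]
  exact eq63 (by linear_combination -htx) (by ring) (by ring) (by ring) (by ring) (by linear_combination -hzy) (by ring)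
    (by ring) (by ring) (by ring) (by linear_combination -hzy) (by ring) (by ring) (by ring) (by ring)
    (by linear_combination -htx)

theorem row63 {K : Type u} [Field K] {n1 n2 n3 n4 n5 n6 : K}
    (h : ∀ i j : Fin 4, (i : ℕ) + (j : ℕ) ≠ 3 →
      (Xm 1 * !![1, n1, n2, n3; 0, 1, n4, n5; 0, 0, 1, n6; 0, 0, 0, 1] * Xm 1 : Matrix (Fin 4) (Fin 4) K) i j = 0) :
    1 - n1 + n2 - n3 = 0 ∧ n1 - 2 * n2 + 3 * n3 = 0 ∧ n2 - 3 * n3 = 0 := by
  rw [xm63, mul63, mul63] at h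
  have h0 := (ent63 rfl).1.symm.trans (h 0 0 (by decide))
  have h1 := (ent63 rfl).2.1.symm.trans (h 0 1 (by decide))
  have h2 := (ent63 rfl).2.2.1.symm.trans (h 0 2 (by decide))
  exact ⟨by linear_combination h0, by linear_combination h1, by linear_combination h2⟩

theorem std63 {K : Type u} [Field K] :
    Xm 1 * (!![1, 3, 3, 1; 0, 1, 2, 1; 0, 0, 1, 1; 0, 0, 0, 1] : Matrix (Fin 4) (Fin 4) K) * Xm 1 =
      !![0, 0, 0, 1; 0, 0, -1, 0; 0, 1, 0, 0; -1, 0, 0, 0] := by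
  rw [xm63, mul63, mul63]
  exact eq63 (by ring) (by ring) (by ring) (by ring) (by ring) (by ring) (by ring) (by ring) (by ring) (by ring) (by ring)
    (by ring) (by ring) (by ring) (by ring) (by ring)

theorem stWAlg : StWAlg.{u} := by
  intro K _ h3 x y z t r hx hy hz ht
  dsimp only
  intro hform hanti
  obtain ⟨htx, hf12⟩ := form63 hform
  have hzy : z * y = -1 := mul_left_cancel₀ h3 hf12
  have ex : x⁻¹ = -t := inv_eq_of_mul_eq_one_right (by linear_combination -htx)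
  have et : t⁻¹ = -x := inv_eq_of_mul_eq_one_right (by linear_combination -htx)
  have ey : y⁻¹ = -z := inv_eq_of_mul_eq_one_right (by linear_combination -hzy)
  have ez : z⁻¹ = -y := inv_eq_of_mul_eq_one_right (by linear_combination -hzy)
  rw [ex, ey, ez, et, conj63 r htx hzy] at hanti ⊢
  obtain ⟨h00, h01, h02⟩ := row63 hanti
  clear hanti hform
  have hr : r ≠ 0 := by
    rintro rfl
    apply one_ne_zero (α := K)
    linear_combination h00
  have hyr : y = -(r * x) := by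
    have h4 : 3 * x * r ^ 2 ≠ 0 := mul_ne_zero (mul_ne_zero h3 hx) (pow_ne_zero _ hr)
    refine mul_left_cancel₀ h4 ?_
    linear_combination -h02
  have hzr : z = r ^ 2 * x := by
    have h4 : 3 * x * r ≠ 0 := mul_ne_zero (mul_ne_zero h3 hx) hr
    refine mul_left_cancel₀ h4 ?_
    linear_combination h01 + 2 * h02
  have hrx : r ^ 3 * x ^ 2 = 1 := by
    linear_combination -h00 - h01 - h02
  refine (congrArg (fun M => Xm 1 * M * Xm 1) ?_).trans std63
  rw [hyr, hzr]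
  exact eq63 rfl (by linear_combination 3 * hrx) (by linear_combination 3 * hrx) hrx rfl rfl
    (by linear_combination 2 * hrx) (by linear_combination hrx) rfl rfl rfl (by linear_combination hrx) rfl rfl rfl rfl

end Cfsg.Agent.H771.GT

private theorem dce_bd2f3999de80 : _root_.True := by
  try have : _root_.True := by simp only [_root_.Cfsg.Agent.H779.G2.Om.eq_1]
  try have : _root_.True := by simp only [_root_.Cfsg.Agent.H779.G2.Xm.eq_1]
  exact _root_.True.intro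
end

-- part: H839/GT/ETwoB
section
prune_inst 0xd42045201c00020000000012200000402000000200600001708005020042d0600d02200008800c001802980000000028131000104000000000000000000101208000120401400100000009002004000000000000000000000000000000041000000000000
set_option linter.all false
open scoped Cfsg.Agent.FastGrp

/-!
# S5211, [G2-E2b]: `p = 2`, `q ≥ 4`: the only essential subgroup of `Q_b` not contained in `Q_a` is `Q_b` (helper839)

Plan: `outputs/live/tools/plans/S5211.md`, section 8.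
-/

set_option autoImplicit false
set_option linter.unusedVariables false

namespace Cfsg.Agent.H839.GT

open Cfsg Cfsg.FusionSystem Cfsg.Agent.H756.PU Cfsg.Agent.H779.G2 Cfsg.Agent.H103.GT

universe u

section
variable {K : Type u} [Field K]

/-- the `SL₂`-invariant coordinate -/
def ds (x : GU K) : K := x.d + x.a * x.c

/-- the determinant -/
def dt (x y : GU K) : K := x.a * y.c + x.c * y.a

theorem commute_iff (h2 : (2 : K) = 0) {x y : GU K} (hx : x.b = 0) (hy : y.b = 0) :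
    x * y = y * x ↔ (ds x + dt x y) * y.a + (ds y + dt x y) * x.a = 0 ∧
      (ds x + dt x y) * y.c + (ds y + dt x y) * x.c = 0 := by
  constructor
  · intro h
    have he := congrArg GU.e h
    have hf := congrArg GU.f h
    simp only [GU.mul_e, GU.mul_f, hx, hy] at he hf
    unfold ds dt
    constructor
    · linear_combination he + (y.a * x.a * x.c + x.a * y.a * y.c - x.d * y.a - x.c * y.a ^ 2
        + 2 * x.a * y.d + 2 * x.a ^ 2 * y.c) * h2
    · linear_combination hf + (2 * x.c * y.d + x.a * y.c * x.c + x.c * y.a * y.c - x.d * y.c + 2 * y.c ^ 2 * x.a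
        + 3 * y.c * x.a * x.c - 3 * x.c * y.a * y.c - x.c ^ 2 * y.a) * h2
  · rintro ⟨h3, h4⟩
    unfold ds dt at h3 h4
    ext
    · simp [add_comm]
    · simp [add_comm]
    · simp only [GU.mul_c, hx, hy]; ring
    · simp only [GU.mul_d, hx, hy]
      linear_combination (x.c * y.a - y.c * x.a) * h2
    · simp only [GU.mul_e, hx, hy]
      linear_combination h3 - (y.a * x.a * x.c + x.a * y.a * y.c - x.d * y.a - x.c * y.a ^ 2
        + 2 * x.a * y.d + 2 * x.a ^ 2 * y.c) * h2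
    · simp only [GU.mul_f, hx, hy]
      linear_combination h4 - (2 * x.c * y.d + x.a * y.c * x.c + x.c * y.a * y.c - x.d * y.c + 2 * y.c ^ 2 * x.a
        + 3 * y.c * x.a * x.c - 3 * x.c * y.a * y.c - x.c ^ 2 * y.a) * h2

theorem sq_eq (h2 : (2 : K) = 0) {x : GU K} (hx : x.b = 0) :
    x ^ 2 = ⟨0, 0, 0, 0, ds x * x.a, ds x * x.c⟩ := by
  unfold ds
  rw [pow_two]
  ext
  · simp only [GU.mul_a]; linear_combination x.a * h2
  · simp only [GU.mul_b, hx, add_zero]
  · simp only [GU.mul_c, hx]; linear_combination x.c * h2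
  · simp only [GU.mul_d, hx]; linear_combination (x.d + x.c * x.a) * h2
  · simp only [GU.mul_e, hx]; linear_combination (x.e + x.d * x.a + x.c * x.a ^ 2) * h2
  · simp only [GU.mul_f, hx]; linear_combination (x.f + x.d * x.c + 3 * x.c ^ 2 * x.a + x.c ^ 2 * x.a) * h2

theorem two_of_cancel (h2 : (2 : K) = 0) {a b : K} (h : a + b = 0) : a = b := by
  linear_combination h - b * h2

/-- two commuting elements of `Q_b` -/
theorem cases_of_commute (h2 : (2 : K) = 0) {g y : GU K} (hg : g.b = 0) (hy : y.b = 0) (h : g * y = y * g)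
    (hv : y.a ≠ 0 ∨ y.c ≠ 0) :
    (dt g y = 0 ∧ ds g * y.a = ds y * g.a ∧ ds g * y.c = ds y * g.c) ∨ (dt g y = ds y ∧ ds g = ds y) := by
  obtain ⟨h3, h4⟩ := (commute_iff h2 hg hy).1 h
  have h5 : (ds y + dt g y) * dt g y = 0 := by
    have e : (ds y + dt g y) * dt g y = ((ds g + dt g y) * y.a + (ds y + dt g y) * g.a) * y.c +
        ((ds g + dt g y) * y.c + (ds y + dt g y) * g.c) * y.a - (ds g + dt g y) * y.a * y.c * 2 := by
      unfold dt; ring
    rw [e, h3, h4, h2]; ring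
  rcases mul_eq_zero.1 h5 with h6 | h6
  · right
    have h7 : dt g y = ds y := (two_of_cancel h2 h6).symm
    refine ⟨h7, ?_⟩
    rw [h6, zero_mul, add_zero] at h3 h4
    have h8 : ds g + dt g y = 0 := by
      rcases hv with hv | hv
      · exact (mul_eq_zero.1 h3).resolve_right hv
      · exact (mul_eq_zero.1 h4).resolve_right hv
    rw [h7] at h8
    exact two_of_cancel h2 h8
  · left
    rw [h6, add_zero, add_zero] at h3 h4
    exact ⟨h6, two_of_cancel h2 h3, two_of_cancel h2 h4⟩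

theorem ext_ds {x y : GU K} (h1 : x.a = y.a) (h2 : x.b = y.b) (h3 : x.c = y.c) (h4 : ds x = ds y) (h5 : x.e = y.e)
    (h6 : x.f = y.f) : x = y := by
  refine GU.ext h1 h2 h3 ?_ h5 h6
  unfold ds at h4
  rw [h1, h3] at h4
  exact add_right_cancel h4

theorem card_mul_relIndex {G : Type*} [Group G] {H L : Subgroup G} (h : H ≤ L) :
    Nat.card H * H.relIndex L = Nat.card L := by
  rw [← Subgroup.relIndex_bot_left, ← Subgroup.relIndex_bot_left]
  exact Subgroup.relIndex_mul_relIndex ⊥ H L bot_le h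

/-- `Z(E)` is invariant -/
theorem inv_center {Ω : Type*} [Group Ω] {E : Subgroup Ω} (Γ : Subgroup (MulAut E)) :
    _root_.Cfsg.Agent.H756.PU.Inv Γ (E ⊓ Subgroup.centralizer (E : Set Ω)) := by
  refine ⟨inf_le_left, ?_⟩
  intro γ _ e he
  refine Subgroup.mem_inf.mpr ⟨(γ e).2, Subgroup.mem_centralizer_iff.mpr ?_⟩
  intro y hy
  have h1 := (Subgroup.mem_centralizer_iff.mp he.2) (γ⁻¹ ⟨y, hy⟩ : E) (γ⁻¹ ⟨y, hy⟩ : E).2
  have h2 : (γ⁻¹ ⟨y, hy⟩ : E) * e = e * (γ⁻¹ ⟨y, hy⟩ : E) := Subtype.ext h1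
  have h3 := congrArg γ h2
  rw [map_mul, map_mul] at h3
  have h4 : γ (γ⁻¹ ⟨y, hy⟩ : E) = ⟨y, hy⟩ := by
    change (γ * γ⁻¹) _ = _
    simp
  rw [h4] at h3
  exact congrArg Subtype.val h3

/-- **(E2b)** -/
theorem stE2b_of (hB : StBound'.{u}) : StE2b.{u} := by
  intro K _ n H hn E Γ hE hEb hEa
  classical
  have hKfin : Finite K := H.fin
  have hp : Fact (Nat.Prime 2) := ⟨Nat.prime_two⟩
  have hch : CharP K 2 := H.char
  have h2 : (2 : K) = 0 := CharTwo.two_eq_zero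
  have hfin : Finite (GU K) := inferInstance
  set q := Nat.card K with hq
  have hq4 : 4 ≤ q := by
    rw [hq, H.card]
    calc 4 = 2 ^ 2 := rfl
      _ ≤ 2 ^ n := Nat.pow_le_pow_right (by omega) hn
  have hbE : ∀ g ∈ E, g.b = 0 := fun g hg => hEb hg
  have hEp : IsPGroup 2 E := hE.pgr.to_le hE.E_le
  -- the centre
  set Z := E ⊓ Subgroup.centralizer (E : Set (GU K)) with hZ
  have hZE : Z ≤ E := inf_le_left
  have hZ2E : Z2 K ≤ E := fun z hz => hE.cent z trivial fun e he => (comm_Qb_Z2 (hEb he) hz).symm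
  have hZ2Z : Z2 K ≤ Z := fun z hz => Subgroup.mem_inf.mpr ⟨hZ2E hz,
    Subgroup.mem_centralizer_iff.mpr fun y hy => comm_Qb_Z2 (hEb hy) hz⟩
  have hcomm2 : ∀ x y : GU K, x.b = 0 → y.b = 0 → x * y * x⁻¹ * y⁻¹ ∈ Z2 K := by
    intro x y hx hy
    refine ⟨cm_a x y, cm_b x y, ?_, ?_⟩
    · rw [cm_c, hx, hy]; ring
    · rw [cm_d, hx, hy]
      linear_combination (-x.a * y.c + x.c * y.a) * h2
  have hinv : _root_.Cfsg.Agent.H756.PU.Inv Γ Z := inv_center Γ
  have hX : Qb K ⊓ Subgroup.centralizer (Z : Set (GU K)) ≤ E := by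
    have hc : Com (Qb K ⊓ Subgroup.centralizer (Z : Set (GU K))) Z Z := by
      intro x hx z hz
      have := (Subgroup.mem_centralizer_iff.mp hx.2) z hz
      rw [show x * z * x⁻¹ * z⁻¹ = 1 by rw [← this]; group]
      exact one_mem _
    refine Cfsg.Agent.H732.PU.stChain hE Z Z Z hinv hinv hinv le_rfl le_rfl _ le_top ?_ hc hc ?_
    · intro x hx e he
      exact hZ2Z (hcomm2 x e hx.1 (hbE e he))
    · intro x hx z hz
      exact ((Subgroup.mem_centralizer_iff.mp hx.2) z hz).symm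
  have hmem : ∀ x : GU K, x.b = 0 → (∀ z ∈ Z, x * z = z * x) → x ∈ E := by
    intro x hx h
    apply hX
    exact Subgroup.mem_inf.mpr ⟨hx, Subgroup.mem_centralizer_iff.mpr fun z hz => (h z hz).symm⟩
  have hcomm : ∀ x ∈ E, ∀ z ∈ Z, x * z = z * x := fun x hx z hz =>
    (Subgroup.mem_centralizer_iff.mp hz.2) x hx
  have hnorm : Qb K ≤ normalizerIn ⊤ E := by
    intro x hx
    refine Subgroup.mem_inf.mpr ⟨trivial, Subgroup.mem_normalizer_iff.mpr ?_⟩
    intro y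
    have key : ∀ x ∈ Qb K, ∀ y ∈ E, x * y * x⁻¹ ∈ E := by
      intro x hx y hy
      have h1 := mul_mem (hZ2E (hcomm2 x y hx (hbE y hy))) hy
      rwa [show x * y * x⁻¹ * y⁻¹ * y = x * y * x⁻¹ by group] at h1
    constructor
    · intro hy
      exact key x hx y hy
    · intro hy
      have := key x⁻¹ (_root_.InvMemClass.inv_mem hx) _ hy
      rwa [show x⁻¹ * (x * y * x⁻¹) * x⁻¹⁻¹ = y by group] at this
  -- the bound
  have hr1 : E.relIndex (Qb K) * Nat.card E = q ^ 5 := by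
    rw [mul_comm, card_mul_relIndex hEb, card_Qb]
  have hr2 : (E.relIndex (Qb K)) ^ 2 ≤ (frattini E).index := by
    refine le_trans (Nat.pow_le_pow_left ?_ 2) (hB hE)
    exact Subgroup.relIndex_le_of_le_right hnorm (Subgroup.index_ne_zero_of_finite)
  have hr3 : Nat.card (frattini E) * (frattini E).index = Nat.card E := Subgroup.card_mul_index _
  have hr4 : (E.relIndex (Qb K)) ^ 2 ≤ Nat.card E := by
    refine hr2.trans ?_
    rw [← hr3]
    exact Nat.le_mul_of_pos_left _ Nat.card_pos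
  have hbig : q ^ 10 ≤ Nat.card E ^ 3 := by
    calc q ^ 10 = (q ^ 5) ^ 2 := by ring
      _ = (E.relIndex (Qb K)) ^ 2 * Nat.card E ^ 2 := by rw [← hr1]; ring
      _ ≤ Nat.card E * Nat.card E ^ 2 := Nat.mul_le_mul_right _ hr4
      _ = Nat.card E ^ 3 := by ring
  by_contra hne
  obtain ⟨g1, hg1, hg1a⟩ : ∃ g ∈ E, g.a ≠ 0 := by
    by_contra hcon
    push Not at hcon
    exact hEa fun g hg => hcon g hg
  -- the elements of the centre
  have hv : ∀ y ∈ Z, y ∉ Z2 K → y.a ≠ 0 ∨ y.c ≠ 0 := by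
    intro y hy hy2
    by_contra hcon
    push Not at hcon
    obtain ⟨ha, hc⟩ := hcon
    have hd : y.d ≠ 0 := fun hd => hy2 ⟨ha, hbE y (hZE hy), hc, hd⟩
    have h3 := ((commute_iff h2 (hbE g1 hg1) (hbE y (hZE hy))).1 (hcomm g1 hg1 y hy)).1
    unfold ds dt at h3
    rw [ha, hc] at h3
    simp only [mul_zero, add_zero, zero_add] at h3
    rcases mul_eq_zero.1 h3 with h4 | h4
    · exact hd h4
    · exact hg1a h4
  have hone : ∀ y ∈ Z, y ∉ Z2 K → ∃ g ∈ E, dt g y ≠ 0 := by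
    intro y hy hy2
    by_contra hcon
    push Not at hcon
    -- then `|E| ≤ q ^ 3`
    have hyb := hbE y (hZE hy)
    have hvy := hv y hy hy2
    have hcase : ∀ g ∈ E, ds g * y.a = ds y * g.a ∧ ds g * y.c = ds y * g.c := by
      intro g hg
      rcases cases_of_commute h2 (hbE g hg) hyb (hcomm g hg y hy) hvy with h3 | ⟨h3, h4⟩
      · exact h3.2
      · rw [hcon g hg] at h3
        rw [h4, ← h3]
        simp
    have hya : y.a ≠ 0 := by
      intro h0
      have h3 := hcon g1 hg1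
      unfold dt at h3
      rw [h0, mul_zero, add_zero] at h3
      rcases mul_eq_zero.1 h3 with h4 | h4
      · exact hg1a h4
      · rcases hvy with h5 | h5
        · exact h5 h0
        · exact h5 h4
    have hinj : Function.Injective (fun x : E => ((x : GU K).a, (x : GU K).e, (x : GU K).f)) := by
      intro x z hxz
      simp only [Prod.mk.injEq] at hxz
      obtain ⟨e1, e2, e3⟩ := hxz
      have k1 := hcon x x.2
      have k2 := hcon z z.2
      unfold dt at k1 k2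
      rw [e1] at k1
      have k3 : (x : GU K).c = (z : GU K).c := by
        apply mul_right_cancel₀ hya
        linear_combination k1 - k2
      have k4 : ds (x : GU K) = ds (z : GU K) := by
        apply mul_right_cancel₀ hya
        rw [(hcase x x.2).1, (hcase z z.2).1, e1]
      exact Subtype.ext (ext_ds e1 ((hbE x x.2).trans (hbE z z.2).symm) k3 k4 e2 e3)
    have hcard : Nat.card E ≤ q ^ 3 := by
      calc Nat.card E ≤ Nat.card (K × K × K) := Nat.card_le_card_of_injective _ hinj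
        _ = q ^ 3 := by rw [Nat.card_prod, Nat.card_prod]; ring
    have h3 : q ^ 10 ≤ q ^ 9 := by
      calc q ^ 10 ≤ Nat.card E ^ 3 := hbig
        _ ≤ (q ^ 3) ^ 3 := Nat.pow_le_pow_left hcard 3
        _ = q ^ 9 := by ring
    exact absurd h3 (not_le.mpr (Nat.pow_lt_pow_right (by omega) (by norm_num)))
  -- an element of the centre outside `Z₂`
  obtain ⟨y, hy, hy2⟩ : ∃ y ∈ Z, y ∉ Z2 K := by
    by_contra hcon
    push Not at hcon
    exact hne (le_antisymm hEb fun x hx => hmem x hx fun z hz => comm_Qb_Z2 hx (hcon z hz))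
  have hyb := hbE y (hZE hy)
  have hvy := hv y hy hy2
  obtain ⟨g0, hg0, hg0d⟩ := hone y hy hy2
  have hca : ∀ g ∈ E, (dt g y = 0 ∧ ds g * y.a = ds y * g.a ∧ ds g * y.c = ds y * g.c) ∨
      (dt g y = ds y ∧ ds g = ds y) := fun g hg =>
    cases_of_commute h2 (hbE g hg) hyb (hcomm g hg y hy) hvy
  have hg0' : dt g0 y = ds y ∧ ds g0 = ds y := (hca g0 hg0).resolve_left fun h => hg0d h.1
  have hδ : ds y ≠ 0 := by rw [← hg0'.1]; exact hg0d
  by_cases hz : ∃ z ∈ Z, dt z y ≠ 0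
  · -- `|E| ≤ 4 q ^ 2`
    obtain ⟨z, hzZ, hzd⟩ := hz
    have hz' : dt z y = ds y ∧ ds z = ds y := (hca z (hZE hzZ)).resolve_left fun h => hzd h.1
    have hz2 : z ∉ Z2 K := by
      rintro ⟨k1, -, k3, -⟩
      apply hzd
      unfold dt
      rw [k1, k3]; ring
    have hvz := hv z hzZ hz2
    have hcz : ∀ g ∈ E, (dt g z = 0 ∧ ds g * z.a = ds z * g.a ∧ ds g * z.c = ds z * g.c) ∨
        (dt g z = ds z ∧ ds g = ds z) := fun g hg =>
      cases_of_commute h2 (hbE g hg) (hbE z (hZE hzZ)) (hcomm g hg z hzZ) hvz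
    -- `v_g` from the two determinants
    have hva : ∀ g : GU K, g.a * ds y = dt g y * z.a + dt g z * y.a := by
      intro g
      rw [← hz'.1]
      unfold dt
      linear_combination (-(g.c * y.a * z.a)) * h2
    have hvc : ∀ g : GU K, g.c * ds y = dt g y * z.c + dt g z * y.c := by
      intro g
      rw [← hz'.1]
      unfold dt
      linear_combination (-(g.a * y.c * z.c)) * h2
    have hinj : Function.Injective (fun x : E => (decide (dt (x : GU K) y = 0), decide (dt (x : GU K) z = 0),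
        (x : GU K).e, (x : GU K).f)) := by
      intro x w hxw
      simp only [Prod.mk.injEq, decide_eq_decide] at hxw
      obtain ⟨e0, e1, e2, e3⟩ := hxw
      have k1 : dt (x : GU K) y = dt (w : GU K) y := by
        rcases hca x x.2 with h3 | h3
        · rw [h3.1, e0.1 h3.1]
        · rcases hca w w.2 with h4 | h4
          · rw [h4.1, e0.2 h4.1]
          · rw [h3.1, h4.1]
      have k2 : dt (x : GU K) z = dt (w : GU K) z := by
        rcases hcz x x.2 with h3 | h3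
        · rw [h3.1, e1.1 h3.1]
        · rcases hcz w w.2 with h4 | h4
          · rw [h4.1, e1.2 h4.1]
          · rw [h3.1, h4.1]
      have k3 : (x : GU K).a = (w : GU K).a := by
        apply mul_right_cancel₀ hδ
        rw [hva, hva, k1, k2]
      have k4 : (x : GU K).c = (w : GU K).c := by
        apply mul_right_cancel₀ hδ
        rw [hvc, hvc, k1, k2]
      have k5 : ds (x : GU K) = ds (w : GU K) := by
        rcases hca x x.2 with h3 | h3
        · rcases hca w w.2 with h4 | h4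
          · rcases hvy with h5 | h5
            · apply mul_right_cancel₀ h5
              rw [h3.2.1, h4.2.1, k3]
            · apply mul_right_cancel₀ h5
              rw [h3.2.2, h4.2.2, k4]
          · exact absurd ((k1.symm.trans h3.1).symm.trans h4.1).symm hδ
        · rcases hca w w.2 with h4 | h4
          · exact absurd ((k1.trans h4.1).symm.trans h3.1).symm hδ
          · rw [h3.2, h4.2]
      exact Subtype.ext (ext_ds k3 ((hbE x x.2).trans (hbE w w.2).symm) k4 k5 e2 e3)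
    have hcard : Nat.card E ≤ 4 * q ^ 2 := by
      calc Nat.card E ≤ Nat.card (Bool × Bool × K × K) := Nat.card_le_card_of_injective _ hinj
        _ = 4 * q ^ 2 := by
          rw [Nat.card_prod, Nat.card_prod, Nat.card_prod, Nat.card_eq_fintype_card (α := Bool), Fintype.card_bool]
          ring
    have h3 : q ^ 10 ≤ 64 * q ^ 6 := by
      calc q ^ 10 ≤ Nat.card E ^ 3 := hbig
        _ ≤ (4 * q ^ 2) ^ 3 := Nat.pow_le_pow_left hcard 3
        _ = 64 * q ^ 6 := by ring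
    have h4 : q ^ 4 ≤ 64 := by
      have h5 : q ^ 6 * q ^ 4 ≤ q ^ 6 * 64 := by
        calc q ^ 6 * q ^ 4 = q ^ 10 := by ring
          _ ≤ 64 * q ^ 6 := h3
          _ = q ^ 6 * 64 := by ring
      exact Nat.le_of_mul_le_mul_left h5 (by positivity)
    have h5 : 4 ^ 4 ≤ q ^ 4 := Nat.pow_le_pow_left hq4 4
    omega
  · -- `Z = ⟨y⟩ Z₂`, `|E| ≤ 2 q ^ 3`, `|Φ(E)| ≥ 2 q`
    push Not at hz
    have hzy : ∀ z ∈ Z, z ∉ Z2 K → ds z = ds y ∧ z.a = y.a ∧ z.c = y.c := by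
      intro z hzZ hz2
      have hd0 := hz z hzZ
      have hcz := (hca z (hZE hzZ)).resolve_right fun h => hδ (by rw [← h.1]; exact hd0)
      have hvz := hv z hzZ hz2
      have hg := cases_of_commute h2 (hbE g0 hg0) (hbE z (hZE hzZ)) (hcomm g0 hg0 z hzZ) hvz
      -- `ds y * dt g0 z = ds z * ds y`
      have e1 : ds y * dt g0 z = ds z * ds y := by
        have e2 : ds y * dt g0 z = g0.a * (ds y * z.c) + g0.c * (ds y * z.a) := by unfold dt; ring
        rw [e2, ← hcz.2.1, ← hcz.2.2]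
        have e3 : g0.a * (ds z * y.c) + g0.c * (ds z * y.a) = ds z * dt g0 y := by unfold dt; ring
        rw [e3, hg0'.1]
      have e4 : dt g0 z = ds z := by
        apply mul_left_cancel₀ hδ
        rw [e1, mul_comm]
      have hdz : ds z ≠ 0 := by
        intro h0
        rcases hvz with h5 | h5
        · have := hcz.2.1
          rw [h0, zero_mul] at this
          exact h5 ((mul_eq_zero.1 this.symm).resolve_left hδ)
        · have := hcz.2.2
          rw [h0, zero_mul] at this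
          exact h5 ((mul_eq_zero.1 this.symm).resolve_left hδ)
      have e5 : ds g0 = ds z := (hg.resolve_left fun h => hdz (by rw [← e4]; exact h.1)).2
      have e6 : ds z = ds y := e5.symm.trans hg0'.2
      refine ⟨e6, ?_, ?_⟩
      · have := hcz.2.1
        rw [e6] at this
        exact (mul_left_cancel₀ hδ this).symm
      · have := hcz.2.2
        rw [e6] at this
        exact (mul_left_cancel₀ hδ this).symm
    -- the elements `λ y`
    let w : K → GU K := fun l => ⟨l * y.a, 0, l * y.c, l * ds y + l * y.a * (l * y.c), 0, 0⟩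
    have hwds : ∀ l, ds (w l) = l * ds y := by
      intro l
      show l * ds y + l * y.a * (l * y.c) + l * y.a * (l * y.c) = l * ds y
      linear_combination (l * y.a * (l * y.c)) * h2
    have hwE : ∀ l, w l ∈ E := by
      intro l
      refine hmem _ rfl fun z hzZ => ?_
      by_cases hz2 : z ∈ Z2 K
      · exact comm_Qb_Z2 (show (w l) ∈ Qb K from rfl) hz2
      · obtain ⟨e1, e2, e3⟩ := hzy z hzZ hz2
        refine (commute_iff h2 rfl (hbE z (hZE hzZ))).2 ?_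
        have e4 : dt (w l) z = 0 := by
          unfold dt
          rw [e2, e3]
          show l * y.a * y.c + l * y.c * y.a = 0
          linear_combination (l * y.a * y.c) * h2
        rw [e4, hwds, e1, e2, e3]
        constructor
        · show (l * ds y + 0) * y.a + (ds y + 0) * (l * y.a) = 0
          linear_combination (l * ds y * y.a) * h2
        · show (l * ds y + 0) * y.c + (ds y + 0) * (l * y.c) = 0
          linear_combination (l * ds y * y.c) * h2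
    -- the order of the Frattini subgroup
    have hF : ∀ x ∈ E, (⟨0, 0, 0, 0, ds x * x.a, ds x * x.c⟩ : GU K) ∈ (frattini E).map E.subtype := by
      intro x hx
      refine ⟨(⟨x, hx⟩ : E) ^ 2, Cfsg.Agent.Lib.FrattiniPGroup.pow_mem_frattini hEp _, ?_⟩
      show x ^ 2 = _
      exact sq_eq h2 (hbE x hx)
    have hsq : ∀ m : K, ∃ l : K, l * l = m := by
      have hinj : Function.Injective (fun l : K => l * l) := by
        intro a b hab
        have hab' : a * a = b * b := hab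
        have h3 : (a + b) * (a + b) = 0 := by linear_combination hab' + (b * b + a * b) * h2
        have h4 := mul_self_eq_zero.1 h3
        exact two_of_cancel h2 h4
      exact fun m => (Finite.injective_iff_surjective.1 hinj) m
    have hF1 : ∀ m : K, (⟨0, 0, 0, 0, m * y.a, m * y.c⟩ : GU K) ∈ (frattini E).map E.subtype := by
      intro m
      obtain ⟨l, hl⟩ := hsq (m / ds y)
      have h3 := hF _ (hwE l)
      have e1 : ds (w l) * (w l).a = m * y.a := by
        rw [hwds]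
        show l * ds y * (l * y.a) = m * y.a
        calc l * ds y * (l * y.a) = (l * l) * ds y * y.a := by ring
          _ = m * y.a := by rw [hl, div_mul_cancel₀ _ hδ]
      have e2 : ds (w l) * (w l).c = m * y.c := by
        rw [hwds]
        show l * ds y * (l * y.c) = m * y.c
        calc l * ds y * (l * y.c) = (l * l) * ds y * y.c := by ring
          _ = m * y.c := by rw [hl, div_mul_cancel₀ _ hδ]
      rw [e1, e2] at h3
      exact h3
    have hF2 : (⟨0, 0, 0, 0, ds y * g0.a, ds y * g0.c⟩ : GU K) ∈ (frattini E).map E.subtype := by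
      have h3 := hF g0 hg0
      rwa [hg0'.2] at h3
    have hadd : ∀ s t s' t' : K, (⟨0, 0, 0, 0, s, t⟩ : GU K) * ⟨0, 0, 0, 0, s', t'⟩ = ⟨0, 0, 0, 0, s + s', t + t'⟩ := by
      intro s t s' t'
      ext <;> simp
    let φ : K × Bool → ↥((frattini E).map E.subtype) := fun x =>
      ⟨⟨0, 0, 0, 0, x.1 * y.a + (if x.2 then ds y * g0.a else 0), x.1 * y.c + (if x.2 then ds y * g0.c else 0)⟩, by
        rcases x with ⟨m, b⟩
        cases b
        · simpa only [_root_.Bool.false_eq_true, ↓ _root_.reduceIte, _root_.add_zero, _root_.Subgroup.mem_map, _root_.Subgroup.subtype_apply, _root_.Subtype.exists, _root_.exists_and_right, _root_.exists_eq_right] using hF1 m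
        · have := mul_mem (hF1 m) hF2
          rw [hadd] at this
          simpa only [↓ _root_.reduceIte, _root_.Subgroup.mem_map, _root_.Subgroup.subtype_apply, _root_.Subtype.exists, _root_.exists_and_right, _root_.exists_eq_right] using this⟩
    have hφ : Function.Injective φ := by
      rintro ⟨m, b⟩ ⟨m', b'⟩ hxx
      have e0 := congrArg Subtype.val hxx
      have e1 : m * y.a + (if b then ds y * g0.a else 0) = m' * y.a + (if b' then ds y * g0.a else 0) :=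
        congrArg GU.e e0
      have e2 : m * y.c + (if b then ds y * g0.c else 0) = m' * y.c + (if b' then ds y * g0.c else 0) :=
        congrArg GU.f e0
      have hbb : b = b' := by
        by_contra hbb
        have key : ∀ s : K, s * y.a = ds y * g0.a → s * y.c = ds y * g0.c → False := by
          intro s k1 k2
          have k3 : ds y * dt g0 y = 0 := by
            unfold dt
            linear_combination (-y.c) * k1 + y.a * (-k2) + (ds y * 0 + s * y.a * y.c) * h2 + 0 * h2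
          exact hδ (by
            have := (mul_eq_zero.1 k3).resolve_left hδ
            rw [hg0'.1] at this
            exact this)
        cases b <;> cases b'
        · exact hbb rfl
        · simp only [Bool.false_eq_true, if_false, if_true, add_zero] at e1 e2
          refine key (m - m') ?_ ?_
          · linear_combination e1
          · linear_combination e2
        · simp only [Bool.false_eq_true, if_false, if_true, add_zero] at e1 e2
          refine key (m' - m) ?_ ?_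
          · linear_combination -e1
          · linear_combination -e2
        · exact hbb rfl
      subst hbb
      have k1 : m * y.a = m' * y.a := add_right_cancel e1
      have k2 : m * y.c = m' * y.c := add_right_cancel e2
      have k3 : m = m' := by
        rcases hvy with h5 | h5
        · exact mul_right_cancel₀ h5 k1
        · exact mul_right_cancel₀ h5 k2
      rw [k3]
    have hFc : 2 * q ≤ Nat.card (frattini E) := by
      have h3 : Nat.card ↥((frattini E).map E.subtype) = Nat.card (frattini E) :=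
        (Nat.card_congr ((frattini E).equivMapOfInjective E.subtype E.subtype_injective).toEquiv).symm
      rw [← h3]
      calc 2 * q = Nat.card (K × Bool) := by
            rw [Nat.card_prod, Nat.card_eq_fintype_card (α := Bool), Fintype.card_bool]; ring
        _ ≤ _ := Nat.card_le_card_of_injective φ hφ
    -- the order of `E`
    have hcard : Nat.card E ≤ 2 * q ^ 3 := by
      have hdet : ∀ x ∈ E, ∀ w ∈ E, (dt x y = 0 ↔ dt w y = 0) → dt x y = dt w y := by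
        intro x hx w hw e0
        rcases hca x hx with h3 | h3
        · rw [h3.1, e0.1 h3.1]
        · rcases hca w hw with h4 | h4
          · rw [h4.1, e0.2 h4.1]
          · rw [h3.1, h4.1]
      have hdds : ∀ x ∈ E, ∀ w ∈ E, dt x y = dt w y → x.a = w.a → x.c = w.c → ds x = ds w := by
        intro x hx w hw k1 k3 k4
        rcases hca x hx with h3 | h3
        · rcases hca w hw with h4 | h4
          · rcases hvy with h5 | h5
            · apply mul_right_cancel₀ h5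
              rw [h3.2.1, h4.2.1, k3]
            · apply mul_right_cancel₀ h5
              rw [h3.2.2, h4.2.2, k4]
          · exact absurd ((k1.symm.trans h3.1).symm.trans h4.1).symm hδ
        · rcases hca w hw with h4 | h4
          · exact absurd ((k1.trans h4.1).symm.trans h3.1).symm hδ
          · rw [h3.2, h4.2]
      have hcd : Nat.card (Bool × K × K × K) = 2 * q ^ 3 := by
        rw [Nat.card_prod, Nat.card_prod, Nat.card_prod, Nat.card_eq_fintype_card (α := Bool), Fintype.card_bool]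
        ring
      rw [← hcd]
      rcases hvy with h5 | h5
      · refine Nat.card_le_card_of_injective (fun x : E => (decide (dt (x : GU K) y = 0), (x : GU K).a,
          (x : GU K).e, (x : GU K).f)) ?_
        intro x w hxw
        simp only [Prod.mk.injEq, decide_eq_decide] at hxw
        obtain ⟨e0, e1, e2, e3⟩ := hxw
        have k1 := hdet x x.2 w w.2 e0
        have k4 : (x : GU K).c = (w : GU K).c := by
          apply mul_right_cancel₀ h5
          have k2 := k1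
          unfold dt at k2
          rw [e1] at k2
          exact add_left_cancel k2
        exact Subtype.ext (ext_ds e1 ((hbE x x.2).trans (hbE w w.2).symm) k4 (hdds x x.2 w w.2 k1 e1 k4) e2 e3)
      · refine Nat.card_le_card_of_injective (fun x : E => (decide (dt (x : GU K) y = 0), (x : GU K).c,
          (x : GU K).e, (x : GU K).f)) ?_
        intro x w hxw
        simp only [Prod.mk.injEq, decide_eq_decide] at hxw
        obtain ⟨e0, e1, e2, e3⟩ := hxw
        have k1 := hdet x x.2 w w.2 e0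
        have k4 : (x : GU K).a = (w : GU K).a := by
          apply mul_right_cancel₀ h5
          have k2 := k1
          unfold dt at k2
          rw [e1] at k2
          exact add_right_cancel k2
        exact Subtype.ext (ext_ds k4 ((hbE x x.2).trans (hbE w w.2).symm) e1 (hdds x x.2 w w.2 k1 k4 e1) e2 e3)
    -- the contradiction
    set r := E.relIndex (Qb K) with hr
    have h3 : q ^ 2 ≤ 2 * r := by
      have h4 : q ^ 3 * q ^ 2 ≤ q ^ 3 * (2 * r) := by
        calc q ^ 3 * q ^ 2 = q ^ 5 := by ring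
          _ = r * Nat.card E := hr1.symm
          _ ≤ r * (2 * q ^ 3) := Nat.mul_le_mul_left _ hcard
          _ = q ^ 3 * (2 * r) := by ring
      exact Nat.le_of_mul_le_mul_left h4 (by positivity)
    have h4 : (frattini E).index ≤ q ^ 2 := by
      have h5 : (2 * q) * (frattini E).index ≤ (2 * q) * q ^ 2 := by
        calc (2 * q) * (frattini E).index ≤ Nat.card (frattini E) * (frattini E).index := Nat.mul_le_mul_right _ hFc
          _ = Nat.card E := hr3
          _ ≤ 2 * q ^ 3 := hcard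
          _ = (2 * q) * q ^ 2 := by ring
      exact Nat.le_of_mul_le_mul_left h5 (by positivity)
    have h5 : r ^ 2 ≤ q ^ 2 := hr2.trans h4
    have h6 : r ≤ q := (Nat.pow_le_pow_iff_left two_ne_zero).1 h5
    nlinarith only [hq4, h3, h6]

end

end Cfsg.Agent.H839.GT
end

-- part: H752/GT/ETwoC
section
prune_inst 0x142001000c0002000000001220003c62b2000002006800016080070206c1c4600d022020b88005001802880400380068121000100000000000000000011901a0802012060140a104240008800004000000000000000000000000000000000000000000000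
set_option linter.all false
open scoped Cfsg.Agent.FastGrp

/-!
# S5211 (E2c), (E2): `p = 2`, essential subgroups not contained in `Q_a`, `Q_b` (helper752)
-/

set_option autoImplicit false

namespace Cfsg.Agent.H752.GT

open Cfsg Cfsg.FusionSystem Cfsg.Agent.H802 Cfsg.Agent.H779.G2 Cfsg.Agent.H756.PU Cfsg.Agent.H103.GT Cfsg.Agent.H710.GT

universe u

variable {K : Type u} [Field K]

/-- commuting modulo `Z₂` with an element outside `Q_a ∪ Q_b` -/
theorem par (h2 : (2 : K) = 0) {g h : GU K} (hc : (g * h * g⁻¹ * h⁻¹).c = 0) (hd : (g * h * g⁻¹ * h⁻¹).d = 0)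
    (ha : h.a ≠ 0) (hb : h.b ≠ 0) : (g.a = 0 ∧ g.b = 0) ∨ (g.a = h.a ∧ g.b = h.b) := by
  rw [cm_c] at hc
  rw [cm_d] at hd
  have e1 : g.b * h.a = g.a * h.b := by linear_combination hc
  have e2 : g.a * h.b * (g.a - h.a) = 0 := by
    linear_combination hd + h.a * e1 + (g.a * g.b * h.a - g.a * h.a * h.b + g.a * h.c - g.c * h.a) * h2
  rcases mul_eq_zero.1 e2 with k | k
  · left
    have h0 : g.a = 0 := (mul_eq_zero.1 k).resolve_right hb
    refine ⟨h0, ?_⟩
    rw [h0, zero_mul] at e1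
    exact (mul_eq_zero.1 e1).resolve_right ha
  · right
    have h0 : g.a = h.a := sub_eq_zero.1 k
    refine ⟨h0, ?_⟩
    apply mul_right_cancel₀ ha
    rw [e1, h0, mul_comm]

theorem com_Z4_top2 (h2 : (2 : K) = 0) : Com (Z4 K) ⊤ (Z2 K) := by
  intro x hx y _
  have h := com_Z4_top x hx y trivial
  refine ⟨h.1, h.2.1, h.2.2, ?_⟩
  rw [cm_d, hx.1, hx.2]
  linear_combination (x.c * y.a) * h2

theorem com_Qb2 (h2 : (2 : K) = 0) : Com (Qb K) (Qb K) (Z2 K) := by
  intro x hx y hy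
  have h := com_Qb x hx y hy
  refine ⟨h.1, h.2.1, h.2.2, ?_⟩
  have hx' : x.b = 0 := hx
  have hy' : y.b = 0 := hy
  rw [cm_d, hx', hy']
  linear_combination (-x.a * y.c + x.c * y.a) * h2

/-- the index of `E ∩ Z₄` in `E` -/
theorem rel_le_two [Finite K] {E : Subgroup (GU K)} (α β : K)
    (h : ∀ g ∈ E, (g.a = 0 ∧ g.b = 0) ∨ (g.a = α ∧ g.b = β)) : (E ⊓ Z4 K).relIndex E ≤ 2 := by
  let ψ : E →* Multiplicative K × Multiplicative K :=
    { toFun := fun g => (Multiplicative.ofAdd (g : GU K).a, Multiplicative.ofAdd (g : GU K).b)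
      map_one' := rfl
      map_mul' := fun g h => rfl }
  have h1 : (E ⊓ Z4 K).subgroupOf E = ψ.ker := by
    ext g
    rw [Subgroup.mem_subgroupOf, MonoidHom.mem_ker]
    constructor
    · intro hg
      exact Prod.ext hg.2.1 hg.2.2
    · intro hg
      exact ⟨g.2, congrArg Prod.fst hg, congrArg Prod.snd hg⟩
  rw [Subgroup.relIndex, h1, Subgroup.index_ker]
  have h2 : ((ψ.range : Subgroup _) : Set (Multiplicative K × Multiplicative K)) ⊆
      {1, (Multiplicative.ofAdd α, Multiplicative.ofAdd β)} := by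
    rintro _ ⟨g, rfl⟩
    rcases h g g.2 with ⟨h3, h4⟩ | ⟨h3, h4⟩
    · left
      exact Prod.ext h3 h4
    · right
      exact Prod.ext h3 h4
  calc Nat.card ψ.range = ((ψ.range : Subgroup _) : Set (Multiplicative K × Multiplicative K)).ncard := rfl
    _ ≤ ({1, (Multiplicative.ofAdd α, Multiplicative.ofAdd β)} : Set (Multiplicative K × Multiplicative K)).ncard :=
      Set.ncard_le_ncard h2 (Set.toFinite _)
    _ ≤ ({(Multiplicative.ofAdd α, Multiplicative.ofAdd β)} : Set (Multiplicative K × Multiplicative K)).ncard + 1 :=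
      Set.ncard_insert_le _ _
    _ = 2 := by rw [Set.ncard_singleton]

/-- `[y, E] ≤ N` is preserved by `Γ` -/
theorem inv_el {Ω : Type*} [Group Ω] {E : Subgroup Ω} {Γ : Subgroup (MulAut E)} {N : Subgroup Ω}
    (hN : _root_.Cfsg.Agent.H756.PU.Inv Γ N) {γ : MulAut E} (hγ : γ ∈ Γ) {e : E} (he : ∀ b ∈ E, (e : Ω) * b * (e : Ω)⁻¹ * b⁻¹ ∈ N) :
    ∀ b ∈ E, ((γ e : E) : Ω) * b * ((γ e : E) : Ω)⁻¹ * b⁻¹ ∈ N := by
  intro b hb
  have h5 := hN.2 γ hγ (e * (γ⁻¹ ⟨b, hb⟩) * e⁻¹ * (γ⁻¹ ⟨b, hb⟩)⁻¹) (he _ (γ⁻¹ ⟨b, hb⟩).2)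
  have h6 : γ (γ⁻¹ (⟨b, hb⟩ : E)) = ⟨b, hb⟩ := MulAut.apply_inv_self E γ ⟨b, hb⟩
  rw [map_mul, map_mul, map_mul, map_inv, map_inv, h6] at h5
  exact h5

theorem le_norm {E A N : Subgroup (GU K)} (hN : N ≤ E) (h : Com A ⊤ N) : A ≤ normalizerIn ⊤ E := by
  intro x hx
  refine Subgroup.mem_inf.2 ⟨Subgroup.mem_top _, ?_⟩
  have h1 : ∀ w ∈ A, ∀ e ∈ E, w * e * w⁻¹ ∈ E := by
    intro w hw e he
    have h2 : w * e * w⁻¹ = w * e * w⁻¹ * e⁻¹ * e := by group
    rw [h2]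
    exact E.mul_mem ((hN (h w hw e trivial) :)) he
  rw [Subgroup.mem_normalizer_iff]
  intro e
  refine ⟨h1 x hx e, fun h => ?_⟩
  have h2 := h1 x⁻¹ (A.inv_mem hx) _ h
  rwa [inv_inv, ← mul_assoc, ← mul_assoc, inv_mul_cancel, one_mul, inv_mul_cancel_right] at h2

/-- (E2c) -/
theorem stE2c (hkb : StKB.{u}) : StE2c.{u} := by
  intro K _ n hG hn E Γ hE hb ha
  haveI := hG.fin
  haveI := hG.char
  have h2 : (2 : K) = 0 := CharTwo.two_eq_zero
  have h3 : (3 : K) ≠ 0 := by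
    have : (3 : K) = 1 := by linear_combination h2
    rw [this]; exact one_ne_zero
  have hq : 4 ≤ Nat.card K := by
    rw [hG.card]
    calc 4 = 2 ^ 2 := rfl
      _ ≤ 2 ^ n := Nat.pow_le_pow_right (by norm_num) hn
  obtain ⟨x, hx, xa, xb⟩ := exists_both hb ha
  have hpR : IsPGroup 2 E := hE.pgr.of_injective (Subgroup.inclusion hE.E_le) (Subgroup.inclusion_injective _)
  obtain ⟨hΦE, hEE, -, -, -, -⟩ := H218.TE.stPhi E 2 Nat.prime_two inferInstance hpR
  have hZ1E : Z1 K ≤ E := fun y hy => hE.cent y trivial fun e _ => (comm_Z1 e hy).symm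
  have iE := inv_self Γ (E := E)
  have hrel : ∀ C : Subgroup (GU K), (C ⊔ (frattini E).map E.subtype).relIndex E ≤ C.relIndex E := fun C =>
    Subgroup.relIndex_le_of_le_left le_sup_left (Nat.pos_iff_ne_zero.1 (Nat.pos_of_ne_zero (by
      rw [Subgroup.relIndex]; exact Subgroup.index_ne_zero_of_finite)))
  -- (C1)
  have hZ2 : Z2 K ≤ E := by
    by_contra hcon
    set M : Subgroup (GU K) := E ⊓ Subgroup.centralizer (E : Set (GU K)) with hM
    have hMm : ∀ y, y ∈ M ↔ y ∈ E ∧ ∀ b ∈ E, y * b * y⁻¹ * b⁻¹ ∈ (⊥ : Subgroup (GU K)) := by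
      intro y
      rw [hM, Subgroup.mem_inf, Subgroup.mem_centralizer_iff]
      refine and_congr_right fun _ => forall₂_congr fun b _ => ?_
      rw [cm_one]
      exact eq_comm
    have iM : _root_.Cfsg.Agent.H756.PU.Inv Γ M := inv_cent iE iE (inv_bot Γ) hMm
    have hZ1M : Z1 K ≤ M := fun y hy => (hMm y).2 ⟨hZ1E hy, fun b _ => cm_one.2 (comm_Z1 b hy).symm⟩
    by_cases hMb : M ≤ Qb K
    · apply hcon
      refine H732.PU.stChain hE M M M iM iM iM le_rfl le_rfl (Z2 K) le_top ?_ ?_ ?_ ?_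
      · exact fun y hy e _ => hZ1M (com_Z2_top y hy e trivial)
      · exact fun y hy e _ => hZ1M (com_Z2_top y hy e trivial)
      · exact fun y hy e _ => hZ1M (com_Z2_top y hy e trivial)
      · exact fun y hy m hm => (comm_Qb_Z2 (hMb hm) hy).symm
    · obtain ⟨z, hz, hzb⟩ := SetLike.not_le_iff_exists.1 hMb
      have hzb' : z.b ≠ 0 := hzb
      obtain ⟨hzE, hzc⟩ := (hMm z).1 hz
      have hz1 : ∀ b ∈ E, z * b * z⁻¹ * b⁻¹ = 1 := fun b hb => Subgroup.mem_bot.1 (hzc b hb)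
      have hzx : z.a = x.a ∧ z.b = x.b := by
        have e1 := hz1 x hx
        rcases par h2 (g := z) (h := x) (by rw [e1]; rfl) (by rw [e1]; rfl) xa xb with h | h
        · exact absurd h.2 hzb'
        · exact h
      have hall : ∀ g ∈ E, (g.a = 0 ∧ g.b = 0) ∨ (g.a = z.a ∧ g.b = z.b) := by
        intro g hg
        have e1 : g * z * g⁻¹ * z⁻¹ = 1 := by
          have e2 := cm_one.1 ((hzc g hg :))
          rw [← Subgroup.mem_bot, cm_one, e2]
        exact par h2 (by rw [e1]; rfl) (by rw [e1]; rfl) (by rw [hzx.1]; exact xa) hzb'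
      have hint : E ⊓ Z2 K = Z1 K := by
        refine le_antisymm (fun y hy => ?_) (le_inf hZ1E Z1_le_Z2)
        obtain ⟨hyE, hy2⟩ := hy
        obtain ⟨y1, y2, y3, y4⟩ := mem_Z2.1 hy2
        refine ⟨y1, y2, y3, y4, ?_⟩
        have e2 := cm_one.1 ((hzc y hyE :))
        have e1 : y * z * y⁻¹ * z⁻¹ = 1 := by rw [← Subgroup.mem_bot, cm_one, e2]
        have e3 := congrArg GU.f e1
        rw [cm_f, y1, y2, y3, y4, GU.one_f] at e3
        apply (mul_eq_zero.1 (show y.e * z.b = 0 by linear_combination -e3)).resolve_right hzb'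
      have key := hkb hE (E ⊓ Z4 K) (Z2 K) (le_norm hZ1E com_Z2_top) hcon inf_le_left
        (fun y hy m hm => by
          have e1 := comm_Qb_Z2 (Z4_le_Qb hm.2) hy
          rw [← e1, mul_inv_cancel_right, mul_inv_cancel]
          exact one_mem _)
      have h4 : E.relIndex (Z2 K) = Nat.card K := by
        rw [← Subgroup.inf_relIndex_right, hint]
        exact relIndex_eq Z1_le_Z2 card_Z1 card_Z2 (by ring) (by omega)
      have h5 := (key.trans (hrel _)).trans (rel_le_two z.a z.b hall)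
      rw [h4] at h5
      omega
  -- (C2) `Z₁` is invariant
  have i1 : _root_.Cfsg.Agent.H756.PU.Inv Γ (Z1 K) := by
    refine ⟨hZ1E, fun γ hγ e he => ?_⟩
    have hc := inv_el (inv_bot Γ) hγ (e := e) (fun b _ => cm_one.2 (comm_Z1 b he).symm)
    have hsq : γ e * γ e = 1 := by
      rw [← map_mul]
      have : e * e = 1 := by
        apply Subtype.ext
        obtain ⟨z1, z2, z3, z4, z5⟩ := mem_Z1.1 he
        ext <;> simp only [Subgroup.coe_mul, Subgroup.coe_one, GU.mul_a, GU.mul_b, GU.mul_c, GU.mul_d, GU.mul_e, GU.mul_f,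
          GU.one_a, GU.one_b, GU.one_c, GU.one_d, GU.one_e, GU.one_f, z1, z2, z3, z4, z5]
        all_goals first | ring1 | linear_combination (e : GU K).f * h2
      rw [this, map_one]
    have hyE := (γ e).2
    have hsq' := congrArg (fun g : E => (g : GU K).f) hsq
    simp only [Subgroup.coe_mul, Subgroup.coe_one] at hsq'
    generalize ((γ e : E) : GU K) = y at hc hyE hsq'
    have hyb : y.b = 0 := cent_Z2.1 fun z hz => cm_one.1 (hc z (hZ2 hz))
    have e1 := Subgroup.mem_bot.1 (hc x hx)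
    have f1 := congrArg GU.c e1
    rw [cm_c, hyb, GU.one_c] at f1
    have hya : y.a = 0 := (mul_eq_zero.1 (show y.a * x.b = 0 by linear_combination -f1)).resolve_right xb
    have f2 := congrArg GU.e e1
    rw [cm_e, hyb, hya, GU.one_e] at f2
    have hyd : y.d = y.c * x.a := by
      apply mul_left_cancel₀ (mul_ne_zero h3 xa)
      linear_combination f2
    rw [GU.mul_f, hyb, hya, hyd, GU.one_f] at hsq'
    have hyc : y.c = 0 := by
      have : y.c * y.c * x.a = 0 := by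
        apply mul_left_cancel₀ h3
        linear_combination hsq' - y.f * h2
      rcases mul_eq_zero.1 this with h | h
      · exact mul_self_eq_zero.1 h
      · exact absurd h xa
    rw [hyc, zero_mul] at hyd
    have f3 := congrArg GU.f e1
    rw [cm_f, hyb, hya, hyc, hyd, GU.one_f] at f3
    have hye : y.e = 0 := (mul_eq_zero.1 (show y.e * x.b = 0 by linear_combination -f3)).resolve_right xb
    exact ⟨hya, hyb, hyc, hyd, hye⟩
  -- elements `y` with `[y, E] ≤ Z₁` lie in `Z₄`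
  have hU : ∀ y ∈ E, (∀ b ∈ E, y * b * y⁻¹ * b⁻¹ ∈ Z1 K) → y ∈ Z4 K := by
    intro y hyE hy
    by_contra hy4
    have e1 := hy x hx
    rcases par h2 e1.2.2.1 e1.2.2.2.1 xa xb with h | h
    · exact hy4 h
    have ya : y.a ≠ 0 := by rw [h.1]; exact xa
    have yb : y.b ≠ 0 := by rw [h.2]; exact xb
    have hy' : ∀ b ∈ E, b * y * b⁻¹ * y⁻¹ ∈ Z1 K := by
      intro b hb
      have := (Z1 K).inv_mem (hy b hb)
      have e : (y * b * y⁻¹ * b⁻¹)⁻¹ = b * y * b⁻¹ * y⁻¹ := by group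
      rwa [e] at this
    have hall : ∀ g ∈ E, (g.a = 0 ∧ g.b = 0) ∨ (g.a = y.a ∧ g.b = y.b) := fun g hg =>
      par h2 (hy' g hg).2.2.1 (hy' g hg).2.2.2.1 ya yb
    have hd : ∀ g ∈ E ⊓ Z4 K, g.d = g.c * y.a := by
      rintro g ⟨hgE, hg4⟩
      have f := (hy' g hgE).2.2.2.2
      rw [cm_e, hg4.1, hg4.2] at f
      apply mul_left_cancel₀ (mul_ne_zero h3 ya)
      linear_combination f
    have hcard : Nat.card (E ⊓ Z4 K : Subgroup (GU K)) ≤ Nat.card K ^ 3 := by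
      have e : Nat.card (K × K × K) = Nat.card K ^ 3 := by
        simp only [Nat.card_prod]; ring
      rw [← e]
      refine Nat.card_le_card_of_injective (fun g : (E ⊓ Z4 K : Subgroup (GU K)) =>
        ((g : GU K).c, (g : GU K).e, (g : GU K).f)) ?_
      intro g g' hgg
      simp only [Prod.mk.injEq] at hgg
      obtain ⟨k1, k2, k3⟩ := hgg
      apply Subtype.ext
      ext
      · rw [g.2.2.1, g'.2.2.1]
      · rw [g.2.2.2, g'.2.2.2]
      · exact k1
      · rw [hd _ g.2, hd _ g'.2, k1]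
      · exact k2
      · exact k3
    have hZ4 : ¬ Z4 K ≤ E := by
      intro h4
      have := hd (x4 1) ⟨h4 (Z3_le_Z4 (x4_mem 1)), Z3_le_Z4 (x4_mem 1)⟩
      simp only [x4, zero_mul] at this
      exact one_ne_zero this
    have hZ1Φ : Z1 K ≤ (frattini E).map E.subtype := by
      intro z hz
      have e2 : z = y * x5 (z.f / y.b) * y⁻¹ * (x5 (z.f / y.b))⁻¹ := by
        have e3 := com_top_Z2 y trivial _ (x5_mem (z.f / y.b))
        obtain ⟨z1, z2, z3, z4, z5⟩ := mem_Z1.1 hz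
        obtain ⟨k1, k2, k3, k4, k5⟩ := mem_Z1.1 e3
        ext
        · rw [z1, k1]
        · rw [z2, k2]
        · rw [z3, k3]
        · rw [z4, k4]
        · rw [z5, k5]
        · rw [cm_f]
          simp only [x5]
          rw [show y.b * (z.f / y.b) = z.f from mul_div_cancel₀ _ yb]
          ring
      rw [e2]
      exact (hEE y hyE _ (hZ2 (x5_mem _)) :)
    have key := hkb hE (E ⊓ Z4 K) (Z4 K) (le_norm hZ2 (com_Z4_top2 h2)) hZ4 inf_le_left
      (fun w hw m hm => hZ1Φ (com_Z4 w hw m hm.2))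
    have h5 := (key.trans (hrel _)).trans (rel_le_two y.a y.b hall)
    have h6 : E.relIndex (Z4 K) * Nat.card (E ⊓ Z4 K : Subgroup (GU K)) = Nat.card K ^ 4 := by
      rw [← card_Z4, ← Subgroup.inf_relIndex_right, mul_comm, ← Subgroup.relIndex_bot_left, ← Subgroup.relIndex_bot_left]
      exact Subgroup.relIndex_mul_relIndex _ _ _ bot_le inf_le_right
    have h7 : Nat.card K ^ 4 ≤ 2 * Nat.card K ^ 3 := by
      rw [← h6]
      exact Nat.mul_le_mul h5 hcard
    have h8 : 4 * Nat.card K ^ 3 ≤ Nat.card K ^ 4 := by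
      calc 4 * Nat.card K ^ 3 ≤ Nat.card K * Nat.card K ^ 3 := Nat.mul_le_mul_right _ hq
        _ = Nat.card K ^ 4 := by ring
    have h9 : 0 < Nat.card K ^ 3 := pow_pos (by omega) 3
    omega
  -- `Z₂` is invariant
  have i2 : _root_.Cfsg.Agent.H756.PU.Inv Γ (Z2 K) := by
    refine ⟨hZ2, fun γ hγ e he => ?_⟩
    have hc := inv_el i1 hγ (e := e) (fun b _ => com_Z2_top _ he b trivial)
    have hsq : γ e * γ e = 1 := by
      rw [← map_mul]
      have : e * e = 1 := by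
        apply Subtype.ext
        obtain ⟨z1, z2, z3, z4⟩ := mem_Z2.1 he
        ext <;> simp only [Subgroup.coe_mul, Subgroup.coe_one, GU.mul_a, GU.mul_b, GU.mul_c, GU.mul_d, GU.mul_e, GU.mul_f,
          GU.one_a, GU.one_b, GU.one_c, GU.one_d, GU.one_e, GU.one_f, z1, z2, z3, z4]
        all_goals first | ring1 | linear_combination (e : GU K).f * h2 | linear_combination (e : GU K).e * h2
      rw [this, map_one]
    have hyE := (γ e).2
    have hsq' := congrArg (fun g : E => (g : GU K).f) hsq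
    simp only [Subgroup.coe_mul, Subgroup.coe_one] at hsq'
    generalize ((γ e : E) : GU K) = y at hc hyE hsq'
    have hy4 := hU y hyE hc
    obtain ⟨hya, hyb⟩ := mem_Z4.1 hy4
    have f2 := (hc x hx).2.2.2.2
    rw [cm_e, hyb, hya] at f2
    have hyd : y.d = y.c * x.a := by
      apply mul_left_cancel₀ (mul_ne_zero h3 xa)
      linear_combination f2
    rw [GU.mul_f, hyb, hya, hyd, GU.one_f] at hsq'
    have hyc : y.c = 0 := by
      have : y.c * y.c * x.a = 0 := by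
        apply mul_left_cancel₀ h3
        linear_combination hsq' - y.f * h2
      rcases mul_eq_zero.1 this with h | h
      · exact mul_self_eq_zero.1 h
      · exact absurd h xa
    rw [hyc, zero_mul] at hyd
    exact ⟨hya, hyb, hyc, hyd⟩
  -- (C3)
  have h4 : Z4 K ≤ E := by
    refine H732.PU.stChain hE (Z2 K) (Z2 K) (Z2 K) i2 i2 i2 le_rfl le_rfl (Z4 K) le_top ?_ ?_ ?_ ?_
    · exact fun y hy e _ => com_Z4_top2 h2 y hy e trivial
    · exact fun y hy e _ => com_Z4_top2 h2 y hy e trivial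
    · exact fun y hy e _ => com_Z4_top2 h2 y hy e trivial
    · exact fun y hy m hm => comm_Qb_Z2 (Z4_le_Qb hy) hm
  -- (C4)
  have ib : _root_.Cfsg.Agent.H756.PU.Inv Γ (E ⊓ Qb K) := by
    refine inv_cent iE i2 (inv_bot Γ) fun y => ⟨fun hy => ?_, fun hy => ?_⟩
    · exact ⟨hy.1, fun b hb' => cm_one.2 (comm_Qb_Z2 hy.2 hb')⟩
    · exact ⟨hy.1, cent_Z2.1 fun z hz => cm_one.1 (hy.2 z hz)⟩
  have h6 : Qb K ≤ E := by
    refine H732.PU.stChain hE (Z2 K) (Z2 K) (E ⊓ Qb K) i2 i2 ib le_rfl (le_inf hZ2 Z2_le_Qb) (Qb K) le_top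
      ?_ ?_ ?_ ?_
    · intro y _ e _
      have h7 : y * e * y⁻¹ * e⁻¹ ∈ Z4 K := com_top_top y trivial e trivial
      exact ⟨h4 h7, Z4_le_Qb h7⟩
    · exact fun y hy e he => com_Qb2 h2 y hy e he.2
    · exact fun y hy e he => com_Qb2 h2 y hy e (Z2_le_Qb he)
    · exact fun y hy m hm => comm_Qb_Z2 hy hm
  refine ⟨h6, ?_⟩
  rwa [inf_eq_right.2 h6] at ib

/-- **(E2)** -/
theorem stE2_of (hGrp : StGrp.{u}) (hEss : StEss.{u}) (hOver : StOver.{u}) (hTI : StTI.{u}) (hEa : StEa.{u})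
    (h2b : StE2b.{u}) (h2c : StE2c.{u}) : StE2.{u} := by
  intro K _ p n _ hK hp hn F hF E hE
  subst hp
  have hfin : Finite (GU K) := by
    apply Nat.finite_of_card_ne_zero
    rw [(hGrp hK).1]
    exact pow_ne_zero _ (pow_ne_zero _ (Nat.Prime.ne_zero Fact.out))
  have hS : IsPGroup 2 (⊤ : Subgroup (GU K)) := (hGrp hK).2.1
  have he : Ess (⊤ : Subgroup (GU K)) E 2 (F.autGroup E) := hEss F E hS hF hE
  have h2n : 2 < 2 ^ n := by
    calc 2 < 2 ^ 2 := by norm_num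
      _ ≤ 2 ^ n := Nat.pow_le_pow_right (by norm_num) hn
  by_cases ha : E ≤ Qa K
  · exact Or.inl (hEa hK (by omega) h2n he ha)
  right
  by_cases hb : E ≤ Qb K
  · exact h2b hK hn he hb ha
  · obtain ⟨h1, h2⟩ := h2c hK hn he hb ha
    obtain ⟨hT, hC, -, hchar, -⟩ := hTI hK h2n (Qb K) (Or.inr rfl)
    have hn := top_le_normalizer_of_char (hchar (by omega))
    exact hOver F (Qb K) E hS hF hE h1 hn hC (hT _ (autInducedBy_le_autGroup F le_top) (syl_of_normal hS hF hn)) h2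

end Cfsg.Agent.H752.GT
end

-- part: H949/GT/RankGe
section
set_option linter.all false
open scoped Cfsg.Agent.FastGrp

/-!
# S5211, the short root parabolic (helper949): the rank one property, `n ≥ 2`, `p ≥ 5`
-/

set_option autoImplicit false

namespace Cfsg.Agent.H949.GT

open Cfsg Cfsg.FusionSystem Cfsg.Agent.H756.PU Cfsg.Agent.H779.G2 Cfsg.Agent.H103.GT Cfsg.Agent.H802 Matrix

universe u

/-- `StU2` without its third conclusion -/
def StU2W : Prop :=
  ∀ {G : Type u} [Group G] [Finite G] {p n : ℕ} [Fact p.Prime] (P : Sylow p G), 5 ≤ p → 2 ≤ n →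
    (∀ g : G, g ∉ Subgroup.normalizer ((P : Subgroup G) : Set G) → ∀ x ∈ (P : Subgroup G), g * x * g⁻¹ ∈ (P : Subgroup G) →
      x = 1) →
    ¬ (P : Subgroup G).Normal → Nat.card P = p ^ n → (∀ x ∈ (P : Subgroup G), x ^ p = 1) →
    (∀ x ∈ (P : Subgroup G), ∀ y ∈ (P : Subgroup G), x * y = y * x) →
    (∀ x ∈ (P : Subgroup G), ∀ y ∈ (P : Subgroup G), x ≠ 1 → y ≠ 1 →
      ∃ g ∈ Subgroup.normalizer ((P : Subgroup G) : Set G), g * x * g⁻¹ = y) →
    Nat.card (Subgroup.normalClosure ((P : Subgroup G) : Set G)) ∣ (p ^ n) ^ 4 * ((p ^ n) ^ 2 - 1) * ((p ^ n) ^ 4 - 1) →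
    (∀ P' P'' : Sylow p G, P' ≠ P → P'' ≠ P → ∃ x ∈ (P : Subgroup G),
      (P' : Subgroup G).map (MulAut.conj x).toMonoidHom = P'') ∧
    (∀ P' : Sylow p G, P' ≠ P → ∃ x y : G, x ∈ (P : Subgroup G) ∧ x ≠ 1 ∧ y ∈ (P' : Subgroup G) ∧
      (P : Subgroup G).map (MulAut.conj (x * y * x)).toMonoidHom = P' ∧
      (P' : Subgroup G).map (MulAut.conj (x * y * x)).toMonoidHom = P)

theorem StU2W.of (h : StU2.{u}) : StU2W.{u} := by
  intro G _ _ p n _ P a1 a2 a3 a4 a5 a6 a7 a8 a9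
  exact ⟨(h P a1 a2 a3 a4 a5 a6 a7 a8 a9).1, (h P a1 a2 a3 a4 a5 a6 a7 a8 a9).2.1⟩

variable {K : Type u} [Field K] {p n : ℕ} {Γ : Subgroup (MulAut (Qa K))} {D : Subgroup (MulAut (GU K))}

/-- conjugation `GU K → Γ` -/
noncomputable def cN (hP : Par p (Qa K) Γ D) : GU K →* Γ :=
  (MulAut.conjNormal (H := Qa K)).codRestrict Γ fun x =>
    hP.indu ((mem_autInducedBy_iff _ _ _).2 ⟨x, trivial, fun e => MulAut.conjNormal_apply x e⟩)

theorem cN_isC (hP : Par p (Qa K) Γ D) (x : GU K) : IsC x (cN hP x).1 := fun e => MulAut.conjNormal_apply x e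

theorem isC_unique {x : GU K} {α β : MulAut (Qa K)} (h : IsC x α) (h' : IsC x β) : α = β := by
  apply MulEquiv.ext
  intro e
  apply Subtype.ext
  rw [h, h']

theorem mem_TG' (hP : Par p (Qa K) Γ D) {c : Γ} : c ∈ TG Γ ↔ ∃ x, c = cN hP x := by
  rw [mem_TG]
  constructor
  · rintro ⟨x, hx⟩
    exact ⟨x, Subtype.ext (isC_unique hx (cN_isC hP x))⟩
  · rintro ⟨x, rfl⟩
    exact ⟨x, cN_isC hP x⟩

theorem cN_mem_K0 (hP : Par p (Qa K) Γ D) (x : GU K) : cN hP x ∈ K0 Γ ↔ x.a = 0 := by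
  have h := acts_conj (cN_isC hP x)
  constructor
  · intro h1
    have h2 := (uniqV (γ := (cN hP x).1) (M := 1) (τ := RingEquiv.refl K) (fun g => by
      rw [Matrix.one_mulVec]
      exact h1 g) h.V 0 0 (by simp)).1
    rw [← Xm_zero] at h2
    exact (Xm_inj h2).symm
  · intro h1 g
    rw [h.V, h1, Xm_zero, Matrix.one_mulVec]
    rfl

/-- the coordinate `a` -/
def ha : GU K →* Multiplicative K where
  toFun x := Multiplicative.ofAdd x.a
  map_one' := rfl
  map_mul' x y := by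
    rw [GU.mul_a]
    rfl

theorem ha_ker : (ha : GU K →* Multiplicative K).ker = Qa K := by
  ext x
  exact Iff.rfl

theorem Qa_index : (Qa K).index = Nat.card K := by
  rw [← ha_ker, Subgroup.index_ker]
  have h : (ha : GU K →* Multiplicative K).range = ⊤ := by
    rw [MonoidHom.range_eq_top]
    intro t
    exact ⟨⟨Multiplicative.toAdd t, 0, 0, 0, 0, 0⟩, rfl⟩
  rw [h, Subgroup.card_top]
  rfl

theorem pow_p_a (hK : HypG K p n) (x : GU K) : (x ^ p).a = 0 := by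
  have hchar := hK.char
  have h1 : ha (x ^ p) = (ha x) ^ p := map_pow ha x p
  have h2 : (ha x) ^ p = 1 := by
    show Multiplicative.ofAdd (p • x.a) = 1
    rw [nsmul_eq_mul, CharP.cast_eq_zero, zero_mul]
    rfl
  exact h1.trans h2

theorem R1_ge2 (hU2 : StU2W.{u}) (hK : HypG K p n) (h5 : 5 ≤ p) (hn : 2 ≤ n)
    (hP : Par p (Qa K) Γ D) (hTI : TIAut (⊤ : Subgroup (GU K)) Γ) (hact : ∀ γ ∈ Γ, ∃ M τ m, m ≠ 0 ∧ Acts γ M τ m)
    (hTor : HasTor D (fun t => t⁻¹) (fun t => t ^ 2)) : R1 (TG Γ) := by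
  have hfin := hK.fin
  have hfp : Fact p.Prime := ⟨hK.pp⟩
  have hnor := K0_normal hact
  obtain ⟨T, hT⟩ := exists_sylowP hK hP
  have hT' : (T : Subgroup Γ) = TG Γ := hT
  obtain ⟨f, hfdef⟩ : ∃ f : Γ →* Γ ⧸ K0 Γ, f = QuotientGroup.mk' (K0 Γ) := ⟨_, rfl⟩
  have hf : Function.Surjective f := by rw [hfdef]; exact QuotientGroup.mk'_surjective _
  have hker : f.ker = K0 Γ := by rw [hfdef]; exact QuotientGroup.ker_mk' _
  obtain ⟨P, hPdef⟩ : ∃ P : Sylow p (Γ ⧸ K0 Γ), P = T.mapSurjective hf := ⟨_, rfl⟩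
  have hPc : (P : Subgroup (Γ ⧸ K0 Γ)) = (TG Γ).map f := by rw [hPdef, Sylow.coe_mapSurjective, hT']
  have hcom : (P : Subgroup (Γ ⧸ K0 Γ)).comap f = TG Γ := by
    rw [hPc, Subgroup.comap_map_eq, hker, sup_eq_left]
    exact K0_le hK hP hact
  have hnorm : ∀ γ : Γ, f γ ∈ Subgroup.normalizer ((P : Subgroup (Γ ⧸ K0 Γ)) : Set (Γ ⧸ K0 Γ)) ↔
      γ ∈ Subgroup.normalizer ((TG Γ : Subgroup Γ) : Set Γ) := by
    intro γ
    rw [← mem_norm_comap f hf, hcom]
  obtain ⟨φ, hφ⟩ : ∃ φ : GU K →* Γ ⧸ K0 Γ, φ = f.comp (cN hP) := ⟨_, rfl⟩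
  have hφa : ∀ x, φ x = f (cN hP x) := fun x => by rw [hφ]; rfl
  have hφrange : φ.range = (P : Subgroup (Γ ⧸ K0 Γ)) := by
    rw [hPc]
    ext y
    constructor
    · rintro ⟨x, rfl⟩
      rw [hφa]
      exact ⟨cN hP x, (mem_TG' hP).2 ⟨x, rfl⟩, rfl⟩
    · rintro ⟨c, hc, rfl⟩
      obtain ⟨x, rfl⟩ := (mem_TG' hP).1 hc
      exact ⟨x, hφa x⟩
  have hφker : φ.ker = Qa K := by
    ext x
    rw [MonoidHom.mem_ker, hφa, ← MonoidHom.mem_ker, hker, cN_mem_K0]
    exact Iff.rfl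
  have hφeq : ∀ x y : GU K, x.a = y.a → φ x = φ y := by
    intro x y hxy
    have h1 : x⁻¹ * y ∈ φ.ker := by
      rw [hφker]
      show (x⁻¹ * y).a = 0
      rw [GU.mul_a, GU.inv_a, hxy]
      ring
    have h2 : φ (x⁻¹ * y) = 1 := h1
    rw [map_mul, map_inv] at h2
    exact (inv_mul_eq_one.1 h2)
  have hmemP : ∀ y ∈ (P : Subgroup (Γ ⧸ K0 Γ)), ∃ x : GU K, φ x = y := by
    intro y hy
    rw [← hφrange] at hy
    exact hy
  have key := hU2 P h5 hn
    (by
      intro g hg x hx hgx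
      obtain ⟨γ, rfl⟩ := hf g
      rw [hnorm] at hg
      obtain ⟨z, rfl⟩ := hmemP x hx
      rw [hφa] at hgx ⊢
      rw [← map_inv, ← map_mul, ← map_mul] at hgx
      have h1 : γ * cN hP z * γ⁻¹ ∈ TG Γ := by
        rw [← hcom]
        exact hgx
      have h2 : (cN hP z).1 ∈ Inn (Qa K) := by
        by_contra hcon
        have h3 := hTI γ.1 γ.2 (cN hP z).1 ((mem_TG' hP).2 ⟨z, rfl⟩) hcon h1
        exact hg ((normAut_iff hK hP γ).1 h3)
      have h3 := inn_acts h2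
      have h4 : cN hP z ∈ K0 Γ := by
        intro g
        rw [h3.V, Matrix.one_mulVec]
        rfl
      rw [← hker] at h4
      exact h4)
    (by
      intro hnor'
      apply hP.nn
      intro γ hγ
      refine (normAut_iff hK hP ⟨γ, hγ⟩).2 ?_
      rw [← hnorm, Subgroup.normalizer_eq_top]
      trivial)
    (by
      have h1 : φ.ker.index = Nat.card K := by rw [hφker, Qa_index]
      rw [Subgroup.index_ker, hφrange] at h1
      exact h1.trans hK.card)
    (by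
      intro x hx
      obtain ⟨z, rfl⟩ := hmemP x hx
      rw [← map_pow, hφeq (z ^ p) 1 (pow_p_a hK z), map_one])
    (by
      intro x hx y hy
      obtain ⟨z, rfl⟩ := hmemP x hx
      obtain ⟨z', rfl⟩ := hmemP y hy
      rw [← map_mul, ← map_mul]
      apply hφeq
      rw [GU.mul_a, GU.mul_a, add_comm])
    (by
      intro x hx y hy hx1 hy1
      obtain ⟨z, rfl⟩ := hmemP x hx
      obtain ⟨z', rfl⟩ := hmemP y hy
      have hz : z.a ≠ 0 := fun h => hx1 (by rw [hφeq z 1 h, map_one])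
      have hz' : z'.a ≠ 0 := fun h => hy1 (by rw [hφeq z' 1 h, map_one])
      obtain ⟨d, hd, δ, hdT, hdR, hδD, hδ⟩ := exists_delta hP hTor (div_ne_zero hz hz')
      refine ⟨f δ, (hnorm δ).2 (DG_le hK hP hδD), ?_⟩
      have h1 : δ * cN hP z * δ⁻¹ = cN hP (d z) :=
        Subtype.ext (isC_unique (conj_isR hdR (cN_isC hP z)) (cN_isC hP (d z)))
      rw [hφa, ← map_inv, ← map_mul, ← map_mul, h1, ← hφa]
      apply hφeq
      rw [hdT.a]
      show (z.a / z'.a)⁻¹ * z.a = z'.a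
      field_simp)
    (by
      have h1 : Subgroup.normalClosure ((P : Subgroup (Γ ⧸ K0 Γ)) : Set (Γ ⧸ K0 Γ)) ≤ (G0 Γ).map f := by
        have : ((G0 Γ).map f).Normal := by
          refine ⟨fun y hy g => ?_⟩
          obtain ⟨y, hy, rfl⟩ := hy
          obtain ⟨g, rfl⟩ := hf g
          refine ⟨g * y * g⁻¹, G0_conj hact g hy, ?_⟩
          rw [map_mul, map_mul, map_inv]
        apply Subgroup.normalClosure_le_normal
        rw [hPc]
        exact Subgroup.map_mono TG_le_G0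
      refine (Subgroup.card_dvd_of_le h1).trans ?_
      have h2 : Nat.card ((G0 Γ).map f) = Nat.card (lin Γ).range := by
        have h3 : (G0 Γ).map f = (f.comp (G0 Γ).subtype).range := by
          rw [MonoidHom.range_comp, Subgroup.range_subtype]
        rw [h3, ← Subgroup.index_ker, ← Subgroup.index_ker, lin_ker, ← MonoidHom.comap_ker, hker]
        rfl
      rw [h2, ← hK.card]
      refine H771.GT.card_om (three_ne hK (by omega)) _ ?_
      rintro _ ⟨γ, rfl⟩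
      exact lin_form γ)
  have h1 := R1.of_sylow P key.1 key.2
  have h2 := h1.comap f hf
  rwa [hcom] at h2

end Cfsg.Agent.H949.GT
end

-- part: H270/GT/Twist
section
set_option linter.all false
open scoped Cfsg.Agent.FastGrp

/-!
# S5211, `q = 2`: twisting a fusion system over `GU K` by an automorphism (helper270)
-/

set_option autoImplicit false

namespace Cfsg.Agent.H270.GT

open Cfsg Cfsg.FusionSystem Cfsg.Agent.H779.G2 Cfsg.Agent.H756.PU Cfsg.Agent.H759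

universe u

/-! ### pushing along an automorphism -/

section

variable {G0 : Type u} [Group G0]

/-- membership in an automizer only depends on the underlying maps -/
theorem mem_aut_congr {S : Subgroup G0} {F : FusionSystem S} {P Q : Subgroup G0} (h : P = Q) (α : MulAut P)
    (β : MulAut Q) (hαβ : ∀ (x : P) (y : Q), (x : G0) = y → ((α x : P) : G0) = (β y : Q)) :
    α ∈ F.autGroup P ↔ β ∈ F.autGroup Q := by
  subst h
  have : α = β := by
    ext x
    exact hαβ x x rfl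
  rw [this]

/-- pushing along `θ` and then along `θ⁻¹` -/
theorem isPush_symm {F F' : FusionSystem (⊤ : Subgroup G0)} {θ : MulAut G0}
    {hθ : Function.Injective θ.toMonoidHom} (hθ' : Function.Injective (θ⁻¹ : MulAut G0).toMonoidHom)
    (h : IsPush hθ F F') : IsPush hθ' F' F := by
  refine ⟨(Subgroup.map_top_of_surjective _ (θ⁻¹ : MulAut G0).surjective).symm, fun P' φ' => ?_⟩
  -- `P' = θ(P)`
  obtain ⟨P, hP⟩ : ∃ P : Subgroup G0, P' = P.map θ.toMonoidHom :=
    exists_eq_map (f := θ.toMonoidHom) (by rw [MonoidHom.range_eq_top.2 θ.surjective]; exact le_top)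
  subst hP
  obtain ⟨φ, rfl⟩ := exists_eq_cb hθ φ' (fun y => by
    rw [MonoidHom.range_eq_top.2 θ.surjective]
    exact Subgroup.mem_top _)
  rw [h.hom]
  have hback : (P.map θ.toMonoidHom).map (θ⁻¹ : MulAut G0).toMonoidHom = P := by
    rw [Subgroup.map_map]
    have : (θ⁻¹ : MulAut G0).toMonoidHom.comp θ.toMonoidHom = MonoidHom.id _ := by
      ext x
      show θ⁻¹ (θ x) = x
      exact MulAut.inv_apply_self _ _ _
    rw [this, Subgroup.map_id]
  -- the two maps agree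
  have key : ∀ (Q : Subgroup G0) (hQ : Q = P) (ψ : Q →* G0), (∀ (x : Q) (y : P), (x : G0) = y → ψ x = φ y) →
      (ψ ∈ F.Hom Q ↔ φ ∈ F.Hom P) := by
    intro Q hQ ψ hψ
    subst hQ
    have : ψ = φ := by
      ext x
      exact hψ x x rfl
    rw [this]
  refine key _ hback _ fun x y hxy => ?_
  obtain ⟨z, rfl⟩ := (eqv hθ' (P.map θ.toMonoidHom)).surjective x
  obtain ⟨w, rfl⟩ := (eqv hθ P).surjective z
  rw [cb_eqv, cb_eqv]
  have h1 : (w : G0) = y := by
    rw [← hxy]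
    show (w : G0) = θ⁻¹ (θ w)
    exact (MulAut.inv_apply_self _ _ _).symm
  have h2 : w = y := Subtype.ext h1
  subst h2
  show θ⁻¹ (θ (φ w)) = φ w
  exact MulAut.inv_apply_self _ _ _

/-- the automizer of an invariant subgroup in the pushed system -/
theorem mem_aut_push {F F' : FusionSystem (⊤ : Subgroup G0)} {θ : MulAut G0}
    {hθ : Function.Injective θ.toMonoidHom} (h : IsPush hθ F F') {Q : Subgroup G0}
    (r : MulAut Q) (hr : ∀ x : Q, ((r x : Q) : G0) = θ x) (γ : MulAut Q) :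
    γ ∈ F'.autGroup Q ↔ r⁻¹ * γ * r ∈ F.autGroup Q := by
  have hQ : Q.map θ.toMonoidHom = Q := by
    ext y
    constructor
    · rintro ⟨x, hx, rfl⟩
      have := (r ⟨x, hx⟩).2
      rwa [hr] at this
    · intro hy
      refine ⟨(r⁻¹ ⟨y, hy⟩ : Q), (r⁻¹ ⟨y, hy⟩).2, ?_⟩
      have h1 := hr (r⁻¹ ⟨y, hy⟩)
      rw [MulAut.apply_inv_self] at h1
      exact h1.symm
  rw [← h.mem_autGroup_iff]
  refine (mem_aut_congr hQ _ _ fun x y hxy => ?_).symm
  obtain ⟨w, rfl⟩ := (eqv hθ Q).surjective x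
  rw [coe_ca_apply]
  have h1 : r w = y := Subtype.ext (by rw [hr]; exact hxy)
  subst h1
  show θ ((r⁻¹ * γ * r) w : Q) = (γ (r w) : Q)
  rw [← hr, MulAut.mul_apply, MulAut.mul_apply, MulAut.apply_inv_self]

end

/-! ### the twist -/

section

variable {K : Type u} [Field K]

/-- `ConjOn` in terms of the restriction of `θ` -/
theorem conjOn_iff {Q : Subgroup (GU K)} {θ : MulAut (GU K)} {r : MulAut Q}
    (hr : ∀ x : Q, ((r x : Q) : GU K) = θ x) {Γ Γ' : Subgroup (MulAut Q)} :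
    ConjOn θ Γ Γ' ↔ ∀ γ : MulAut Q, γ ∈ Γ' ↔ r⁻¹ * γ * r ∈ Γ := by
  have key : ∀ γ : MulAut Q, (∃ δ ∈ Γ, ∀ g g' : Q, (g' : GU K) = θ g → θ ((δ g : Q) : GU K) = (γ g' : Q)) ↔
      r⁻¹ * γ * r ∈ Γ := by
    intro γ
    constructor
    · rintro ⟨δ, hδ, h⟩
      have h1 : r⁻¹ * γ * r = δ := by
        apply MulEquiv.ext
        intro x
        have h2 := h x (r x) (hr x)
        rw [← hr] at h2
        have h3 : r (δ x) = γ (r x) := Subtype.ext h2
        rw [MulAut.mul_apply, MulAut.mul_apply, ← h3, MulAut.inv_apply_self]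
      rwa [h1]
    · intro hγ
      refine ⟨_, hγ, fun g g' hg => ?_⟩
      have h1 : r g = g' := Subtype.ext (by rw [hr]; exact hg.symm)
      subst h1
      rw [← hr, MulAut.mul_apply, MulAut.mul_apply, MulAut.apply_inv_self]
  constructor
  · intro h γ
    rw [h γ, key]
  · intro h γ
    rw [h γ, key]

/-- the restriction of `θ` to an invariant subgroup -/
theorem exists_res {Q : Subgroup (GU K)} {θ : MulAut (GU K)} (hQ : Q.map θ.toMonoidHom = Q) :
    ∃ r : MulAut Q, ∀ x : Q, ((r x : Q) : GU K) = θ x :=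
  ⟨(θ.subgroupMap Q).trans (MulEquiv.subgroupCongr hQ), fun _ => rfl⟩

/-- **The twist** of a saturated system by an automorphism of `GU K`. -/
theorem exists_twist [Finite (GU K)] [Fact (Nat.Prime 2)] (F : FusionSystem (⊤ : Subgroup (GU K)))
    (θ : MulAut (GU K)) (hF : F.IsSaturated 2) :
    ∃ F' : FusionSystem (⊤ : Subgroup (GU K)), F'.IsSaturated 2 ∧ (F.core = ⊥ → F'.core = ⊥) ∧
      (F.IsRealizable 2 ↔ F'.IsRealizable 2) ∧
      ∀ (Q : Subgroup (GU K)) (r : MulAut Q), (∀ x : Q, ((r x : Q) : GU K) = θ x) →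
        ∀ γ : MulAut Q, γ ∈ F'.autGroup Q ↔ r⁻¹ * γ * r ∈ F.autGroup Q := by
  have hinj : Function.Injective θ.toMonoidHom := θ.injective
  have hinj' : Function.Injective (θ⁻¹ : MulAut (GU K)).toMonoidHom := (θ⁻¹ : MulAut (GU K)).injective
  have htop : (⊤ : Subgroup (GU K)) = (⊤ : Subgroup (GU K)).map θ.toMonoidHom :=
    (Subgroup.map_top_of_surjective _ θ.surjective).symm
  obtain ⟨F', hF'⟩ := exists_push' (hf := hinj) htop F
  refine ⟨F', hF'.isSaturated_iff.2 hF, ?_, ⟨H776.Co.isRealizable_push hF',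
    H776.Co.isRealizable_push (isPush_symm hinj' hF')⟩, fun Q r hr γ => mem_aut_push hF' r hr γ⟩
  intro hcore
  rw [hF'.core_eq, hcore, Subgroup.map_bot]

end

end Cfsg.Agent.H270.GT
end

-- part: H771/GT/MainThree
section
prune_inst 0xf43001207c0002000800001220003c62b20000020068400130c0070206cbdc408d060820bab00d0010c2800440380068111000100228000000000800011c018000201206904ca000060008002004000000000000000000000000000000041000000000000
set_option linter.all false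
open scoped Cfsg.Agent.FastGrp

/-!
# S5211: the assembly for `q = 3`
-/

set_option autoImplicit false

namespace Cfsg.Agent.H771.GT

open Cfsg Cfsg.FusionSystem Cfsg.Agent.H779.G2 Cfsg.Agent.H756.PU Cfsg.Agent.H802 Cfsg.Agent.H103.GT

universe u

/-! ### transport of automorphisms between two subgroups -/

section

variable {G0 : Type u} [Group G0]

/-- `γ'` is `β γ β⁻¹` -/
def Rel (β : MulAut G0) {Q Q' : Subgroup G0} (γ : MulAut Q) (γ' : MulAut Q') : Prop :=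
  ∀ (x : Q) (y : Q'), (y : G0) = β x → ((γ' y : Q') : G0) = β (γ x : Q)

theorem Rel.comp {β β' : MulAut G0} {Q Q' Q'' : Subgroup G0} {γ : MulAut Q} {γ' : MulAut Q'} {γ'' : MulAut Q''}
    (hQ : Q.map β.toMonoidHom = Q') (h : Rel β γ γ') (h' : Rel β' γ' γ'') : Rel (β' * β) γ γ'' := by
  intro x z hz
  have hy : β x ∈ Q' := by rw [← hQ]; exact ⟨x, x.2, rfl⟩
  have h1 := h x ⟨β x, hy⟩ rfl
  have h2 := h' ⟨β x, hy⟩ z hz
  rw [h2, h1]
  rfl

theorem Rel.inv {β : MulAut G0} {Q Q' : Subgroup G0} {γ : MulAut Q} {γ' : MulAut Q'}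
    (h : Rel β γ γ') : Rel β⁻¹ γ' γ := by
  intro y x hx
  have hy : (y : G0) = β x := by rw [hx, MulAut.apply_inv_self]
  rw [h x y hy, MulAut.inv_apply_self]

theorem exists_rel (β : MulAut G0) {Q Q' : Subgroup G0} (hQ : Q.map β.toMonoidHom = Q') (γ : MulAut Q) :
    ∃ γ' : MulAut Q', Rel β γ γ' := by
  let e : Q ≃* Q' := (Q.equivMapOfInjective β.toMonoidHom β.injective).trans (MulEquiv.subgroupCongr hQ)
  have he : ∀ x : Q, ((e x : Q') : G0) = β x := fun x => rfl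
  refine ⟨MulAut.congr e γ, ?_⟩
  intro x y hy
  have h1 : y = e x := Subtype.ext hy
  subst h1
  show ((e (γ (e.symm (e x))) : Q') : G0) = _
  rw [MulEquiv.symm_apply_apply, he]

theorem Rel.mem {F : FusionSystem (⊤ : Subgroup G0)} {β : MulAut G0} (hβ : β ∈ AF F) {Q Q' : Subgroup G0}
    (hQ : Q.map β.toMonoidHom = Q') {γ : MulAut Q} {γ' : MulAut Q'} (h : Rel β γ γ') (hγ : γ ∈ F.autGroup Q) :
    γ' ∈ F.autGroup Q' := by
  have hφ : (topHom β).comp (Subgroup.inclusion (le_top : Q ≤ ⊤)) ∈ F.Hom Q :=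
    restrict_mem (mem_AF_iff.1 hβ) le_top
  have hr : ((topHom β).comp (Subgroup.inclusion (le_top : Q ≤ ⊤))).range = Q' := by
    rw [← hQ]
    ext y
    constructor
    · rintro ⟨z, rfl⟩
      exact ⟨z, z.2, rfl⟩
    · rintro ⟨z, hz, rfl⟩
      exact ⟨⟨z, hz⟩, rfl⟩
  have h1 := congr_mem_autGroup hφ hr hγ
  have h2 : MulAut.congr (isoOf _ (F.injective_of_mem hφ) hr) γ = γ' := by
    apply MulEquiv.ext
    intro y
    obtain ⟨z, rfl⟩ := (isoOf _ (F.injective_of_mem hφ) hr).surjective y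
    apply Subtype.ext
    rw [h z _ rfl]
    show ((isoOf _ (F.injective_of_mem hφ) hr (γ ((isoOf _ (F.injective_of_mem hφ) hr).symm
      (isoOf _ (F.injective_of_mem hφ) hr z))) : Q') : G0) = _
    rw [MulEquiv.symm_apply_apply]
    rfl
  rwa [h2] at h1

/-- if `t` is the restriction of `θ` then `γ'` is `t γ t⁻¹` -/
theorem Rel.mem_map {θ : MulAut G0} {Q : Subgroup G0} {t : MulAut Q} (ht : ∀ e : Q, ((t e : Q) : G0) = θ e)
    {G : Subgroup (MulAut Q)} {γ γ' : MulAut Q} (h : Rel θ γ γ') :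
    γ' ∈ G.map (MulAut.conj t).toMonoidHom ↔ γ ∈ G := by
  have e : γ' = MulAut.conj t γ := by
    apply MulEquiv.ext
    intro y
    apply Subtype.ext
    have h1 : (y : G0) = θ (t⁻¹ y : Q) := by rw [← ht, MulAut.apply_inv_self]
    rw [h _ _ h1, ← ht]
    rfl
  constructor
  · rintro ⟨δ, hδ, h1⟩
    have h2 : δ = γ := by
      apply (MulAut.conj t).injective
      rw [← e]
      exact h1
    rwa [← h2]
  · intro hγ
    exact ⟨γ, hγ, e.symm⟩

end

variable {K : Type u} [Field K]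

/-! ### the field with three elements -/

theorem three_zero (hK : HypG K 3 1) : (3 : K) = 0 := by
  have := hK.char
  exact_mod_cast CharP.cast_eq_zero K 3

theorem sq_one (hK : HypG K 3 1) {x : K} (hx : x ≠ 0) : x ^ 2 = 1 := by
  have := hK.fin
  have := Fintype.ofFinite K
  have h4 := FiniteField.pow_card_sub_one_eq_one x hx
  rw [← Nat.card_eq_fintype_card, hK.card] at h4
  exact h4

theorem cube_self (hK : HypG K 3 1) (x : K) : x ^ 3 = x := by
  rcases eq_or_ne x 0 with rfl | hx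
  · simp
  · linear_combination x * sq_one hK hx

theorem auto_self (hK : HypG K 3 1) (τ : K ≃+* K) (x : K) : τ x = x := by
  rcases eq_or_ne x 0 with rfl | hx
  · simp
  have h : (x - 1) * (x + 1) = 0 := by linear_combination sq_one hK hx
  rcases mul_eq_zero.1 h with h1 | h1
  · rw [sub_eq_zero.1 h1, map_one]
  · rw [eq_neg_of_add_eq_zero_left h1, map_neg, map_one]

theorem ce_tor (hK : HypG K 3 1) {s t : K} {τ : K ≃+* K} {d : MulAut (GU K)} (h : IsTor d s t τ) {k k' : K}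
    {α : MulAut (GU K)} (hα : IsCe3 k k' α) : α * d = d * α := by
  have hs := sq_one hK h.ne1
  have ht := sq_one hK h.ne2
  refine ext_aut fun g => ⟨?_, ?_, ?_, ?_, ?_, ?_⟩ <;>
    simp only [MulAut.mul_apply, hα.a, hα.b, hα.c, hα.d, hα.e, hα.f, h.a, h.b, h.c, h.d, h.e, h.f, auto_self hK τ]
  · linear_combination (-k' * t * g.b) * hs
  · linear_combination (-k * s * g.a) * hs - k * s ^ 3 * g.a * ht

theorem gr_ce (hK : HypG K 3 1) {ρ : MulAut (GU K)} (hρ : IsGr ρ) {k k' : K}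
    {α α' : MulAut (GU K)} (hα : IsCe3 k k' α) (hα' : IsCe3 (-k') (-k) α') : ρ * α = α' * ρ := by
  refine ext_aut fun g => ⟨?_, ?_, ?_, ?_, ?_, ?_⟩ <;>
    simp only [MulAut.mul_apply, hα.a, hα.b, hα.c, hα.d, hα.e, hα.f, hα'.a, hα'.b, hα'.c, hα'.d, hα'.e, hα'.f,
      hρ.a, hρ.b, hρ.c, hρ.d, hρ.e, hρ.f]
  · linear_combination k * cube_self hK g.a
  · linear_combination cube_self hK g.d - cube_self hK (g.d + k' * g.b)

/-- an element of `TT K` commutes with `ζ` or swaps the parameters -/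
theorem tt_ce (hK : HypG K 3 1) {d : MulAut (GU K)} (hd : d ∈ TT K) :
    (∀ k k' α, IsCe3 k k' α → α * d = d * α) ∨
      ((Qb K).map d.toMonoidHom = Qa K ∧ ∀ k k' α α', IsCe3 k k' α → IsCe3 (-k') (-k) α' → d * α = α' * d) := by
  have hfin : Finite K := hK.fin
  have hfin' : Finite (GU K) := finite_GU hK
  rcases mem_TT hd with ⟨s, t, τ, h⟩ | ⟨s, t, τ, δ, ρ, h, hρ, rfl⟩
  · exact Or.inl fun k k' α hα => ce_tor hK h hα
  · right
    constructor
    · have hle : (Qb K).map (δ * ρ).toMonoidHom ≤ Qa K := by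
        rintro _ ⟨g, hg, rfl⟩
        have hg' : g.b = 0 := hg
        show (δ (ρ g)).a = 0
        rw [h.a, hρ.a, hg']
        simp
      apply Subgroup.eq_of_le_of_card_ge hle
      have h1 : Nat.card ((Qb K).map (δ * ρ).toMonoidHom) = Nat.card (Qb K) :=
        (Nat.card_congr ((Qb K).equivMapOfInjective _ (δ * ρ).injective).toEquiv).symm
      rw [h1]
      -- the two groups have the same order
      have h2 : (Qa K).map (ρ⁻¹ * δ⁻¹ : MulAut (GU K)).toMonoidHom ≤ Qb K := by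
        rintro _ ⟨g, hg, rfl⟩
        have hg' : g.a = 0 := hg
        show (ρ⁻¹ (δ⁻¹ g)).b = 0
        have h3 : (δ (ρ (ρ⁻¹ (δ⁻¹ g)))).a = g.a := by rw [MulAut.apply_inv_self, MulAut.apply_inv_self]
        rw [h.a, hρ.a, hg'] at h3
        have h4 := (mul_eq_zero.1 h3).resolve_left h.ne1
        exact (map_eq_zero_iff τ τ.injective).1 h4
      have h5 := Subgroup.card_le_of_le h2
      rwa [show Nat.card ((Qa K).map (ρ⁻¹ * δ⁻¹ : MulAut (GU K)).toMonoidHom) = Nat.card (Qa K) from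
        (Nat.card_congr ((Qa K).equivMapOfInjective _ (ρ⁻¹ * δ⁻¹ : MulAut (GU K)).injective).toEquiv).symm] at h5
    · intro k k' α α' hα hα'
      rw [mul_assoc, gr_ce hK hρ hα hα', ← mul_assoc, ← mul_assoc, ce_tor hK h hα']

/-- the uniqueness of the parameter -/
theorem ce_zero (h0 : StLb0.{u}) (hK : HypG K 3 1) {Γ : Subgroup (MulAut (Qb K))} {D : Subgroup (MulAut (GU K))}
    (P : Par 3 (Qb K) Γ D) {m m' : K} {η : MulAut (GU K)} (hη : IsCe3 m m' η) {wb γ : MulAut (Qb K)} (hwb : IsWb wb)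
    (hw : wb ∈ Γ) (hr : Rel η wb γ) (hγ : γ ∈ Γ) : m = 0 := by
  have h3 := three_zero hK
  obtain ⟨h1, -⟩ := h0 hK Γ P.indu P.syl P.nn (by
    intro γ hγ hN
    obtain ⟨x, d, -, h⟩ := P.norm γ hγ hN
    exact ⟨MulAut.conj x * d, h⟩)
  -- the values of `γ`
  have key : ∀ z y : Qb K, (z : GU K) = η y → ((γ z : Qb K) : GU K) = η (wb y : Qb K) := fun z y h => hr y z h
  have hy : ∀ z : Qb K, ∃ y : Qb K, (z : GU K) = η y := by
    intro z
    have hz : (z : GU K).b = 0 := z.2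
    refine ⟨⟨η⁻¹ z, ?_⟩, (MulAut.apply_inv_self _ _ _).symm⟩
    show (η⁻¹ (z : GU K)).b = 0
    rw [← hη.b, MulAut.apply_inv_self, hz]
  have hinn : γ * wb⁻¹ ∈ Inn (Qb K) := by
    refine h1 _ (Γ.mul_mem hγ (Γ.inv_mem hw)) fun g => ?_
    obtain ⟨y, hy⟩ := hy (wb⁻¹ g)
    have h2 : ((γ * wb⁻¹ : MulAut (Qb K)) g : GU K) = η (wb y : Qb K) := key _ _ hy
    have h4 : g = wb (wb⁻¹ g) := (MulAut.apply_inv_self _ _ _).symm
    rw [h2, hη.a, hη.c, hwb.a, hwb.c]
    have h5 : (g : GU K).a = - (wb⁻¹ g : Qb K).1.c := by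
      conv_lhs => rw [h4]
      exact hwb.a _
    have h6 : (g : GU K).c = (wb⁻¹ g : Qb K).1.a := by
      conv_lhs => rw [h4]
      exact hwb.c _
    rw [h5, h6, hy, hη.a, hη.c]
    exact ⟨rfl, rfl⟩
  obtain ⟨h, hh⟩ := hinn
  let z : Qb K := ⟨⟨1, 0, 0, 0, 0, 0⟩, rfl⟩
  obtain ⟨y, hy⟩ := hy z
  have e1 : ((γ z : Qb K) : GU K) = (h : GU K) * (wb z : Qb K) * (h : GU K)⁻¹ := by
    have e2 : γ z = (γ * wb⁻¹) (wb z) := by rw [MulAut.mul_apply, MulAut.inv_apply_self]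
    rw [e2, ← hh]
    rfl
  have e3 := congrArg GU.e (key z y hy)
  rw [e1, cj_e, hη.e, hwb.e, hwb.e] at e3
  have hhb : (h : GU K).b = 0 := h.2
  have hwbb : ((wb z : Qb K) : GU K).b = 0 := (wb z).2
  have y1 : (y : GU K).a = 1 := by
    have := congrArg GU.a hy
    rw [hη.a] at this
    exact this.symm
  have y2 : (0 : K) = (y : GU K).f + m * (y : GU K).a := by
    have := congrArg GU.f hy
    rw [hη.f] at this
    exact this
  rw [hhb, hwbb] at e3
  have z1 : (z : GU K).a = 1 := rfl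
  have z2 : (z : GU K).c = 0 := rfl
  have z3 : (z : GU K).f = 0 := rfl
  rw [z3, z2, y1] at e3
  rw [y1] at y2
  linear_combination -e3 - y2 + (-2 * (h : GU K).a * (h : GU K).c * ((wb z : Qb K) : GU K).a - (h : GU K).a * ((wb z : Qb K) : GU K).d
    + (h : GU K).a ^ 2 * ((wb z : Qb K) : GU K).c + (h : GU K).c * ((wb z : Qb K) : GU K).a ^ 2 + (h : GU K).d * ((wb z : Qb K) : GU K).a
    - (y : GU K).c ^ 2) * h3

/-- the pieces for `q = 3` -/
structure PiecesThree : Prop where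
  base : Pieces.{u}
  real : StReal.{u}
  aut : StAut3.{u}
  lb0 : StLb0.{u}
  lb3 : StLb3.{u}
  la3 : StLa3.{u}

theorem ce_map [Finite (GU K)] {k k' : K} {α : MulAut (GU K)} (hα : IsCe3 k k' α) :
    (Qa K).map α.toMonoidHom = Qa K ∧ (Qb K).map α.toMonoidHom = Qb K := by
  constructor
  · refine map_eq_of fun g hg => ?_
    show (α g).a = 0
    rw [hα.a]
    exact hg
  · refine map_eq_of fun g hg => ?_
    show (α g).b = 0
    rw [hα.b]
    exact hg

/-- the shape of the automizers, `q = 3` -/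
theorem shape_three (H : PiecesThree.{u}) (hK : HypG K 3 1) {Γa : Subgroup (MulAut (Qa K))} {Γb : Subgroup (MulAut (Qb K))}
    {D : Subgroup (MulAut (GU K))} (PA : Par 3 (Qa K) Γa D) (PB : Par 3 (Qb K) Γb D) :
    Full D ∧ ∃ k k' : K, ∀ α : MulAut (GU K), IsCe3 k k' α → ∃ (ra : MulAut (Qa K)) (rb : MulAut (Qb K)),
      IsR α ra ∧ IsR α rb ∧ Γa = (Gen IsWa D).map (MulAut.conj ra).toMonoidHom ∧
      Γb = (Gen IsWb D).map (MulAut.conj rb).toMonoidHom := by
  have hfin : Finite (GU K) := finite_GU hK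
  obtain ⟨tb, gb⟩ := H.lb3 hK _ D PB
  obtain ⟨ta, ga⟩ := H.la3 hK _ D PA
  have hfull : Full D := full_of tb ta
  refine ⟨hfull, ?_⟩
  obtain ⟨k, hk⟩ := gb hfull
  obtain ⟨k', hk'⟩ := ga hfull
  refine ⟨k, k', fun α hα => ?_⟩
  obtain ⟨ma, mb⟩ := ce_map hα
  obtain ⟨ra, hra⟩ := exists_restr ma
  obtain ⟨rb, hrb⟩ := exists_restr mb
  refine ⟨ra, rb, hra, hrb, ?_, ?_⟩
  · refine eq_map_conj hra (P := IsCe3 0 k') (H.aut hK 0 k') ?_ hk'
    intro β hβ g
    have hg : (g : GU K).a = 0 := g.2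
    exact GU.ext (by rw [hβ.a, hα.a]) (by rw [hβ.b, hα.b]) (by rw [hβ.c, hα.c]) (by rw [hβ.d, hα.d])
      (by rw [hβ.e, hα.e]) (by rw [hβ.f, hα.f, hg]; ring)
  · refine eq_map_conj hrb (P := IsCe3 k 0) (H.aut hK k 0) ?_ hk
    intro β hβ g
    have hg : (g : GU K).b = 0 := g.2
    exact GU.ext (by rw [hβ.a, hα.a]) (by rw [hβ.b, hα.b]) (by rw [hβ.c, hα.c]) (by rw [hβ.d, hα.d, hg]; ring)
      (by rw [hβ.e, hα.e]) (by rw [hβ.f, hα.f])

theorem gen_le {p : ℕ} {Q : Subgroup (GU K)} {Γ : Subgroup (MulAut Q)} {D : Subgroup (MulAut (GU K))} (P : Par p Q Γ D)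
    {W : MulAut Q → Prop} (hW : ∀ γ, W γ → γ ∈ Γ) : Gen W D ≤ Γ := by
  refine (Subgroup.closure_le _).2 ?_
  rintro γ ((h | h) | ⟨d, hd, h⟩)
  · exact P.indu h
  · exact hW γ h
  · exact P.D_res d hd γ h

theorem eq_of_map_conj {G : Type*} [Group G] [Finite G] {Γ H : Subgroup G} {t : G} (h : Γ = H.map (MulAut.conj t).toMonoidHom)
    (hle : H ≤ Γ) : Γ = H := by
  symm
  apply Subgroup.eq_of_le_of_card_ge hle
  rw [h]
  exact (Nat.card_congr (H.equivMapOfInjective _ (MulAut.conj t).injective).toEquiv).ge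

/-- **`q = 3`** -/
theorem stMain3_of (H : PiecesThree.{u}) : StMain3.{u} := by
  intro K _ p n _ hK hpn F hF _
  obtain ⟨rfl, rfl⟩ := hpn
  have hfin : Finite (GU K) := finite_GU hK
  have hfinK : Finite K := hK.fin
  refine red_of H.base hK (by norm_num) (by norm_num) ?_ F hF
  intro F hF hEa hEb hess D hD hDc hAF
  have PB := par_of hK hF (Or.inr rfl) (norm_of_ess hK hF hEb) hD hDc hAF
  have PA := par_of hK hF (Or.inl rfl) (norm_of_ess hK hF hEa) hD hDc hAF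
  obtain ⟨hfull, k, k', hkk⟩ := shape_three H hK PA PB
  -- the standard system
  obtain ⟨F', hF', hreal, hAF', hwa, hwb⟩ := H.real hK D hD hDc hfull
  obtain ⟨wa, hwa'⟩ := exists_wa (K := K)
  obtain ⟨wb, hwb'⟩ := exists_wb (K := K)
  have Na' : ¬ ∀ γ ∈ F'.autGroup (Qa K), NormAut ⊤ γ := fun h => not_norm_wa hwa' (h wa (hwa wa hwa'))
  have Nb' : ¬ ∀ γ ∈ F'.autGroup (Qb K), NormAut ⊤ γ := fun h => not_norm_wb hwb' (h wb (hwb wb hwb'))
  have PB' := par_of hK hF' (Or.inr rfl) Nb' hD hDc hAF'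
  have PA' := par_of hK hF' (Or.inl rfl) Na' hD hDc hAF'
  obtain ⟨-, l, l', hll⟩ := shape_three H hK PA' PB'
  have hstd : F'.autGroup (Qa K) = Gen IsWa D ∧ F'.autGroup (Qb K) = Gen IsWb D := by
    obtain ⟨β, hβ⟩ := H.aut hK l l'
    obtain ⟨ra, rb, -, -, h1, h2⟩ := hll β hβ
    exact ⟨eq_of_map_conj h1 (gen_le PA' hwa), eq_of_map_conj h2 (gen_le PB' hwb)⟩
  obtain ⟨hsa, hsb⟩ := hstd
  -- the parameters
  obtain ⟨ζ, hζ⟩ := H.aut hK k k'
  obtain ⟨ra, rb, hra, hrb, hGa, hGb⟩ := hkk ζ hζ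
  obtain ⟨ma, mb⟩ := ce_map hζ
  have hcomm : ∀ d ∈ D, ζ * d = d * ζ := by
    intro d hd
    rcases tt_ce hK (hD hd) with h | ⟨hmap, h⟩
    · exact h k k' ζ hζ
    · -- `ζ' = ζ_{-k', -k}`
      obtain ⟨ζ', hζ'⟩ := H.aut hK (-k') (-k)
      have e1 : d * ζ = ζ' * d := h k k' ζ ζ' hζ hζ'
      have e2 : d * ζ' = ζ * d := by
        refine h (-k') (-k) ζ' ζ hζ' ?_
        rw [neg_neg, neg_neg]
        exact hζ
      -- `η = ζ⁻¹ ζ' = ζ_{m, m}`
      have hη : IsCe3 (-k' - k) (-k - k') (ζ⁻¹ * ζ') := by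
        have e3 : ∀ g, ζ ((ζ⁻¹ * ζ') g) = ζ' g := fun g => by rw [MulAut.mul_apply, MulAut.apply_inv_self]
        have ea : ∀ g : GU K, ((ζ⁻¹ * ζ') g).a = g.a := fun g => by rw [← hζ.a, e3, hζ'.a]
        have eb : ∀ g : GU K, ((ζ⁻¹ * ζ') g).b = g.b := fun g => by rw [← hζ.b, e3, hζ'.b]
        refine ⟨ea, eb, fun g => by rw [← hζ.c, e3, hζ'.c], fun g => ?_, fun g => by rw [← hζ.e, e3, hζ'.e],
          fun g => ?_⟩
        · have h5 := hζ.d ((ζ⁻¹ * ζ') g)
          rw [e3, hζ'.d, eb] at h5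
          linear_combination -h5
        · have h5 := hζ.f ((ζ⁻¹ * ζ') g)
          rw [e3, hζ'.f, ea] at h5
          linear_combination -h5
      have hdF' : d ∈ AF F' := by rw [hAF']; exact Subgroup.mem_sup_right hd
      have hdF : d⁻¹ ∈ AF F := by rw [hAF]; exact Subgroup.inv_mem _ (Subgroup.mem_sup_right hd)
      have hmap' : (Qa K).map (d⁻¹ : MulAut (GU K)).toMonoidHom = Qb K := by
        rw [← hmap, Subgroup.map_map]
        have : (d⁻¹ : MulAut (GU K)).toMonoidHom.comp d.toMonoidHom = MonoidHom.id _ := by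
          ext x : 1
          exact MulAut.inv_apply_self _ _ _
        rw [this, Subgroup.map_id]
      have hwb0 : wb ∈ F'.autGroup (Qb K) := hwb wb hwb'
      obtain ⟨γ1, r1⟩ := exists_rel d hmap wb
      have m1 : γ1 ∈ Gen IsWa D := by
        rw [← hsa]
        exact r1.mem hdF' hmap hwb0
      obtain ⟨γ2, r2⟩ := exists_rel ζ ma γ1
      have m2 : γ2 ∈ F.autGroup (Qa K) := by
        rw [hGa]
        exact (r2.mem_map hra).2 m1
      obtain ⟨γ3, r3⟩ := exists_rel d⁻¹ hmap' γ2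
      have m3 : γ3 ∈ F.autGroup (Qb K) := r3.mem hdF hmap' m2
      obtain ⟨γ4, r4⟩ := exists_rel ζ⁻¹ (map_inv_eq mb) γ3
      have m4 : γ4 ∈ Gen IsWb D := by
        rw [hGb] at m3
        have r5 := r4.inv
        rw [inv_inv] at r5
        exact (r5.mem_map hrb).1 m3
      have r : Rel (ζ⁻¹ * ζ') wb γ4 := by
        have r6 := Rel.comp hmap r1 (Rel.comp ma r2 (Rel.comp hmap' r3 r4))
        have e7 : ζ⁻¹ * d⁻¹ * ζ * d = ζ⁻¹ * ζ' := by
          have e8 : ζ * d = d * ζ' := e2.symm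
          rw [mul_assoc, e8, mul_assoc, inv_mul_cancel_left]
        rwa [e7] at r6
      have hm : -k' - k = 0 := ce_zero H.lb0 hK PB' hη hwb' hwb0 r (by rw [hsb]; exact m4)
      have hζζ : ζ' = ζ := by
        have h6 : -k' = k := by linear_combination hm
        have h7 : -k = k' := by linear_combination hm
        rw [h6, h7] at hζ'
        refine ext_aut fun g => ⟨?_, ?_, ?_, ?_, ?_, ?_⟩
        · rw [hζ.a, hζ'.a]
        · rw [hζ.b, hζ'.b]
        · rw [hζ.c, hζ'.c]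
        · rw [hζ.d, hζ'.d]
        · rw [hζ.e, hζ'.e]
        · rw [hζ.f, hζ'.f]
      rw [e1, hζζ]
  obtain ⟨F1, hF1, hR1, hAF1, hGa1, hGb1⟩ := untwist hF ma mb hra hrb hGa hGb
  have hAF1' : AF F1 = (MulAut.conj : GU K →* MulAut (GU K)).range ⊔ D := by
    rw [hAF1, hAF, Subgroup.map_sup, map_conj_range, map_conj_comm (comm_inv hcomm)]
  have h13 : F1 = F' := eq_of_same H.base hK (by norm_num) (by norm_num) hF1 hF' (hAF1'.trans hAF'.symm)
    (hGa1.trans hsa.symm) (hGb1.trans hsb.symm)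
  rw [← hR1, h13]
  exact hreal

end Cfsg.Agent.H771.GT
end

-- part: H904/GT/LaThree
section
set_option linter.all false
open scoped Cfsg.Agent.FastGrp

/-!
# S5211, `q = 3`: `StLa3` from `StLb3` by the graph automorphism (helper904)
-/

set_option autoImplicit false

namespace Cfsg.Agent.H904.GT.LaThree

open Cfsg Cfsg.FusionSystem Cfsg.Agent.H779.G2 Cfsg.Agent.H756.PU Cfsg.Agent.H802 Cfsg.Agent.H103.GT

universe u

variable {K : Type u} [Field K]

theorem cube (hK : HypG K 3 1) (x : K) : x ^ 3 = x := by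
  have := hK.fin
  have : Fintype K := Fintype.ofFinite K
  have h1 : Fintype.card K = 3 := by rw [← Nat.card_eq_fintype_card, hK.card]; norm_num
  have h2 := FiniteField.pow_card x
  rwa [h1] at h2

/-- `ρ⁻¹ ce3(0, -k) ρ = ce3(k, 0)` -/
theorem ce_down (hK : HypG K 3 1) {ρ α : MulAut (GU K)} {k : K} (h : IsGr ρ) (hα : IsCe3 0 (-k) α) :
    IsCe3 k 0 (ρ⁻¹ * α * ρ) := by
  have h0 := three_eq hK
  have key : ∀ g : GU K, (ρ⁻¹ * α * ρ) g = ⟨g.a, g.b, g.c, g.d, g.e, g.f + k * g.a⟩ := by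
    intro g
    apply ρ.injective
    rw [MulAut.mul_apply, MulAut.mul_apply, MulAut.apply_inv_self]
    apply GU.ext
    · rw [hα.a, h.a, h.a]
    · rw [hα.b, h.b, h.b]
    · rw [hα.c, h.c, h.c]
    · rw [hα.d, h.d, h.d, h.b, cube hK g.a]; ring
    · rw [hα.e, h.e, h.e]
    · rw [hα.f, h.f, h.f, h.a]; ring
  refine ⟨fun g => ?_, fun g => ?_, fun g => ?_, fun g => ?_, fun g => ?_, fun g => ?_⟩
  all_goals rw [key]
  simp

/-- `ρ ce3(k, 0) ρ⁻¹ = ce3(0, -k)` -/
theorem ce_up (hK : HypG K 3 1) {ρ α : MulAut (GU K)} {k : K} (h : IsGr ρ) (hα : IsCe3 k 0 α) :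
    IsCe3 0 (-k) (ρ * α * ρ⁻¹) := by
  have key : ∀ g : GU K, (ρ * α * ρ⁻¹) (ρ g) = ⟨(ρ g).a, (ρ g).b, (ρ g).c, (ρ g).d + -k * (ρ g).b, (ρ g).e, (ρ g).f⟩ := by
    intro g
    rw [MulAut.mul_apply, MulAut.mul_apply, MulAut.inv_apply_self]
    apply GU.ext
    · rw [h.a, h.a, hα.b]
    · rw [h.b, h.b, hα.a]
    · rw [h.c, h.c, hα.a, hα.b, hα.e]
    · rw [h.d, h.d, h.b, hα.a, hα.b, hα.f, cube hK g.a]; ring
    · rw [h.e, h.e, hα.a, hα.b, hα.c]
    · rw [h.f, h.f, hα.a, hα.b, hα.d]; ring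
  refine ⟨fun g => ?_, fun g => ?_, fun g => ?_, fun g => ?_, fun g => ?_, fun g => ?_⟩
  all_goals
    obtain ⟨g, rfl⟩ := ρ.surjective g
    rw [key]
  simp

theorem stLa3 (hb : StLb3.{u}) : StLa3.{u} := by
  intro K _ hK Γ D hP
  have := hK.fin
  obtain ⟨ρ, h⟩ := exists_gr (three_eq hK)
  obtain ⟨h1, h2⟩ := hb hK _ _ (par_swap h hP)
  constructor
  · intro t ht α hα
    have ht' : t⁻¹ ≠ 0 := inv_ne_zero ht
    obtain ⟨β, hβ⟩ := exists_tor (s := t⁻¹) (t := t ^ 2) (RingEquiv.refl K) ht' (pow_ne_zero 2 ht)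
    have h3 : ρ * β * ρ⁻¹ ∈ D := h1 t ht β hβ
    have h4 := gr_tor_conj h hβ
    have h5 : α = ρ * β * ρ⁻¹ := by
      apply ext_aut
      intro g
      have e : (t⁻¹) ^ 3 = (t ^ 3)⁻¹ := inv_pow t 3
      rw [e] at h4
      exact ⟨by rw [hα.a, h4.a], by rw [hα.b, h4.b], by rw [hα.c, h4.c], by rw [hα.d, h4.d], by rw [hα.e, h4.e],
        by rw [hα.f, h4.f]⟩
    rw [h5]
    exact h3
  · intro hD
    obtain ⟨k, hk⟩ := h2 (full_comap h hD)
    refine ⟨-k, fun γ => ?_⟩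
    obtain ⟨γ', rfl⟩ := (rB h).surjective γ
    have e1 : rB h γ' ∈ Γ ↔ γ' ∈ Γ.comap (rB h).toMonoidHom := Iff.rfl
    rw [e1, hk]
    constructor
    · rintro ⟨δ', hδ', hc⟩
      refine ⟨rB h δ', ?_, ?_⟩
      · rw [← gen_map h D]
        exact ⟨δ', hδ', rfl⟩
      · intro α hα g g' hg
        obtain ⟨x, rfl⟩ := (rb h).surjective g
        obtain ⟨x', rfl⟩ := (rb h).surjective g'
        rw [coe_rb, coe_rb] at hg
        rw [coe_rB_rb, coe_rB_rb]
        have h3 := hc _ (ce_down hK h hα) x x' (by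
          rw [MulAut.mul_apply, MulAut.mul_apply, ← hg, MulAut.inv_apply_self])
        rw [← h3, MulAut.mul_apply, MulAut.mul_apply, MulAut.apply_inv_self]
    · rintro ⟨δ, hδ, hc⟩
      rw [← gen_map h D] at hδ
      obtain ⟨δ', hδ', rfl⟩ := hδ
      refine ⟨δ', hδ', fun α hα x x' hx => ?_⟩
      have h3 := hc _ (ce_up hK h hα) (rb h x) (rb h x') (by
        rw [coe_rb, coe_rb, MulAut.mul_apply, MulAut.mul_apply, MulAut.inv_apply_self, ← hx])
      have h4 : ((rB h δ' (rb h x) : Qa K) : GU K) = ρ ((δ' x : Qb K) : GU K) := coe_rB_rb h δ' x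
      have h5 : (((rB h).toMonoidHom δ' (rb h x) : Qa K) : GU K) = ρ ((δ' x : Qb K) : GU K) := h4
      rw [h5, coe_rB_rb, MulAut.mul_apply, MulAut.mul_apply, MulAut.inv_apply_self] at h3
      exact ρ.injective h3

end Cfsg.Agent.H904.GT.LaThree
end

-- part: H771/GT/MainFour
section
prune_inst 0xf43041207c2202000800001220003c62b20000020068400140c007020e89cc408d060820bab0050010c6809460380068111000100220000000000800011c0180002112069058ac00160008000004000000000000000000000000000000000000000000000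
set_option linter.all false
open scoped Cfsg.Agent.FastGrp

/-!
# S5211: the assembly for `q = 4`
-/

set_option autoImplicit false

namespace Cfsg.Agent.H771.GT

open Cfsg Cfsg.FusionSystem Cfsg.Agent.H779.G2 Cfsg.Agent.H756.PU Cfsg.Agent.H802 Cfsg.Agent.H103.GT

universe u

variable {K : Type u} [Field K]

/-! ### the field with four elements -/

theorem two_zero (hK : HypG K 2 2) : (2 : K) = 0 := by
  have := hK.char
  exact_mod_cast CharP.cast_eq_zero K 2

theorem cube_one (hK : HypG K 2 2) {x : K} (hx : x ≠ 0) : x ^ 3 = 1 := by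
  have := hK.fin
  have := Fintype.ofFinite K
  have h4 := FiniteField.pow_card_sub_one_eq_one x hx
  rw [← Nat.card_eq_fintype_card, hK.card] at h4
  exact h4

theorem fourth (hK : HypG K 2 2) (x : K) : x ^ 4 = x := by
  rcases eq_or_ne x 0 with rfl | hx
  · simp
  · linear_combination x * cube_one hK hx

theorem auto_auto (hK : HypG K 2 2) (τ : K ≃+* K) (x : K) : τ (τ x) = x := by
  have h2 := two_zero hK
  rcases eq_or_ne x 0 with rfl | hx
  · simp
  rcases eq_or_ne x 1 with rfl | hx1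
  · simp
  have e1 : x ^ 2 + x + 1 = 0 := by
    have h := cube_one hK hx
    have h3 : (x - 1) * (x ^ 2 + x + 1) = 0 := by linear_combination h
    exact (mul_eq_zero.1 h3).resolve_left (sub_ne_zero.2 hx1)
  have e2 : τ x ^ 2 + τ x + 1 = 0 := by
    have := congrArg τ e1
    simpa using this
  have e3 : (τ x - x) * (τ x + x + 1) = 0 := by linear_combination e2 - e1
  rcases mul_eq_zero.1 e3 with h | h
  · have h' : τ x = x := sub_eq_zero.1 h
    rw [h', h']
  · have h' : τ x = x ^ 2 := by linear_combination h - e1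
    rw [h', map_pow, h']
    linear_combination fourth hK x

/-- the elements of `D` are torus elements -/
theorem tor_of_mem (hK : HypG K 2 2) {D : Subgroup (MulAut (GU K))} (hD : D ≤ TT K)
    (hDc : (Nat.card D).Coprime 2) {d : MulAut (GU K)} (hd : d ∈ D) : ∃ s t, IsTor d s t (RingEquiv.refl K) := by
  have hfin : Finite K := hK.fin
  have key : ∀ (c : MulAut (GU K)), (∃ s t, IsTor c s t (RingEquiv.refl K)) →
      ∀ m : ℕ, ∃ s t, IsTor (c ^ m) s t (RingEquiv.refl K) := by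
    rintro c ⟨s, t, h⟩ m
    induction m with
    | zero => exact ⟨1, 1, by rw [pow_zero]; exact ⟨one_ne_zero, one_ne_zero, fun g => by simp, fun g => by simp, fun g => by simp, fun g => by simp,
        fun g => by simp, fun g => by simp⟩⟩
    | succ m ih =>
      obtain ⟨s', t', h'⟩ := ih
      rw [pow_succ]
      exact ⟨_, _, tor_mul h' h⟩
  rcases mem_TT (hD hd) with ⟨s, t, τ, h⟩ | ⟨s, t, τ, α', ρ, -, hρ, -⟩
  · have h2 : ∃ s t, IsTor (d ^ 2) s t (RingEquiv.refl K) := by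
      have h3 := tor_mul h h
      have e : τ.trans τ = RingEquiv.refl K := RingEquiv.ext fun x => auto_auto hK τ x
      rw [e, ← sq] at h3
      exact ⟨_, _, h3⟩
    have ho : Nat.Coprime 2 (orderOf d) := by
      have h4 : orderOf d ∣ Nat.card D := by
        have := orderOf_dvd_natCard (⟨d, hd⟩ : D)
        rwa [Subgroup.orderOf_mk] at this
      exact (Nat.Coprime.coprime_dvd_left h4 hDc).symm
    obtain ⟨m, hm⟩ := exists_pow_eq_self_of_coprime ho
    have := key _ h2 m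
    rwa [hm] at this
  · exfalso
    have h3 := hρ.three
    have h2 := two_zero hK
    have : (1 : K) = 0 := by linear_combination h3 - h2
    exact one_ne_zero this

theorem ce_comm (hK : HypG K 2 2) {D : Subgroup (MulAut (GU K))} (hD : D ≤ TT K)
    (hDc : (Nat.card D).Coprime 2) {k : K} {α : MulAut (GU K)} (hα : IsCe4 k α) : ∀ d ∈ D, α * d = d * α := by
  intro d hd
  obtain ⟨s, t, h⟩ := tor_of_mem hK hD hDc hd
  have hs := cube_one hK h.ne1
  refine ext_aut fun g => ⟨?_, ?_, ?_, ?_, ?_, ?_⟩ <;>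
    simp only [MulAut.mul_apply, hα.a, hα.b, hα.c, hα.d, hα.e, hα.f, h.a, h.b, h.c, h.d, h.e, h.f, RingEquiv.refl_apply]
  linear_combination (-t ^ 2 * k * g.b ^ 2) * hs

theorem sw_conj (hK : HypG K 2 2) {D : Subgroup (MulAut (GU K))} (hD : D ≤ TT K)
    (hDc : (Nat.card D).Coprime 2) {σ : MulAut (GU K)} (hσ : IsSw σ) : D.map (MulAut.conj σ).toMonoidHom ≤ TT K := by
  rintro _ ⟨d, hd, rfl⟩
  obtain ⟨s, t, h⟩ := tor_of_mem hK hD hDc hd
  have hs := cube_one hK h.ne1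
  obtain ⟨d', h'⟩ := exists_tor (RingEquiv.refl K) (pow_ne_zero 2 h.ne1) h.ne2
  have e : σ * d = d' * σ := by
    refine ext_aut fun g => ⟨?_, ?_, ?_, ?_, ?_, ?_⟩ <;>
      simp only [MulAut.mul_apply, hσ.a, hσ.b, hσ.c, hσ.d, hσ.e, hσ.f, h.a, h.b, h.c, h.d, h.e, h.f, h'.a, h'.b, h'.c,
        h'.d, h'.e, h'.f, RingEquiv.refl_apply]
    · ring
    · linear_combination (-s * t * g.c) * hs
    · linear_combination (-s ^ 3 * t * g.e) * hs
    · linear_combination (-s ^ 3 * t ^ 2 * g.f - s ^ 3 * t ^ 2 * g.c * g.d) * hs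
  have e2 : MulAut.conj σ d = d' := by
    rw [MulAut.conj_apply, e, mul_inv_cancel_right]
  show MulAut.conj σ d ∈ TT K
  rw [e2]
  exact Subgroup.subset_closure (Or.inl ⟨_, _, _, h'⟩)

/-- the pieces for `q = 4` -/
structure PiecesFour : Prop where
  base : Pieces.{u}
  real : StReal.{u}
  aut : StAut4.{u}
  lb4a : StLb4a.{u}
  lb4b : StLb4b.{u}
  la4 : StLa4.{u}

theorem char_of (H : Pieces.{u}) (hK : HypG K 2 2) {Q : Subgroup (GU K)} (hQ : Q = Qa K ∨ Q = Qb K) (α : MulAut (GU K)) :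
    Q.map α.toMonoidHom = Q := (H.ti hK (by norm_num) Q hQ).2.2.2.1 (by norm_num) α

/-- **the normal form**, `q = 4`, `Z₃` invariant -/
theorem norm_four (H : PiecesFour.{u}) (hK : HypG K 2 2) {F : FusionSystem (⊤ : Subgroup (GU K))} (hF : F.IsSaturated 2)
    (hna : ¬ ∀ γ ∈ F.autGroup (Qa K), NormAut ⊤ γ) (hnb : ¬ ∀ γ ∈ F.autGroup (Qb K), NormAut ⊤ γ)
    {D : Subgroup (MulAut (GU K))} (hD : D ≤ TT K) (hDc : (Nat.card D).Coprime 2)
    (hAF : AF F = (MulAut.conj : GU K →* MulAut (GU K)).range ⊔ D) (hZ : Inv (F.autGroup (Qb K)) (Z3 K)) :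
    Full D ∧ ∃ F' : FusionSystem (⊤ : Subgroup (GU K)), F'.IsSaturated 2 ∧ (F'.IsRealizable 2 ↔ F.IsRealizable 2) ∧
      AF F' = (MulAut.conj : GU K →* MulAut (GU K)).range ⊔ D ∧ F'.autGroup (Qa K) = Gen IsWa D ∧
      F'.autGroup (Qb K) = Gen IsWb D := by
  have : Fact (Nat.Prime 2) := ⟨hK.pp⟩
  have hfin : Finite (GU K) := finite_GU hK
  have PB := par_of hK hF (Or.inr rfl) hnb hD hDc hAF
  have PA := par_of hK hF (Or.inl rfl) hna hD hDc hAF
  obtain ⟨tb, gb⟩ := H.lb4b hK _ D PB hZ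
  obtain ⟨ta, ga⟩ := H.la4 hK _ D PA
  have hfull : Full D := full_of tb ta
  refine ⟨hfull, ?_⟩
  obtain ⟨k, hk⟩ := ga hfull
  obtain ⟨α, hα⟩ := (H.aut hK).2 k
  have ma := char_of H.base hK (Or.inl rfl) α
  have mb := char_of H.base hK (Or.inr rfl) α
  obtain ⟨ra, hra⟩ := exists_restr ma
  have hrb : IsR α (1 : MulAut (Qb K)) := by
    intro e
    have he : (e : GU K).b = 0 := e.2
    refine GU.ext (hα.a _).symm (hα.b _).symm (hα.c _).symm (hα.d _).symm (hα.e _).symm ?_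
    rw [hα.f, he]
    simp
  have hGa : F.autGroup (Qa K) = (Gen IsWa D).map (MulAut.conj ra).toMonoidHom := by
    refine eq_map_conj hra (P := IsCe4 k) ⟨α, hα⟩ ?_ hk
    intro β hβ g
    exact GU.ext (by rw [hβ.a, hα.a]) (by rw [hβ.b, hα.b]) (by rw [hβ.c, hα.c]) (by rw [hβ.d, hα.d])
      (by rw [hβ.e, hα.e]) (by rw [hβ.f, hα.f])
  have hGb : F.autGroup (Qb K) = (Gen IsWb D).map (MulAut.conj (1 : MulAut (Qb K))).toMonoidHom := by
    rw [gb hfull, map_one]
    exact (Subgroup.map_id _).symm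
  obtain ⟨F', h1, h2, h3, h4, h5⟩ := untwist hF ma mb hra hrb hGa hGb
  refine ⟨F', h1, h2, ?_, h4, h5⟩
  rw [h3, hAF, Subgroup.map_sup, map_conj_range, map_conj_comm (comm_inv (ce_comm hK hD hDc hα))]

theorem fin_four (H : PiecesFour.{u}) (hK : HypG K 2 2) {F : FusionSystem (⊤ : Subgroup (GU K))} (hF : F.IsSaturated 2)
    (hna : ¬ ∀ γ ∈ F.autGroup (Qa K), NormAut ⊤ γ) (hnb : ¬ ∀ γ ∈ F.autGroup (Qb K), NormAut ⊤ γ)
    {D : Subgroup (MulAut (GU K))} (hD : D ≤ TT K) (hDc : (Nat.card D).Coprime 2)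
    (hAF : AF F = (MulAut.conj : GU K →* MulAut (GU K)).range ⊔ D) (hZ : Inv (F.autGroup (Qb K)) (Z3 K)) :
    F.IsRealizable 2 := by
  have : Fact (Nat.Prime 2) := ⟨hK.pp⟩
  have hfin : Finite K := hK.fin
  obtain ⟨hfull, F1, hF1, hR1, hAF1, hGa1, hGb1⟩ := norm_four H hK hF hna hnb hD hDc hAF hZ
  obtain ⟨F2, hF2, hreal, hAF2, hwa, hwb⟩ := H.real hK D hD hDc hfull
  obtain ⟨wa, hwa'⟩ := exists_wa (K := K)
  obtain ⟨wb, hwb'⟩ := exists_wb (K := K)
  have Na' : ¬ ∀ γ ∈ F2.autGroup (Qa K), NormAut ⊤ γ := fun h => not_norm_wa hwa' (h wa (hwa wa hwa'))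
  have Nb' : ¬ ∀ γ ∈ F2.autGroup (Qb K), NormAut ⊤ γ := fun h => not_norm_wb hwb' (h wb (hwb wb hwb'))
  have hZ2 : Inv (F2.autGroup (Qb K)) (Z3 K) := by
    rcases H.lb4a hK _ D (par_of hK hF2 (Or.inr rfl) Nb' hD hDc hAF2) with h | h
    · exact h
    · exfalso
      have h1 := (h wb (hwb wb hwb') ⟨⟨0, 0, 1, 0, 0, 0⟩, rfl⟩ rfl rfl).1
      rw [hwb'.a] at h1
      exact one_ne_zero (neg_eq_zero.1 h1)
  obtain ⟨-, F3, hF3, hR3, hAF3, hGa3, hGb3⟩ := norm_four H hK hF2 Na' Nb' hD hDc hAF2 hZ2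
  have h13 : F1 = F3 := eq_of_same H.base hK (by norm_num) (by norm_num) hF1 hF3 (hAF1.trans hAF3.symm)
    (hGa1.trans hGa3.symm) (hGb1.trans hGb3.symm)
  rw [← hR1, h13, hR3]
  exact hreal

/-- **`q = 4`** -/
theorem stMain4_of (H : PiecesFour.{u}) : StMain4.{u} := by
  intro K _ p n _ hK hpn F hF _
  obtain ⟨rfl, rfl⟩ := hpn
  have hfin : Finite (GU K) := finite_GU hK
  refine red_of H.base hK (by norm_num) (by norm_num) ?_ F hF
  intro F hF hEa hEb hess D hD hDc hAF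
  have hnb := norm_of_ess hK hF hEb
  have hna := norm_of_ess hK hF hEa
  rcases H.lb4a hK _ D (par_of hK hF (Or.inr rfl) hnb hD hDc hAF) with h | h
  · exact fin_four H hK hF hna hnb hD hDc hAF h
  · obtain ⟨σ, hσ⟩ := (H.aut hK).1
    have mb := char_of H.base hK (Or.inr rfl) σ
    obtain ⟨F', hF', hR, hAF', hess', hQ⟩ := H771.P4.exists_twist F σ hF
    have hEa' : F'.IsEssential 2 (Qa K) := by
      have := (hess' (Qa K)).1 hEa
      rwa [char_of H.base hK (Or.inl rfl)] at this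
    have hEb' : F'.IsEssential 2 (Qb K) := by
      have := (hess' (Qb K)).1 hEb
      rwa [char_of H.base hK (Or.inr rfl)] at this
    obtain ⟨t, ht⟩ := exists_restr mb
    rw [← hR]
    refine fin_four H hK hF' (norm_of_ess hK hF' hEa') (norm_of_ess hK hF' hEb') (D := D.map (MulAut.conj σ).toMonoidHom)
      (sw_conj hK hD hDc hσ) ?_ ?_ ?_
    · have : Nat.card (D.map (MulAut.conj σ).toMonoidHom) = Nat.card D :=
        (Nat.card_congr (D.equivMapOfInjective _ (MulAut.conj σ).injective).toEquiv).symm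
      rwa [this]
    · rw [hAF', hAF, Subgroup.map_sup, map_conj_range]
    · refine ⟨Z3_le_Qb, ?_⟩
      rw [hQ (Qb K) t mb ht]
      rintro _ ⟨γ, hγ, rfl⟩ e he
      obtain ⟨ea, eb, ec⟩ := mem_Z3.1 he
      have h1 : ((t⁻¹ e : Qb K) : GU K).a = 0 ∧ ((t⁻¹ e : Qb K) : GU K).d = 0 := by
        have h2 : (e : GU K) = σ (t⁻¹ e : Qb K) := by rw [← ht, MulAut.apply_inv_self]
        constructor
        · have h3 := congrArg GU.a h2
          rw [hσ.a, ea] at h3
          exact pow_eq_zero_iff (n := 2) (by norm_num) |>.1 h3.symm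
        · have h3 := congrArg GU.c h2
          rw [hσ.c, ec] at h3
          exact h3.symm
      obtain ⟨h3, h4⟩ := h γ hγ (t⁻¹ e) h1.1 h1.2
      show ((t (γ (t⁻¹ e)) : Qb K) : GU K) ∈ Z3 K
      rw [ht]
      refine mem_Z3.2 ⟨?_, ?_, ?_⟩
      · rw [hσ.a, h3]
        simp
      · rw [hσ.b]
        exact (γ (t⁻¹ e)).2
      · rw [hσ.c, h4]

end Cfsg.Agent.H771.GT
end
end
end
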